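import Cfsg.Agent.Lib.Spor.HeTri.CensusFiveData

/-!
# The kernel checks of the census data
-/

set_option autoImplicit false
set_option maxRecDepth 100000
set_option Elab.async false

namespace CfsgLib.Spor.HeTri.Census

open CfsgLib.Spor.HeRecog

theorem l5_mask : maskOK l5Mask [21, 168, 1344] [190, 1366, 1680, 1777] l5Tl = true := by decide +kernel

theorem l5_rows : l5Rows.all (rowOK l5Mask l5Tl) = true := by decide +kernel

theorem l5_cent190 : centOK 190 l5Cent190 = true := by decide +kernel

theorem l5_nodes190 : nodesOK l5Mask l5Rows 190 l5Cent190 [] l5Nodes190 = true := by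
  decide +kernel

theorem l5_cent1366 : centOK 1366 l5Cent1366 = true := by decide +kernel

theorem l5_nodes1366 : nodesOK l5Mask l5Rows 1366 l5Cent1366 [] l5Nodes1366 = true := by
  decide +kernel

theorem l5_trans1680 : transOK l5Mask l5Rows [190, 1366, 1680, 1777] [190, 1366] 1680 60 = true := by decide +kernel

theorem l5_trans1777 : transOK l5Mask l5Rows [190, 1366, 1680, 1777] [190, 1366] 1777 60 = true := by decide +kernel

theorem l5_nodup : ∀ r ∈ l5Rows, r.2.1.Nodup := by decide +kernel

end CfsgLib.Spor.HeTri.Census
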