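import Cfsg.Agent.Lib.Spor.HeTri.CensusHeldData

/-!
# The kernel checks of the census data
-/

set_option autoImplicit false
set_option maxRecDepth 100000
set_option Elab.async false

namespace CfsgLib.Spor.HeTri.Census

open CfsgLib.Spor.HeRecog

theorem he_mask : maskOK heMask [21, 168, 190, 1344, 1366] [1680, 1777] heTl = true := by decide +kernel

theorem he_rows : heRows.all (rowOK heMask heTl) = true := by decide +kernel

theorem he_trans1777 : transOK heMask heRows [1680, 1777] [1680] 1777 97 = true := by decide +kernel

theorem he_nodup : ∀ r ∈ heRows, r.2.1.Nodup := by decide +kernel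

end CfsgLib.Spor.HeTri.Census
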