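import Cfsg.Agent.Lib.Spor.HeTri.CensusMathieuData

/-!
# The kernel checks of the census data
-/

set_option autoImplicit false
set_option maxRecDepth 100000
set_option Elab.async false

namespace CfsgLib.Spor.HeTri.Census

open CfsgLib.Spor.HeRecog

theorem m24_mask : maskOK m24Mask [21, 168, 1344, 1366] [190, 1680, 1777] m24Tl = true := by decide +kernel

theorem m24_rows : m24Rows.all (rowOK m24Mask m24Tl) = true := by decide +kernel

theorem m24_cent190 : centOK 190 m24Cent190 = true := by decide +kernel

theorem m24_nodes190 : nodesOK m24Mask m24Rows 190 m24Cent190 [] m24Nodes190 = true := by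
  decide +kernel

theorem m24_trans1680 : transOK m24Mask m24Rows [190, 1680, 1777] [190] 1680 80 = true := by decide +kernel

theorem m24_trans1777 : transOK m24Mask m24Rows [190, 1680, 1777] [190] 1777 80 = true := by decide +kernel

theorem m24_nodup : ∀ r ∈ m24Rows, r.2.1.Nodup := by decide +kernel

end CfsgLib.Spor.HeTri.Census
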