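import Cfsg.Agent.Lib.Spor.HeTri.CensusSound
import Cfsg.Agent.Lib.Spor.HeTri.CensusFiveCheck
import Cfsg.Agent.Lib.Spor.HeTri.CensusMathieuCheck
import Cfsg.Agent.Lib.Spor.HeTri.CensusHeldCheck

/-!
# A subgroup with the centraliser and the fusion of `z` is the whole group

For the patterns of `SL(5, 2)` and `M₂₄` nothing else is needed.  For the pattern of He the
centraliser of the involution `1680` must be given.
-/

set_option autoImplicit false
set_option maxRecDepth 100000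
set_option linter.unusedSectionVars false

namespace CfsgLib.Spor.HeTri

open CfsgLib.Spor.HeRecog Census Subgroup

universe u

theorem five_cases : (∀ p ∈ clsL 0, p.1 ∈ [190, 1366, 1680, 1777] ∨
      ∀ m ∈ clsOf 0 p.1, isT l5Mask m = true) ∧
    (∀ a ∈ [190, 1366, 1680, 1777], a ∈ reps ∧ a ∉ l5T ∧ a < 21504 ∧ isT l5Mask a = false ∧
      mulN 0 a a = 0 ∧ a ≠ 0) ∧
    l5Nodes190.any (fun n => decide (n.1 = [0, 190])) = true ∧
    l5Nodes1366.any (fun n => decide (n.1 = [0, 1366])) = true := by decide +kernel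

theorem mathieu_cases : (∀ p ∈ clsL 0, p.1 ∈ [190, 1680, 1777] ∨
      ∀ m ∈ clsOf 0 p.1, isT m24Mask m = true) ∧
    (∀ a ∈ [190, 1680, 1777], a ∈ reps ∧ a ∉ m24T ∧ a < 21504 ∧ isT m24Mask a = false ∧
      mulN 0 a a = 0 ∧ a ≠ 0) ∧
    m24Nodes190.any (fun n => decide (n.1 = [0, 190])) = true := by decide +kernel

theorem held_cases : (∀ p ∈ clsL 0, p.1 ∈ [1680, 1777] ∨
      ∀ m ∈ clsOf 0 p.1, isT heMask m = true) ∧
    (∀ a ∈ [1680, 1777], a ∈ reps ∧ a ∉ heT ∧ a < 21504 ∧ isT heMask a = false ∧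
      mulN 0 a a = 0 ∧ a ≠ 0) := by decide +kernel

theorem census_tables_sub : (∀ a ∈ l5T, a ∈ reps) ∧ (∀ a ∈ m24T, a ∈ reps) ∧
    ∀ a ∈ heT, a ∈ reps := by decide +kernel

variable {G : Type u} [Group G] [Finite G] {z : G} (D : Cen 0 z)

/-- **P7**, the pattern of `SL(5, 2)`. -/
theorem eq_top_l5 (hP : Pattern D l5T) (H : Subgroup G)
    (hcent : centralizer ({z} : Set G) ≤ H)
    (hfus : ∀ x ∈ H, IsConj z x → ∃ h ∈ H, h * z * h⁻¹ = x) : H = ⊤ := by
  obtain ⟨hF, hFa, hn1, hn2⟩ := five_cases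
  have hF' : ∀ a ∈ [190, 1366, 1680, 1777], a ∈ reps ∧ a ∉ l5T := fun a ha =>
    ⟨(hFa a ha).1, (hFa a ha).2.1⟩
  have hM := marks_of_check D l5_mask hP census_tables_sub.1 hF'
  have hR : ∀ r ∈ l5Rows, RowSpec D l5Mask r := fun r hr =>
    rowSpec_of_check D l5_mask hM hP hF' (List.all_eq_true.1 l5_rows r hr) (l5_nodup r hr)
  have h190 : CentIn D H 190 := by
    obtain ⟨n, hn, e⟩ := List.any_eq_true.1 hn1
    exact centIn_of_good D (of_decide_eq_true e ▸ nodes_good D hcent hfus hM hR (by norm_num)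
      l5_cent190 _ [] (fun K hK => absurd hK List.not_mem_nil) l5_nodes190 n hn)
  have h1366 : CentIn D H 1366 := by
    obtain ⟨n, hn, e⟩ := List.any_eq_true.1 hn2
    exact centIn_of_good D (of_decide_eq_true e ▸ nodes_good D hcent hfus hM hR (by norm_num)
      l5_cent1366 _ [] (fun K hK => absurd hK List.not_mem_nil) l5_nodes1366 n hn)
  have hgood : ∀ q ∈ [190, 1366], CentIn D H q := by
    intro q hq
    simp only [List.mem_cons, List.not_mem_nil, or_false] at hq
    rcases hq with rfl | rfl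
    exacts [h190, h1366]
  obtain ⟨-, -, h0, h1, h2, h3⟩ := hFa 190 (by simp)
  refine eq_top_of_reps D hcent hfus hM hF (fun q hq => ?_) (List.mem_cons_self) h0 h1 h2 h3
  simp only [List.mem_cons, List.not_mem_nil, or_false] at hq
  rcases hq with rfl | rfl | rfl | rfl
  · exact h190
  · exact h1366
  · obtain ⟨-, -, e0, e1, e2, e3⟩ := hFa 1680 (by simp)
    exact trans_good D hcent hfus hM hR l5_trans1680 e0 e1 e2 e3 hF hgood
  · obtain ⟨-, -, e0, e1, e2, e3⟩ := hFa 1777 (by simp)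
    exact trans_good D hcent hfus hM hR l5_trans1777 e0 e1 e2 e3 hF hgood

/-- **P7**, the pattern of `M₂₄`. -/
theorem eq_top_m24 (hP : Pattern D m24T) (H : Subgroup G)
    (hcent : centralizer ({z} : Set G) ≤ H)
    (hfus : ∀ x ∈ H, IsConj z x → ∃ h ∈ H, h * z * h⁻¹ = x) : H = ⊤ := by
  obtain ⟨hF, hFa, hn1⟩ := mathieu_cases
  have hF' : ∀ a ∈ [190, 1680, 1777], a ∈ reps ∧ a ∉ m24T := fun a ha =>
    ⟨(hFa a ha).1, (hFa a ha).2.1⟩
  have hM := marks_of_check D m24_mask hP census_tables_sub.2.1 hF'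
  have hR : ∀ r ∈ m24Rows, RowSpec D m24Mask r := fun r hr =>
    rowSpec_of_check D m24_mask hM hP hF' (List.all_eq_true.1 m24_rows r hr) (m24_nodup r hr)
  have h190 : CentIn D H 190 := by
    obtain ⟨n, hn, e⟩ := List.any_eq_true.1 hn1
    exact centIn_of_good D (of_decide_eq_true e ▸ nodes_good D hcent hfus hM hR (by norm_num)
      m24_cent190 _ [] (fun K hK => absurd hK List.not_mem_nil) m24_nodes190 n hn)
  have hgood : ∀ q ∈ [190], CentIn D H q := fun q hq => List.mem_singleton.1 hq ▸ h190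
  obtain ⟨-, -, h0, h1, h2, h3⟩ := hFa 190 (by simp)
  refine eq_top_of_reps D hcent hfus hM hF (fun q hq => ?_) (List.mem_cons_self) h0 h1 h2 h3
  simp only [List.mem_cons, List.not_mem_nil, or_false] at hq
  rcases hq with rfl | rfl | rfl
  · exact h190
  · obtain ⟨-, -, e0, e1, e2, e3⟩ := hFa 1680 (by simp)
    exact trans_good D hcent hfus hM hR m24_trans1680 e0 e1 e2 e3 hF hgood
  · obtain ⟨-, -, e0, e1, e2, e3⟩ := hFa 1777 (by simp)
    exact trans_good D hcent hfus hM hR m24_trans1777 e0 e1 e2 e3 hF hgood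

/-- **P7**, the pattern of He. -/
theorem eq_top_he (hP : Pattern D heT) (H : Subgroup G)
    (hcent : centralizer ({z} : Set G) ≤ H)
    (hfus : ∀ x ∈ H, IsConj z x → ∃ h ∈ H, h * z * h⁻¹ = x)
    (hu : centralizer ({D.val uN} : Set G) ≤ H) : H = ⊤ := by
  obtain ⟨hF, hFa⟩ := held_cases
  have hF' : ∀ a ∈ [1680, 1777], a ∈ reps ∧ a ∉ heT := fun a ha =>
    ⟨(hFa a ha).1, (hFa a ha).2.1⟩
  have hM := marks_of_check D he_mask hP census_tables_sub.2.2 hF'
  have hR : ∀ r ∈ heRows, RowSpec D heMask r := fun r hr =>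
    rowSpec_of_check D he_mask hM hP hF' (List.all_eq_true.1 he_rows r hr) (he_nodup r hr)
  have hgood : ∀ q ∈ [1680], CentIn D H q := fun q hq => List.mem_singleton.1 hq ▸ hu
  obtain ⟨-, -, h0, h1, h2, h3⟩ := hFa 1680 (by simp)
  refine eq_top_of_reps D hcent hfus hM hF (fun q hq => ?_) (List.mem_cons_self) h0 h1 h2 h3
  simp only [List.mem_cons, List.not_mem_nil, or_false] at hq
  rcases hq with rfl | rfl
  · exact hu
  · obtain ⟨-, -, e0, e1, e2, e3⟩ := hFa 1777 (by simp)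
    exact trans_good D hcent hfus hM hR he_trans1777 e0 e1 e2 e3 hF hgood

end CfsgLib.Spor.HeTri
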