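import Cfsg.Agent.Lib.Spor.HeTri.HeFus

/-!
# The interface between the two halves of the Held branch

`HeGens D` is the embedding of the presented Held group by seven elements; `StmtHeGens` produces it,
`StmtHeTop` shows that it is onto.
-/

set_option autoImplicit false

namespace CfsgLib.Spor.HeTri.HeCase

open CfsgLib.Spor.HeRecog Cfsg.Spor

universe u

/-- the values of six of the seven generators in the model -/
def genNum : He.Gen → ℕ
  | .a => 1680
  | .b => 2971
  | .c => 1777
  | .d => 0
  | .e => zN
  | .f => 672
  | .g => 5376

/-- An embedding of the presented Held group extending six elements of the model. -/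
structure HeGens {G : Type u} [Group G] {z : G} (D : Cen 0 z) where
  φ : Cfsg.Spor.He →* G
  inj : Function.Injective φ
  φ_gen : ∀ x : He.Gen, x ≠ .d → φ (PresentedGroup.of x) = D.val (genNum x)

/-- The elements satisfying the relations of He. -/
def StmtHeGens : Prop :=
  ∀ {G : Type u} [Group G] [Finite G] {z : G} (D : Cen 0 z), FusT D → Nonempty (HeGens D)

/-- The embedding is onto. -/
def StmtHeTop : Prop :=
  ∀ {G : Type u} [Group G] [Finite G] {z : G} (D : Cen 0 z),
    FusT D → ∀ E : HeGens D, E.φ.range = ⊤

end CfsgLib.Spor.HeTri.HeCase
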