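import Cfsg.Agent.Lib.Spor.HeTri.Interface

/-!
# The fusion pattern of the Held group
-/

set_option autoImplicit false

namespace CfsgLib.Spor.HeTri.HeCase

open CfsgLib.Spor.HeRecog

universe u

/-- The fusion of the classes of the centraliser as in the Held group, without a hypothesis on the
order of the group. -/
structure FusT {G : Type u} [Group G] {z : G} (D : Cen 0 z) : Prop where
  u1680 : ¬ IsConj (D.val 1680) z
  u1777 : ¬ IsConj (D.val 1777) z
  t168 : IsConj (D.val 168) z
  t1344 : IsConj (D.val 1344) z
  t21 : IsConj (D.val 21) z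
  t190 : IsConj (D.val 190) z
  t1366 : IsConj (D.val 1366) z

theorem fusT_of_pattern {G : Type u} [Group G] {z : G} {D : Cen 0 z} (h : Pattern D heT) :
    FusT D where
  u1680 hc := absurd ((h 1680 (by decide)).1 hc) (by decide)
  u1777 hc := absurd ((h 1777 (by decide)).1 hc) (by decide)
  t168 := (h 168 (by decide)).2 (by decide)
  t1344 := (h 1344 (by decide)).2 (by decide)
  t21 := (h 21 (by decide)).2 (by decide)
  t190 := (h 190 (by decide)).2 (by decide)
  t1366 := (h 1366 (by decide)).2 (by decide)

end CfsgLib.Spor.HeTri.HeCase
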