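import Cfsg.Agent.Lib.Spor.HeRecog.BasicData

/-!
# The order of a Sylow two-subgroup from the centraliser of an involution

If the centre of a Sylow two-subgroup of `C(z)` is generated by `z`, the group has Sylow
two-subgroups of order `1024`.
-/

set_option autoImplicit false
set_option linter.style.haveILetI false
set_option maxRecDepth 100000

namespace CfsgLib.Spor.HeRecog

open Subgroup

universe u

theorem sylow_centre_check : ∀ p ∈ clsL 0, p.1 = zN ∨ centN 0 p.1 % 1024 ≠ 0 := fun p hp => by
  rcases sigZero_reps p hp with h | h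
  · exact Or.inl h
  · obtain ⟨t, ht, htp⟩ := List.any_eq_true.1 h
    exact Or.inr (beq_iff_eq.1 htp ▸ centN_sig t ht)

/-- An involution of `C(z)` other than `z` centralises no Sylow two-subgroup of it. -/
theorem Cen.eq_z_of_card {G : Type u} [Group G] [Finite G] {z : G} (D : Cen 0 z) {x : G}
    (hx : orderOf x = 2) (hxz : x * z = z * x) {R : Subgroup G} (hR : Nat.card R = 2 ^ 10)
    (hRz : ∀ g ∈ R, g * z = z * g) (hRx : ∀ g ∈ R, g * x = x * g) : x = z := by
  obtain ⟨m, hm, rfl, p, hp, hmp⟩ := D.invol_val hx hxz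
  obtain ⟨n, hn, hcj, ha, -⟩ := D.cls_conj hmp
  rcases sylow_centre_check p hp with h | h
  · rw [← hcj, h, D.cjN_zN hn, D.val_z]
  · exfalso
    refine h ?_
    rw [← D.centN_cj hn ha, hcj, ← D.card_centN hm]
    refine Nat.mod_eq_zero_of_dvd ?_
    let K : Subgroup G := centralizer ({z} : Set G) ⊓ centralizer ({D.val m} : Set G)
    have hK : Nat.card K = Nat.card {g : G // g * z = z * g ∧ g * D.val m = D.val m * g} :=
      Nat.card_congr (Equiv.subtypeEquivRight fun g => by
        rw [mem_inf, mem_centralizer_singleton_iff, mem_centralizer_singleton_iff])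
    have h' := card_dvd_of_le (show R ≤ K from fun g hg =>
      mem_inf.2 ⟨mem_centralizer_singleton_iff.2 (hRz g hg),
        mem_centralizer_singleton_iff.2 (hRx g hg)⟩)
    rw [hR] at h'
    rw [← hK]
    exact (show (2 : ℕ) ^ 10 = 1024 by norm_num) ▸ h'

theorem Cen.not_2048 {G : Type u} [Group G] [Finite G] {z : G} (D : Cen 0 z) :
    ¬ 2048 ∣ Nat.card G := by
  intro hd
  haveI : Fact (Nat.Prime 2) := ⟨Nat.prime_two⟩
  obtain ⟨R', hR'⟩ := Sylow.exists_subgroup_card_pow_prime 2 (n := 10)
    (G := centralizer ({z} : Set G)) (by rw [D.card_cent]; norm_num)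
  set R := R'.map (centralizer ({z} : Set G)).subtype with hR
  have hcR : Nat.card R = 2 ^ 10 := by
    rw [hR, card_map_of_injective (subtype_injective _), hR']
  obtain ⟨P, hP, hRP⟩ := Sylow.exists_subgroup_card_pow_prime_le 2 (m := 11)
    (show 2 ^ 11 ∣ Nat.card G by norm_num; exact hd) R hcR (by norm_num)
  have hidx : (R.subgroupOf P).index = 2 := by
    have h := card_mul_index (R.subgroupOf P)
    rw [Nat.card_congr (subgroupOfEquivOfLe hRP).toEquiv, hcR, hP] at h
    omega
  haveI : (R.subgroupOf P).Normal := normal_of_index_eq_two hidx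
  have hRz : ∀ g ∈ R, g * z = z * g := by
    rintro _ ⟨g, -, rfl⟩
    exact mem_centralizer_singleton_iff.1 g.2
  have hzR : z ∈ R := by
    have hzC : z ∈ centralizer ({z} : Set G) := mem_centralizer_singleton_iff.2 rfl
    refine ⟨⟨z, hzC⟩, ?_, rfl⟩
    have hp : IsPGroup 2 (zpowers (⟨z, hzC⟩ : centralizer ({z} : Set G))) :=
      IsPGroup.of_card (n := 1) (by rw [Nat.card_zpowers, orderOf_mk, D.ord, pow_one])
    have hn : (Nat.card (centralizer ({z} : Set G))).factorization 2 = 10 := by
      rw [D.card_cent]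
      have h1 := (Nat.prime_two.pow_dvd_iff_le_factorization (by norm_num : (21504 : ℕ) ≠ 0)).1
        (show 2 ^ 10 ∣ 21504 by norm_num)
      have h2 : ¬ 11 ≤ (21504 : ℕ).factorization 2 := fun h => absurd
        ((Nat.prime_two.pow_dvd_iff_le_factorization (by norm_num : (21504 : ℕ) ≠ 0)).2 h)
        (by norm_num)
      omega
    let S : Sylow 2 (centralizer ({z} : Set G)) := Sylow.ofCard R' (by rw [hR', hn])
    have hm : (⟨z, hzC⟩ : centralizer ({z} : Set G)) ∈ zpowers (⟨z, hzC⟩ : centralizer ({z} : Set G)) ⊓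
        normalizer (S : Set (centralizer ({z} : Set G))) := by
      refine ⟨mem_zpowers _, mem_normalizer_iff.2 fun b => ?_⟩
      have : (⟨z, hzC⟩ : centralizer ({z} : Set G)) * b * (⟨z, hzC⟩ : centralizer ({z} : Set G))⁻¹ = b :=
        Subtype.ext (by
          show z * (b : G) * z⁻¹ = b
          rw [← mem_centralizer_singleton_iff.1 b.2, mul_inv_cancel_right])
      rw [this]
    rw [hp.inf_normalizer_sylow S] at hm
    exact hm.2
  have key : ∀ p ∈ P, p * z = z * p := by
    intro p hp
    have hconj : ∀ q ∈ P, ∀ g ∈ R, q * g * q⁻¹ ∈ R := fun q hq g hg' =>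
      (inferInstance : (R.subgroupOf P).Normal).conj_mem ⟨g, hRP hg'⟩ hg' ⟨q, hq⟩
    refine mul_inv_eq_iff_eq_mul.1 (D.eq_z_of_card (x := p * z * p⁻¹)
      (((MulAut.conj p).orderOf_eq z).trans D.ord) (hRz _ (hconj p hp z hzR)) hcR hRz
      fun g hg => ?_)
    have h'' := hRz _ (hconj p⁻¹ (inv_mem hp) g hg)
    rw [inv_inv] at h''
    calc g * (p * z * p⁻¹) = p * (p⁻¹ * g * p * z) * p⁻¹ := by group
      _ = p * (z * (p⁻¹ * g * p)) * p⁻¹ := by rw [h'']
      _ = p * z * p⁻¹ * g := by group
  have hle : P ≤ centralizer ({z} : Set G) := fun p hp =>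
    mem_centralizer_singleton_iff.2 (key p hp)
  have := card_dvd_of_le hle
  rw [hP, D.card_cent] at this
  norm_num at this

end CfsgLib.Spor.HeRecog
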