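import Cfsg.Agent.Lib.Spor.HeRecog.UCentLocal
import Cfsg.Agent.Lib.Spor.HeTri.HeFus
import Cfsg.Agent.Lib.Spor.HeTri.SylowTwo
import Cfsg.Agent.Lib.Small.SuzOrder.Four.Cent
import Cfsg.Agent.Lib.L34Cent.Four
import Cfsg.Agent.Lib.Involutions.ZStar.Main
import Cfsg.Agent.Lib.Base.Cores

/-!
# The centraliser of an involution of the second class: the four-group is normal
-/

set_option autoImplicit false
set_option linter.style.haveILetI false
set_option linter.unusedSectionVars false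
set_option maxRecDepth 100000
set_option maxHeartbeats 1000000

namespace CfsgLib.Spor.HeTri.HeCase

open Subgroup CfsgLib.Spor.HeRecog CfsgLib.Spor.HeRecog.UC

universe u

variable {G : Type u} [Group G] {z : G}

section

variable (D : Cen 0 z)
include D

variable (hF : FusT D)
include hF

theorem isT_conj {m : Nat} (hm : m < 21504) (h : isT m = true) : IsConj (D.val m) z := by
  simp only [isT, Bool.and_eq_true, Bool.not_eq_true'] at h
  obtain ⟨⟨h0, h2⟩, hU⟩ := h
  rcases invol_cases D.hk hm (Nat.eq_of_beq_eq_true h2) with rfl | ⟨p, hp, hmp⟩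
  · simp at h0
  have hc : IsConj (D.val p.1) (D.val m) := D.cls_isConj ((D.clsOf_eq hp).symm ▸ hmp)
  refine hc.symm.trans ?_
  have hr := UC.reps p hp
  have hu := uL_class p hp m hmp
  rw [hU] at hu
  simp only [List.mem_cons, List.not_mem_nil, or_false] at hr
  rcases hr with e | e | e | e | e | e | e | e <;> rw [e] at hu ⊢
  · rw [show D.val 10752 = z from D.val_z]
  · exact hF.t168
  · exact hF.t1344
  · exact hF.t21
  · exact hF.t190
  · exact hF.t1366
  · simp at hu
  · simp at hu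

theorem uL_not_conj {m : Nat} (hm : inL uL m = true) : ¬ IsConj (D.val m) z := by
  rw [inL_iff, uL, List.mem_append] at hm
  intro h
  rcases hm with hm | hm
  · exact hF.u1680 ((D.cls_isConj hm).trans h)
  · exact hF.u1777 ((D.cls_isConj hm).trans h)

theorem val_order {m : Nat} (hm : m < 21504) (h : orderOf (D.val m) = 2) :
    Nat.beq m 0 = false ∧ Nat.beq (mulN 0 m m) 0 = true := by
  refine ⟨?_, ?_⟩
  · by_contra hb
    rw [Bool.not_eq_false] at hb
    rw [Nat.eq_of_beq_eq_true hb, D.val_zero, orderOf_one] at h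
    omega
  · rw [D.val_sq hm (sq_eq_one_of_order h)]; rfl

theorem isT_iff {m : Nat} (hm : m < 21504) : isT m = true ↔ IsConj (D.val m) z := by
  refine ⟨isT_conj D hF hm, fun h => ?_⟩
  obtain ⟨h0, h2⟩ := val_order D hF hm ((order_of_isConj h).trans D.ord)
  simp only [isT, h0, h2, Bool.not_false, Bool.true_and, Bool.not_eq_true']
  by_contra hu
  rw [Bool.not_eq_false] at hu
  exact uL_not_conj D hF hu h

theorem isU_iff {m : Nat} (hm : m < 21504) :
    isU m = true ↔ orderOf (D.val m) = 2 ∧ ¬ IsConj (D.val m) z := by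
  refine ⟨fun h => ?_, fun h => ?_⟩
  · simp only [isU, Bool.and_eq_true, Bool.not_eq_true'] at h
    exact ⟨D.val_invol hm (Nat.eq_of_beq_eq_true h.1.2) fun e => by
      rw [e] at h; simp at h, uL_not_conj D hF h.2⟩
  · obtain ⟨h0, h2⟩ := val_order D hF hm h.1
    simp only [isU, h0, h2, Bool.not_false, Bool.true_and]
    by_contra hu
    refine h.2 (isT_conj D hF hm ?_)
    simp only [isT, h0, h2, Bool.not_false, Bool.true_and, Bool.not_eq_true']
    rwa [Bool.not_eq_true] at hu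

theorem u_not_conj : ¬ IsConj (D.val uN) z := hF.u1680

theorem big_val {m : Nat} (hm : m ∈ usL) : isBig m = true ↔ Big z (D.val uN) (D.val m) := by
  have hlt := (us_lt hm).1
  simp only [isBig, Bool.and_eq_true, Bool.not_eq_true', Big, isT_iff D hF hlt]
  constructor
  · rintro ⟨h1, h2⟩
    refine ⟨h1, (us_comm D hm).2, fun h => ?_⟩
    rw [← D.val_mul _ _ hlt lts.1, ← isT_iff D hF (mulN_lt hlt _ _), h2] at h
    exact absurd h Bool.false_ne_true
  · rintro ⟨h1, -, h3⟩
    refine ⟨h1, ?_⟩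
    by_contra hc
    rw [Bool.not_eq_false] at hc
    exact h3 (D.val_mul _ _ hlt lts.1 ▸ isT_conj D hF (mulN_lt hlt _ _) hc)

theorem zN_mem : zN ∈ usL := by
  obtain ⟨m, hm, e⟩ := mem_us D (g := z) rfl (uz D).symm
  rwa [D.val_inj zN m lts.2.2.2 (us_lt hm).1 (by rw [D.val_z, e])]

theorem big_z : Big z (D.val uN) z := by
  have := (big_val D hF (zN_mem D hF)).1 consts.2.2.2.2.2.2.2.2
  rwa [D.val_z] at this

theorem big_conj {t g : G} (ht : Big z (D.val uN) t) (hg : g * D.val uN = D.val uN * g) :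
    Big z (D.val uN) (g * t * g⁻¹) := by
  have hu : g * D.val uN * g⁻¹ = D.val uN := by rw [hg, mul_inv_cancel_right]
  refine ⟨isConj_conj ht.1, ?_, fun h => ht.2.2 ?_⟩
  · have := conj_comm (g := g) ht.2.1
    rwa [hu] at this
  · have h' : g * t * g⁻¹ * D.val uN = g * (t * D.val uN) * g⁻¹ := by rw [conj_mul_conj, hu]
    rw [h'] at h
    exact (isConj_iff.2 ⟨g, rfl⟩ : IsConj (t * D.val uN) _).trans h

theorem not_conj_invol {x : G} (hx : orderOf x = 2) (hxz : x * z = z * x) (hn : ¬ IsConj x z) :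
    ∃ m < 21504, D.val m = x ∧ isU m = true := by
  obtain ⟨m, hm, rfl⟩ := D.val_surj x hxz
  exact ⟨m, hm, rfl, (isU_iff D hF hm).2 ⟨hx, hn⟩⟩

/-- Every conjugate of `z` of the type of `z` with respect to `u` is its conjugate in `C(u)`. -/
theorem big_transport {t : G} (ht : Big z (D.val uN) t) :
    ∃ g : G, g * D.val uN = D.val uN * g ∧ g * t * g⁻¹ = z := by
  obtain ⟨g, hg⟩ := isConj_iff.1 ht.1
  set x := g * D.val uN * g⁻¹ with hx
  have hxz : x * z = z * x := by rw [← hg]; exact conj_comm ht.2.1.symm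
  have hxo : orderOf x = 2 :=
    (order_of_isConj (isConj_iff.2 ⟨g, rfl⟩ : IsConj (D.val uN) x)).symm.trans (ord_u D)
  have hxn : ¬ IsConj x z := fun h => u_not_conj D hF
    ((isConj_iff.2 ⟨g, rfl⟩ : IsConj (D.val uN) x).trans h)
  obtain ⟨m, hm, hmx, hmU⟩ := not_conj_invol D hF hxo hxz hxn
  have hzx : z * x = g * (t * D.val uN) * g⁻¹ := by rw [conj_mul_conj, hg]
  have htu : orderOf (t * D.val uN) = 2 := by
    refine orderOf_eq_prime ?_ fun e => u_not_conj D hF ?_
    · have h1 : t * t = 1 := sq_eq_one_of_order ((order_of_isConj ht.1).trans D.ord)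
      rw [pow_two, show t * D.val uN * (t * D.val uN) = t * (D.val uN * t) * D.val uN by group,
        ← ht.2.1, show t * (t * D.val uN) * D.val uN = (t * t) * (D.val uN * D.val uN) by group,
        h1, uu D, one_mul]
    · have h1 : t = D.val uN :=
        (eq_inv_of_mul_eq_one_left e).trans (inv_eq_of_mul_eq_one_right (uu D))
      exact h1 ▸ ht.1
  have hzm : isU (mulN 0 zN m) = true := by
    refine (isU_iff D hF (mulN_lt lts.2.2.2 _ _)).2 ?_
    rw [D.val_mul _ _ lts.2.2.2 hm, D.val_z, hmx, hzx]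
    exact ⟨(order_of_isConj (isConj_iff.2 ⟨g, rfl⟩ : IsConj (t * D.val uN) _)).symm.trans htu,
      fun h => ht.2.2 ((isConj_iff.2 ⟨g, rfl⟩ : IsConj (t * D.val uN) _).trans h)⟩
  simp only [isU, Bool.and_eq_true] at hmU hzm
  have hcl := all_spec uL_zu (inL_iff.1 hmU.2)
  simp only [hzm.2, Bool.not_true, Bool.false_or] at hcl
  obtain ⟨n, hn, hc, -⟩ := D.cls_conj (inL_iff.1 hcl)
  have hcn : D.val n * D.val uN * (D.val n)⁻¹ = x := by
    rw [← D.val_cj hn lts.1, ← hmx]; exact congrArg D.val hc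
  refine ⟨(D.val n)⁻¹ * g, ?_, ?_⟩
  · calc (D.val n)⁻¹ * g * D.val uN = (D.val n)⁻¹ * x * g := by rw [hx]; group
      _ = D.val uN * ((D.val n)⁻¹ * g) := by rw [← hcn]; group
  · calc (D.val n)⁻¹ * g * t * ((D.val n)⁻¹ * g)⁻¹ = (D.val n)⁻¹ * (g * t * g⁻¹) * D.val n := by
          group
      _ = z := by rw [hg, mul_assoc, ← D.val_comm n hn, inv_mul_cancel_left]

/-- A conjugate of `z` centralising `u`, `z` inside has centraliser of order at most `512`. -/
theorem card_two_cent {x : G} (hxz : x * z = z * x) (hxo : orderOf x = 2) (hxn : ¬ IsConj x z) :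
    Nat.card (centralizer ({z} : Set G) ⊓ centralizer ({x} : Set G) : Subgroup G) ≤ 512 := by
  obtain ⟨m, hm, rfl, hmU⟩ := not_conj_invol D hF hxo hxz hxn
  simp only [isU, Bool.and_eq_true, inL_iff, uL, List.mem_append] at hmU
  have key : ∀ r : Nat, r < 21504 → m ∈ clsOf 0 r →
      Nat.card (centralizer ({z} : Set G) ⊓ centralizer ({D.val r} : Set G) : Subgroup G) ≤ 512 →
      Nat.card (centralizer ({z} : Set G) ⊓ centralizer ({D.val m} : Set G) : Subgroup G) ≤ 512 := by
    intro r hr hc hle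
    obtain ⟨n, hn, hcj, -⟩ := D.cls_conj hc
    have e : D.val n * D.val r * (D.val n)⁻¹ = D.val m := by rw [← D.val_cj hn hr, hcj]
    refine le_trans (le_of_eq (Nat.card_congr (Equiv.subtypeEquiv
      (MulAut.conj (D.val n)).toEquiv.symm fun g => ?_))) hle
    show g ∈ centralizer ({z} : Set G) ∧ g ∈ centralizer ({D.val m} : Set G) ↔
      (MulAut.conj (D.val n)).symm g ∈ centralizer ({z} : Set G) ∧
        (MulAut.conj (D.val n)).symm g ∈ centralizer ({D.val r} : Set G)
    simp only [MulAut.conj_symm_apply, mem_centralizer_singleton_iff]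
    have ez : D.val n * z * (D.val n)⁻¹ = z := by rw [D.val_comm n hn, mul_inv_cancel_right]
    constructor
    · rintro ⟨h1, h2⟩
      refine ⟨?_, ?_⟩
      · have := conj_comm (g := (D.val n)⁻¹) h1
        rwa [inv_inv, show (D.val n)⁻¹ * z * D.val n = z by
          rw [mul_assoc, ← D.val_comm n hn, inv_mul_cancel_left]] at this
      · have := conj_comm (g := (D.val n)⁻¹) h2
        rwa [inv_inv, show (D.val n)⁻¹ * D.val m * D.val n = D.val r by rw [← e]; group] at this
    · rintro ⟨h1, h2⟩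
      have c1 := conj_comm (g := D.val n) h1
      have c2 := conj_comm (g := D.val n) h2
      rw [show D.val n * ((D.val n)⁻¹ * g * D.val n) * (D.val n)⁻¹ = g by group] at c1 c2
      rw [ez] at c1
      rw [e] at c2
      exact ⟨c1, c2⟩
  rcases hmU.2 with hc | hc
  · refine key 1680 lts.1 hc (le_of_eq ?_)
    exact card_sU D
  · refine key 1777 (by norm_num) hc (le_trans (le_of_eq ?_) (show 256 ≤ 512 by norm_num))
    rw [← count1777, ← D.card_image (fun m hm => List.mem_range.1 (List.mem_filter.1 hm).1)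
      (List.nodup_range.filter _)]
    refine Nat.card_congr (Equiv.subtypeEquivRight fun g => ?_)
    rw [mem_inf, mem_centralizer_singleton_iff, mem_centralizer_singleton_iff]
    constructor
    · rintro ⟨h1, h2⟩
      obtain ⟨k, hk, rfl⟩ := D.val_surj g h1
      exact ⟨k, List.mem_filter.2 ⟨List.mem_range.2 hk, (val_cm D hk (by norm_num)).2 h2⟩, rfl⟩
    · rintro ⟨k, hk, rfl⟩
      obtain ⟨hk1, hk2⟩ := List.mem_filter.1 hk
      exact ⟨D.val_comm k (List.mem_range.1 hk1),
        (val_cm D (List.mem_range.1 hk1) (by norm_num)).1 hk2⟩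

variable [Finite G]

theorem not_1024 : ¬ 2 ^ 10 ∣ Nat.card (centralizer ({D.val uN} : Set G)) := by
  intro h
  haveI : Fact (Nat.Prime 2) := ⟨Nat.prime_two⟩
  obtain ⟨P, hP⟩ := Sylow.exists_subgroup_card_pow_prime 2 h
  set C := centralizer ({z} : Set G) with hC
  have hzC : z ∈ C := mem_centralizer_singleton_iff.2 rfl
  have hCd : 2 ^ 10 ∣ Nat.card C := by
    rw [hC, D.card_cent]; norm_num
  have hz' : Nat.card (zpowers (⟨z, hzC⟩ : C)) = 2 ^ 1 := by
    rw [Nat.card_zpowers, orderOf_mk, D.ord, pow_one]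
  obtain ⟨R, hR, hzR⟩ := Sylow.exists_subgroup_card_pow_prime_le 2 hCd _ hz' (by norm_num)
  have hR' : Nat.card (R.map C.subtype) = 2 ^ 10 := by
    rw [card_map_of_injective (subtype_injective _), hR]
  have hP' : Nat.card (P.map (centralizer ({D.val uN} : Set G)).subtype) = 2 ^ 10 := by
    rw [card_map_of_injective (subtype_injective _), hP]
  obtain ⟨g, -, hg⟩ := Small.SuzOrder.conj_into (X := (⊤ : Subgroup G)) (P := R.map C.subtype)
    (Q := P.map (centralizer ({D.val uN} : Set G)).subtype) (n := 10) le_top hR'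
    (by rw [card_top]; exact D.not_2048) le_top (IsPGroup.of_card (n := 10) hP')
  set Q := P.map (centralizer ({D.val uN} : Set G)).subtype with hQ
  have e : Q.map (MulAut.conj g).toMonoidHom = R.map C.subtype := by
    refine eq_of_le_of_card_ge ?_ ?_
    · rintro _ ⟨q, hq, rfl⟩; exact hg q hq
    · rw [hR', card_map_of_injective (MulEquiv.injective _), hP']
  set x := g * D.val uN * g⁻¹ with hx
  have hcomm : ∀ y ∈ R.map C.subtype, y * x = x * y := by
    intro y hy
    rw [← e] at hy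
    obtain ⟨q, hq, rfl⟩ := hy
    obtain ⟨⟨q', hq'⟩, -, rfl⟩ := hq
    exact conj_comm (mem_centralizer_singleton_iff.1 hq')
  have hxz : x * z = z * x :=
    (hcomm z ⟨⟨z, hzC⟩, hzR (mem_zpowers _), rfl⟩).symm
  have hle : R.map C.subtype ≤ C ⊓ centralizer ({x} : Set G) := fun y hy => by
    obtain ⟨r, hr, rfl⟩ := hy
    exact mem_inf.2 ⟨r.2, mem_centralizer_singleton_iff.2 (hcomm _ ⟨r, hr, rfl⟩)⟩
  have h1 := card_le_of_le hle
  rw [hR'] at h1
  rw [hC] at h1
  have h2 := card_two_cent D hF hxz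
    ((order_of_isConj (isConj_iff.2 ⟨g, rfl⟩ : IsConj (D.val uN) x)).symm.trans (ord_u D))
    (fun h' => u_not_conj D hF ((isConj_iff.2 ⟨g, rfl⟩ : IsConj (D.val uN) x).trans h'))
  omega

theorem mem_kV {h : G} : h ∈ kV D ↔ h * D.val uN = D.val uN * h ∧
    (h * D.val vN * h⁻¹ = D.val vN ∨ h * D.val vN * h⁻¹ = D.val uN * D.val vN) := Iff.rfl

theorem sU_le_kV : sU D ≤ kV D := by
  intro g hg
  obtain ⟨hz, hu⟩ := (mem_sU D).1 hg
  obtain ⟨s, hs, rfl⟩ := mem_us D hz hu
  refine (mem_kV D hF).2 ⟨hu, ?_⟩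
  have h := all_spec us_v hs
  rw [Bool.or_eq_true] at h
  rw [← D.val_cj (us_lt hs).1 lts.2.1, uv D]
  rcases h with h | h
  · exact Or.inl (congrArg D.val (Nat.eq_of_beq_eq_true h))
  · exact Or.inr (congrArg D.val (Nat.eq_of_beq_eq_true h))

theorem t_comm_v {t : G} (ht : IsConj t z) (htz : t * z = z * t)
    (htu : t * D.val uN = D.val uN * t) : t * D.val vN = D.val vN * t := by
  obtain ⟨m, hm, rfl⟩ := mem_us D htz htu
  have h := all_spec us_t hm
  simp only [(isT_iff D hF (us_lt hm).1).2 ht, Bool.not_true, Bool.false_or] at h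
  exact (val_cm D (us_lt hm).1 lts.2.1).1 h

theorem big_mul_u_ne {h : G} (hu : h * D.val uN = D.val uN * h) :
    D.val uN * (h * D.val vN * h⁻¹) = h * D.val wN * h⁻¹ := by
  rw [← uv D, conj_mul_conj, hu, mul_inv_cancel_right]

/-- If a conjugate of `z` under `C(u)` commutes with `z`, the conjugating element normalises the
four-group. -/
theorem mem_kV_of_conj {h : G} (hu : h * D.val uN = D.val uN * h)
    (hz : h * z * h⁻¹ * z = z * (h * z * h⁻¹)) : h ∈ kV D := by
  have hcu : ∀ {x : G}, x * D.val uN = D.val uN * x → h⁻¹ * x * h * D.val uN =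
      D.val uN * (h⁻¹ * x * h) := by
    intro x hx
    have := conj_comm (g := h⁻¹) hx
    rwa [inv_inv, show h⁻¹ * D.val uN * h = D.val uN by
      rw [mul_assoc, ← hu, inv_mul_cancel_left]] at this
  set y := h * z * h⁻¹ with hy
  set q' := h * D.val vN * h⁻¹ with hq
  have hyT : IsConj y z := isConj_conj (IsConj.refl z)
  have hbig : Big z (D.val uN) y := big_conj D hF (big_z D hF) hu
  -- every conjugate of `z` in `C(u)` commuting with `y` commutes with `q'`
  have key : ∀ {x : G}, IsConj x z → x * D.val uN = D.val uN * x → x * y = y * x →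
      x * q' = q' * x := by
    intro x hx hxu hxy
    have h1 : h⁻¹ * x * h * z = z * (h⁻¹ * x * h) := by
      have := conj_comm (g := h⁻¹) hxy
      rwa [inv_inv, show h⁻¹ * y * h = z by rw [hy]; group] at this
    have hT : IsConj (h⁻¹ * x * h) z := by
      have := isConj_conj (g := h⁻¹) hx; rwa [inv_inv] at this
    have h2 := t_comm_v D hF hT h1 (hcu hxu)
    have h3 := conj_comm (g := h) h2
    rwa [show h * (h⁻¹ * x * h) * h⁻¹ = x by group] at h3
  have hqz : q' * z = z * q' := (key (IsConj.refl z) (uz D).symm hz.symm).symm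
  have hqu : q' * D.val uN = D.val uN * q' := by
    have := conj_comm (g := h) (vu D)
    rwa [hu, mul_inv_cancel_right] at this
  obtain ⟨q, hq', e⟩ := mem_us D hqz hqu
  obtain ⟨yy, hyy, ey⟩ := mem_us D hz hbig.2.1
  have hql := (us_lt hq').1
  have hqU : isU q = true := by
    refine (isU_iff D hF hql).2 ?_
    have hv := (isU_iff D hF lts.2.1).1 consts.2.2.2.2.2.2.1
    have hc : IsConj (D.val vN) (D.val q) := e ▸ isConj_iff.2 ⟨h, rfl⟩
    exact ⟨(order_of_isConj hc).symm.trans hv.1, fun h' => hv.2 (hc.trans h')⟩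
  have hqW : isU (mulN 0 uN q) = true := by
    refine (isU_iff D hF (mulN_lt lts.1 _ _)).2 ?_
    have hv := (isU_iff D hF lts.2.2.1).1 consts.2.2.2.2.2.2.2.1
    have hc : IsConj (D.val wN) (D.val (mulN 0 uN q)) := by
      rw [D.val_mul _ _ lts.1 hql, e, hq, big_mul_u_ne D hF hu]
      exact isConj_iff.2 ⟨h, rfl⟩
    exact ⟨(order_of_isConj hc).symm.trans hv.1, fun h' => hv.2 (hc.trans h')⟩
  by_cases hV : isV q = true
  · refine (mem_kV D hF).2 ⟨hu, ?_⟩
    rcases isV_iff.1 hV with h0 | h0 | h0 | h0 <;> rw [h0] at e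
    · exfalso
      rw [D.val_zero] at e
      exact v_ne D (conj_eq_one_iff.1 e.symm)
    · exfalso
      refine v_ne_u D ((MulAut.conj h).injective ?_)
      rw [MulAut.conj_apply, MulAut.conj_apply, hu, mul_inv_cancel_right]
      exact e.symm
    · exact Or.inl e.symm
    · exact Or.inr (e.symm.trans (uv D).symm)
  · exfalso
    rw [Bool.not_eq_true] at hV
    have h1 := all_spec us_cand hq'
    simp only [hqU, hqW, hV, Bool.and_true, Bool.not_false, Bool.not_true, Bool.false_or] at h1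
    have h2 := all_spec h1 hyy
    have hb : isBig yy = true := (big_val D hF hyy).2 (ey.symm ▸ hbig)
    have hc : cm q yy = true := (val_cm D hql (us_lt hyy).1).2 (by
      rw [e, ey]; exact (key hyT hbig.2.1 rfl).symm)
    simp only [hb, hc, Bool.not_true, Bool.false_or, List.any_eq_true, Bool.and_eq_true,
      Bool.not_eq_true'] at h2
    obtain ⟨x, hx, ⟨hxT, hxy⟩, hxq⟩ := h2
    have h3 := key (isT_conj D hF (us_lt hx).1 hxT) (us_comm D hx).2
      (by rw [← ey]; exact (val_cm D (us_lt hx).1 (us_lt hyy).1).1 hxy)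
    rw [← e, ← val_cm D (us_lt hx).1 hql, hxq] at h3
    exact Bool.false_ne_true h3

/-- The Sylow subgroup `C(z) ∩ C(u)` absorbs the two-elements of a subgroup of `C(u)` above it. -/
theorem into_sU {X Q : Subgroup G} (hS : sU D ≤ X) (hX : X ≤ centralizer ({D.val uN} : Set G))
    (hQ : Q ≤ X) (hQ2 : IsPGroup 2 Q) : ∃ g ∈ X, ∀ q ∈ Q, g * q * g⁻¹ ∈ sU D :=
  Small.SuzOrder.conj_into (n := 9) hS ((card_sU D).trans (by norm_num))
    (fun h => not_1024 D hF (h.trans (card_dvd_of_le hX))) hQ hQ2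

theorem kV_le : kV D ≤ centralizer ({D.val uN} : Set G) := fun _ hg =>
  mem_centralizer_singleton_iff.2 ((mem_kV D hF).1 hg).1

/-- An element of `C(u)` carrying `v` into `C(z)` normalises the four-group. -/
theorem mem_kV_of_v {h : G} (hu : h * D.val uN = D.val uN * h)
    (hz : h * D.val vN * h⁻¹ * z = z * (h * D.val vN * h⁻¹)) : h ∈ kV D := by
  set y := h⁻¹ * z * h with hy
  have hu' : h⁻¹ * D.val uN * h = D.val uN := by rw [mul_assoc, ← hu, inv_mul_cancel_left]
  have hyu : y * D.val uN = D.val uN * y := by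
    have := conj_comm (g := h⁻¹) (uz D).symm
    rwa [inv_inv, hu'] at this
  have hyv : y * D.val vN = D.val vN * y := by
    have := conj_comm (g := h⁻¹) hz.symm
    rwa [inv_inv, show h⁻¹ * (h * D.val vN * h⁻¹) * h = D.val vN by group] at this
  have hyK : y ∈ kV D := (mem_kV D hF).2 ⟨hyu, Or.inl (by rw [hyv, mul_inv_cancel_right])⟩
  have hy2 : orderOf y = 2 := by
    rw [← D.ord]
    refine (order_of_isConj (isConj_iff.2 ⟨h⁻¹, ?_⟩)).symm
    rw [inv_inv]
  obtain ⟨k, hk, hk'⟩ := into_sU D hF (X := kV D) (Q := zpowers y) (sU_le_kV D hF) (kV_le D hF)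
    (zpowers_le.2 hyK) (IsPGroup.of_card (n := 1) (by rw [Nat.card_zpowers, hy2, pow_one]))
  have hkz : (k * h⁻¹) * z * (k * h⁻¹)⁻¹ = k * y * k⁻¹ := by rw [hy]; group
  have hku : k * h⁻¹ * D.val uN = D.val uN * (k * h⁻¹) := by
    rw [mul_assoc, (Commute.inv_left (hu : Commute h _)).eq, ← mul_assoc,
      ((mem_kV D hF).1 hk).1, mul_assoc]
  have h1 := mem_kV_of_conj D hF hku
    (by rw [hkz]; exact ((mem_sU D).1 (hk' y (mem_zpowers y))).1)
  have h2 := mul_mem (inv_mem hk) h1
  rw [inv_mul_cancel_left] at h2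
  exact (inv_mem_iff).1 h2

/-- The four-group is normal in `C(u)`. -/
theorem all_kV {h : G} (hu : h * D.val uN = D.val uN * h) : h ∈ kV D := by
  haveI : Fact (Nat.Prime 2) := ⟨Nat.prime_two⟩
  set H := centralizer ({D.val uN} : Set G) with hH
  have memH : ∀ {g : G}, g ∈ H ↔ g * D.val uN = D.val uN * g := mem_centralizer_singleton_iff
  set uH : H := ⟨D.val uN, memH.2 rfl⟩ with huH
  haveI hZn : (zpowers uH).Normal := ⟨fun x hx g => by
    obtain ⟨i, rfl⟩ := hx
    refine ⟨i, Subtype.ext ?_⟩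
    show ((uH ^ i : H) : G) = (g : G) * ((uH ^ i : H) : G) * (g : G)⁻¹
    rw [coe_zpow, (Commute.zpow_right (memH.1 g.2 : Commute (g : G) _) i).eq,
      mul_inv_cancel_right]⟩
  set π := QuotientGroup.mk' (zpowers uH) with hπdef
  have hker : ∀ {x : H}, π x = 1 → (x : G) = 1 ∨ (x : G) = D.val uN := by
    intro x hx
    obtain ⟨i, rfl⟩ := (QuotientGroup.eq_one_iff x).1 hx
    show ((uH ^ i : H) : G) = 1 ∨ _
    rw [coe_zpow]
    rcases Int.even_or_odd i with ⟨j, rfl⟩ | ⟨j, rfl⟩
    · left; rw [← two_mul, zpow_mul, zpow_two, uu D, one_zpow]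
    · right; rw [zpow_add, zpow_mul, zpow_two, uu D, one_zpow, one_mul, zpow_one]
  have hπu : π uH = 1 := (QuotientGroup.eq_one_iff _).2 (mem_zpowers _)
  -- trivial odd core
  have hfix : ∀ {t : G} (htH : t ∈ H), Big z (D.val uN) t → ∀ n : H ⧸ zpowers uH,
      n * π ⟨t, htH⟩ = π ⟨t, htH⟩ * n → n ^ 512 = 1 := by
    intro t htH ht n hn
    obtain ⟨x, rfl⟩ := QuotientGroup.mk'_surjective (zpowers uH) n
    have h1 : π (x * ⟨t, htH⟩ * x⁻¹ * (⟨t, htH⟩ : H)⁻¹) = 1 := by
      simp only [map_mul, map_inv, hπdef] at hn ⊢; rw [hn]; group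
    have h2 : (x : G) * t = t * x := by
      rcases hker h1 with e | e
      · have e' : (x : G) * t * (x : G)⁻¹ * t⁻¹ = 1 := e
        rwa [mul_inv_eq_one, mul_inv_eq_iff_eq_mul] at e'
      · exfalso
        have e' : (x : G) * t * (x : G)⁻¹ = D.val uN * t := by
          have e'' : (x : G) * t * (x : G)⁻¹ * t⁻¹ = D.val uN := e
          rwa [mul_inv_eq_iff_eq_mul] at e''
        refine ht.2.2 ?_
        rw [ht.2.1, ← e']
        exact isConj_conj ht.1
    obtain ⟨g, hgu, hgt⟩ := big_transport D hF ht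
    have hm : g * (x : G) * g⁻¹ ∈ sU D := by
      refine (mem_sU D).2 ⟨?_, ?_⟩
      · have := conj_comm (g := g) h2; rwa [hgt] at this
      · have := conj_comm (g := g) (memH.1 x.2); rwa [hgu, mul_inv_cancel_right] at this
    have h3 := Small.SuzOrder.two_group_order (n := 9) ((card_sU D).trans (by norm_num)) hm
    rw [show (2 : ℕ) ^ 9 = 512 by norm_num, conj_pow, conj_eq_one_iff] at h3
    rw [← map_pow, show x ^ 512 = 1 from Subtype.ext (by rw [SubmonoidClass.coe_pow]; exact h3),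
      map_one]
  have h672 : (672 : ℕ) < 21504 := by norm_num
  obtain ⟨a1, a2, a3, a4, -⟩ := four_facts
  have haz : D.val 672 * z = z * D.val 672 := D.val_comm _ h672
  have hau : D.val 672 * D.val uN = D.val uN * D.val 672 := (val_cm D h672 lts.1).1 a4
  have ha : Big z (D.val uN) (D.val 672) := by
    obtain ⟨m, hm, e⟩ := mem_us D haz hau
    rw [← D.val_inj _ _ (us_lt hm).1 h672 e] at a1
    exact e ▸ (big_val D hF hm).1 a1
  have hza : Big z (D.val uN) (z * D.val 672) := by
    obtain ⟨m, hm, e⟩ := mem_us D (g := z * D.val 672) (by rw [mul_assoc, haz])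
      (by rw [mul_assoc, hau, ← mul_assoc, ← uz D, mul_assoc])
    have e2 : D.val m = D.val (mulN 0 zN 672) := by rw [e, D.val_mul _ _ lts.2.2.2 h672, D.val_z]
    rw [← D.val_inj _ _ (us_lt hm).1 (mulN_lt lts.2.2.2 _ _) e2] at a2
    exact e ▸ (big_val D hF hm).1 a2
  have hzH : z ∈ H := memH.2 (uz D).symm
  have haH : D.val 672 ∈ H := memH.2 hau
  have hsq : ∀ {t : G} (htH : t ∈ H), Big z (D.val uN) t → π ⟨t, htH⟩ * π ⟨t, htH⟩ = 1 := by
    intro t htH ht
    rw [← map_mul, show (⟨t, htH⟩ : H) * ⟨t, htH⟩ = 1 from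
      Subtype.ext (sq_eq_one_of_order ((order_of_isConj ht.1).trans D.ord)), map_one]
  have hO : Cfsg.oddCore (H ⧸ zpowers uH) = ⊥ := by
    haveI : (Cfsg.oddCore (H ⧸ zpowers uH)).Normal := by unfold Cfsg.oddCore; infer_instance
    have hodd := Base.odd_card_oddCore (H ⧸ zpowers uH)
    have hfp : ∀ {t : G} (htH : t ∈ H), Big z (D.val uN) t →
        ∀ m ∈ Cfsg.oddCore (H ⧸ zpowers uH), π ⟨t, htH⟩ * m = m * π ⟨t, htH⟩ → m = 1 := by
      intro t htH ht m hm e
      have h2 : m ^ (Nat.card (Cfsg.oddCore (H ⧸ zpowers uH))) = 1 :=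
        congrArg Subtype.val (pow_card_eq_one' (x := (⟨m, hm⟩ : Cfsg.oddCore (H ⧸ zpowers uH))))
      have hd := Nat.dvd_gcd (orderOf_dvd_of_pow_eq_one (hfix htH ht m e.symm))
        (orderOf_dvd_of_pow_eq_one h2)
      have hco : Nat.Coprime (2 ^ 9) (Nat.card (Cfsg.oddCore (H ⧸ zpowers uH))) :=
        (Nat.coprime_two_left.2 hodd).pow_left 9
      rw [show (512 : ℕ) = 2 ^ 9 by norm_num, hco.gcd_eq_one, Nat.dvd_one] at hd
      exact orderOf_eq_one_iff.1 hd
    refine L34Cent.eq_bot_of_three_fpf _ hodd (π ⟨z, hzH⟩) (π ⟨D.val 672, haH⟩)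
      (hsq hzH (big_z D hF)) (hsq haH ha) (hfp hzH (big_z D hF)) (hfp haH ha) ?_
    intro m hm e
    rw [← map_mul] at e
    exact hfp (t := z * D.val 672) (mul_mem hzH haH) hza m hm e
  -- isolated
  have hvH : D.val vN ∈ H := memH.2 (vu D)
  set vb := π ⟨D.val vN, hvH⟩ with hvb
  have hv2 : vb * vb = 1 := by
    rw [hvb, ← map_mul, show (⟨D.val vN, hvH⟩ : H) * ⟨D.val vN, hvH⟩ = 1 from
      Subtype.ext (vv D), map_one]
  have hiso : Cfsg.IsIsolatedInvolution vb := by
    refine ⟨orderOf_eq_prime (by rw [pow_two, hv2]) fun e => ?_, fun g hg => ?_⟩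
    · rcases hker e with e' | e'
      exacts [v_ne D e', v_ne_u D e']
    obtain ⟨x, rfl⟩ := QuotientGroup.mk'_surjective (zpowers uH) g
    have hg2 : π x * vb * (π x)⁻¹ * (π x * vb * (π x)⁻¹) = 1 := by
      rw [← conj_mul_conj, hv2, mul_one, mul_inv_cancel]
    set c := π x * vb * (π x)⁻¹ with hc
    have hA2 : IsPGroup 2 (zpowers vb ⊔ zpowers c : Subgroup (H ⧸ zpowers uH)) := by
      have hp : ∀ {y : H ⧸ zpowers uH}, y * y = 1 → IsPGroup 2 (zpowers y) := by
        intro y hy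
        rintro ⟨_, i, rfl⟩
        refine ⟨1, Subtype.ext ?_⟩
        show (y ^ i) ^ 2 ^ 1 = 1
        rw [pow_one, ← zpow_natCast, ← zpow_mul, mul_comm, zpow_mul, zpow_natCast, pow_two, hy,
          one_zpow]
      refine (hp hv2).to_sup_of_normal_right' (hp hg2) ?_
      rw [zpowers_le]
      refine mem_normalizer_iff.2 fun y => ?_
      have hcy : ∀ {y : H ⧸ zpowers uH}, y ∈ zpowers c → vb * y * vb⁻¹ = y := by
        rintro _ ⟨i, rfl⟩
        show vb * c ^ i * vb⁻¹ = c ^ i
        rw [(Commute.zpow_right hg i).eq, mul_inv_cancel_right]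
      refine ⟨fun hy => by rwa [hcy hy], fun hy => ?_⟩
      have h' := hcy hy
      have : y = vb * y * vb⁻¹ := mul_left_cancel (mul_right_cancel h').symm |> fun e => by
        simpa using e
      rw [this]; exact hy
    set A := ((zpowers vb ⊔ zpowers c : Subgroup (H ⧸ zpowers uH)).comap π).map H.subtype with hA
    have hA' : IsPGroup 2 A := by
      refine IsPGroup.map (hA2.comap_of_ker_isPGroup π ?_) _
      rw [hπdef, QuotientGroup.ker_mk']
      exact IsPGroup.of_card (n := 1) (by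
        rw [Nat.card_zpowers, pow_one, huH, orderOf_mk, ord_u D])
    obtain ⟨k, hkH, hk⟩ := into_sU D hF (X := H) (Q := A) inf_le_right le_rfl (map_subtype_le _) hA'
    have mA : ∀ y : H, π y ∈ (zpowers vb ⊔ zpowers c : Subgroup (H ⧸ zpowers uH)) →
        (y : G) ∈ A := fun y hy => ⟨y, hy, rfl⟩
    have h1 : k * D.val vN * k⁻¹ ∈ sU D :=
      hk _ (mA ⟨_, hvH⟩ (mem_sup_left (mem_zpowers vb)))
    have h2 : k * ((x : G) * D.val vN * (x : G)⁻¹) * k⁻¹ ∈ sU D :=
      hk _ (mA (x * ⟨_, hvH⟩ * x⁻¹) (mem_sup_right (by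
        rw [map_mul, map_mul, map_inv]; exact mem_zpowers c)))
    have hkK := mem_kV_of_v D hF (memH.1 hkH) ((mem_sU D).1 h1).1
    have hkx : k * (x : G) ∈ kV D := by
      refine mem_kV_of_v D hF (memH.1 (mul_mem hkH x.2)) ?_
      rw [show k * (x : G) * D.val vN * (k * (x : G))⁻¹ =
        k * ((x : G) * D.val vN * (x : G)⁻¹) * k⁻¹ by group]
      exact ((mem_sU D).1 h2).1
    have hxK : (x : G) ∈ kV D := by
      have := mul_mem (inv_mem hkK) hkx; rwa [inv_mul_cancel_left] at this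
    rw [hc, hvb, ← map_inv, ← map_mul, ← map_mul]
    rcases ((mem_kV D hF).1 hxK).2 with e | e
    · exact congrArg π (Subtype.ext e)
    · rw [show x * ⟨D.val vN, hvH⟩ * x⁻¹ = uH * ⟨D.val vN, hvH⟩ from Subtype.ext e, map_mul, hπu,
        one_mul]
  have hcen := mem_center_iff.1 (Involutions.ZStar.mem_center_of_oddCore_eq_bot hiso hO)
    (π ⟨h, memH.2 hu⟩)
  have h1 : π (⟨h, memH.2 hu⟩ * ⟨D.val vN, hvH⟩ * (⟨h, memH.2 hu⟩ : H)⁻¹ *
      (⟨D.val vN, hvH⟩ : H)⁻¹) = 1 := by
    rw [map_mul, map_mul, map_mul, map_inv, map_inv, ← hvb, hcen]; group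
  refine (mem_kV D hF).2 ⟨hu, ?_⟩
  rcases hker h1 with e | e
  · have e' : h * D.val vN * h⁻¹ * (D.val vN)⁻¹ = 1 := e
    exact Or.inl (by rwa [mul_inv_eq_one] at e')
  · have e' : h * D.val vN * h⁻¹ * (D.val vN)⁻¹ = D.val uN := e
    exact Or.inr (by rwa [mul_inv_eq_iff_eq_mul] at e')

/-- Conjugates of `z` centralising `u` centralise `v`. -/
theorem t_mem {t : G} (ht : IsConj t z) (htu : t * D.val uN = D.val uN * t) :
    t * D.val vN = D.val vN * t := by
  haveI : Fact (Nat.Prime 2) := ⟨Nat.prime_two⟩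
  obtain ⟨g, hgH, hg⟩ := into_sU D hF (X := centralizer ({D.val uN} : Set G)) (Q := zpowers t)
    inf_le_right le_rfl (zpowers_le.2 (mem_centralizer_singleton_iff.2 htu))
    (IsPGroup.of_card (n := 1) (by
      rw [Nat.card_zpowers, order_of_isConj ht, D.ord, pow_one]))
  obtain ⟨hgz, hgu⟩ := (mem_sU D).1 (hg t (mem_zpowers t))
  have hgv := t_comm_v D hF (isConj_conj ht) hgz hgu
  have hgu' := mem_centralizer_singleton_iff.1 hgH
  have h2 := conj_comm (g := g⁻¹) hgv
  rw [show g⁻¹ * (g * t * g⁻¹) * g⁻¹⁻¹ = t by group] at h2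
  rcases ((mem_kV D hF).1 (inv_mem (all_kV D hF hgu'))).2 with e | e <;> rw [e] at h2
  · exact h2
  · refine mul_left_cancel (a := D.val uN) ?_
    rw [← mul_assoc, ← htu, mul_assoc, h2, mul_assoc]

end

end CfsgLib.Spor.HeTri.HeCase
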