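import Cfsg.Agent.Lib.Spor.HeRecog.UCentSetup
import Cfsg.Agent.Lib.Spor.HeTri.HeLocal
import Cfsg.Agent.Lib.Spor.HeRecog.UQuot

/-!
# The data of the centraliser of the four-group
-/

set_option autoImplicit false
set_option linter.style.haveILetI false
set_option linter.unusedSectionVars false
set_option maxRecDepth 100000
set_option maxHeartbeats 1000000

namespace CfsgLib.Spor.HeTri.HeCase

open Subgroup CfsgLib.Spor.HeRecog
open CfsgLib.Spor.HeRecog.UC hiding isT_conj uL_not_conj val_order isT_iff isU_iff u_not_conj big_val zN_mem big_z big_conj not_conj_invol big_transport card_two_cent not_1024 mem_kV sU_le_kV t_comm_v big_mul_u_ne mem_kV_of_conj into_sU kV_le mem_kV_of_v all_kV t_mem big_iff big_coset gen_ind not_512 quotData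

universe u

variable {G : Type u} [Group G] {z : G} (D : Cen 0 z)
include D

variable (hF : FusT D)
include hF

variable [Finite G]

theorem big_iff {x : G} : (x ∈ fourCent (D.val uN) (D.val vN) ∧ Big z (D.val uN) x) ↔
    ∃ c ∈ fourCent (D.val uN) (D.val vN), c * z * c⁻¹ = x := by
  constructor
  · rintro ⟨-, hx⟩
    obtain ⟨g, hgu, hgx⟩ := big_transport D hF hx
    have hconj : g⁻¹ * z * g⁻¹⁻¹ = x := by rw [← hgx]; group
    rcases ((mem_kV D hF).1 (all_kV D hF hgu)).2 with e | e
    · have hg : g ∈ fourCent (D.val uN) (D.val vN) :=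
        (mem_fourCent D).2 ⟨hgu, mul_inv_eq_iff_eq_mul.1 e⟩
      exact ⟨g⁻¹, inv_mem hg, hconj⟩
    · obtain ⟨s, hs, h⟩ := List.any_eq_true.1 us_swap
      rw [Bool.and_eq_true] at h
      obtain ⟨hs1, hs2⟩ := us_comm D hs
      have hsw : D.val s * D.val wN * (D.val s)⁻¹ = D.val vN := by
        rw [← D.val_cj (us_lt hs).1 lts.2.2.1, Nat.eq_of_beq_eq_true h.2]
      refine ⟨(D.val s * g)⁻¹, inv_mem ((mem_fourCent D).2 ⟨?_, mul_inv_eq_iff_eq_mul.1 ?_⟩), ?_⟩
      · rw [mul_assoc, hgu, ← mul_assoc, hs2, mul_assoc]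
      · calc D.val s * g * D.val vN * (D.val s * g)⁻¹
            = D.val s * (g * D.val vN * g⁻¹) * (D.val s)⁻¹ := by group
          _ = D.val vN := by rw [e, uv D, hsw]
      · calc (D.val s * g)⁻¹ * z * (D.val s * g)⁻¹⁻¹
            = g⁻¹ * ((D.val s)⁻¹ * (z * D.val s)) * g := by group
          _ = g⁻¹ * ((D.val s)⁻¹ * (D.val s * z)) * g := by rw [hs1]
          _ = x := by rw [← hconj]; group
  · rintro ⟨c, hc, rfl⟩
    have hcu := ((mem_fourCent D).1 hc).1
    have hzM : z ∈ fourCent (D.val uN) (D.val vN) :=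
      (mem_fourCent D).2 ⟨(uz D).symm, (D.val_comm _ lts.2.1).symm⟩
    exact ⟨mul_mem (mul_mem hc hzM) (inv_mem hc), big_conj D hF (big_z D hF) hcu⟩

theorem big_coset {g : G} (hg : g ∈ tU D)
    (hg2 : g * g ∈ closure ({D.val uN, D.val vN} : Set G))
    (hg0 : g ∉ closure ({D.val uN, D.val vN} : Set G)) :
    ∃ q, isV q = true ∧ Big z (D.val uN) (g * D.val q) ∧
      ∀ q', isV q' = true → Big z (D.val uN) (g * D.val q') → q' = q := by
  obtain ⟨m, hm, rfl⟩ := mem_ut D hg
  have hlt := ut_lt D hm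
  have h := all_spec ut_coset hm
  have h1 : isV (mulN 0 m m) = true := by
    obtain ⟨q, hq, hql, e⟩ := mem_four D hg2
    rw [← D.val_mul _ _ hlt hlt] at e
    rwa [← D.val_inj q _ hql (mulN_lt hlt _ _) e]
  have h2 : isV m = false := by
    by_contra hc
    exact hg0 (four_mem D (Bool.not_eq_false _ ▸ hc))
  simp only [h1, h2, Bool.not_true, Bool.false_or] at h
  have hcount : ([0, uN, vN, wN].countP fun q => isBig (mulN 0 m q)) = 1 :=
    Nat.eq_of_beq_eq_true h
  have hbig : ∀ q, q ∈ [0, uN, vN, wN] →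
      (isBig (mulN 0 m q) = true ↔ Big z (D.val uN) (D.val m * D.val q)) := by
    intro q hq
    have hq' : isV q = true := isV_iff.2 (by simpa using hq)
    have hql : q < 21504 := by
      rcases isV_iff.1 hq' with rfl | rfl | rfl | rfl
      exacts [by norm_num, lts.1, lts.2.1, lts.2.2.1]
    rw [← D.val_mul _ _ hlt hql]
    have hzu : D.val q * z = z * D.val q ∧ D.val q * D.val uN = D.val uN * D.val q :=
      ⟨D.val_comm _ hql, ((mem_fourCent D).1 (four_in_fourCent D (four_mem D hq'))).1⟩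
    obtain ⟨n, hn, e⟩ := mem_us D (g := D.val m * D.val q)
      (by rw [mul_assoc, hzu.1, ← mul_assoc, (ut_comm D hm).1, mul_assoc])
      (by rw [mul_assoc, hzu.2, ← mul_assoc, (ut_comm D hm).2.1, mul_assoc])
    rw [← D.val_mul _ _ hlt hql] at e
    have en := D.val_inj _ _ (us_lt hn).1 (mulN_lt hlt _ _) e
    rw [← en]
    exact big_val D hF hn
  obtain ⟨q, hq, hqb⟩ := List.countP_pos_iff.1 (by rw [hcount]; exact Nat.one_pos)
  refine ⟨q, isV_iff.2 (by simpa using hq), (hbig q hq).1 hqb, fun q' hq' hb => ?_⟩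
  have hq'' : q' ∈ [0, uN, vN, wN] := by simpa using isV_iff.1 hq'
  exact countP_four D hcount hq'' hq ((hbig q' hq'').2 hb) hqb

omit hF in
theorem gen_ind {P : Nat → Prop} : ∀ (l : List (Nat × Nat × Nat)) (seen : List Nat),
    (∀ y, P y → ∀ i < 6, P (mulN 0 y (ugL.getD i 0))) → (∀ y ∈ seen, P y) →
    genChk l seen = true → ∀ m ∈ utL, P m
  | [], seen, _, hs, h => fun m hm => hs m (inL_iff.1 (List.all_eq_true.1 h m hm))
  | (x, y, i) :: r, seen, hstep, hs, h => by
    simp only [genChk, Bool.and_eq_true] at h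
    refine gen_ind r (x :: seen) hstep (fun w hw => ?_) h.2
    rcases List.mem_cons.1 hw with rfl | hw'
    · have e := Nat.eq_of_beq_eq_true h.1.2
      rw [← e]
      exact hstep y (hs y (inL_iff.1 h.1.1.1)) i (by simpa [Nat.blt_eq] using h.1.1.2)
    · exact hs w hw'

theorem not_512 : ¬ 512 ∣ Nat.card (fourCent (D.val uN) (D.val vN)) := by
  intro h
  haveI : Fact (Nat.Prime 2) := ⟨Nat.prime_two⟩
  set M := fourCent (D.val uN) (D.val vN) with hM
  obtain ⟨P, hP⟩ := Sylow.exists_subgroup_card_pow_prime (G := M) 2 (n := 9)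
    (by rw [show (2 : ℕ) ^ 9 = 512 by norm_num]; exact h)
  have hP' : Nat.card (P.map M.subtype) = 2 ^ 9 := by
    rw [card_map_of_injective (subtype_injective _), hP]
  obtain ⟨g, hg, hg'⟩ := into_sU D hF (X := centralizer ({D.val uN} : Set G)) (Q := P.map M.subtype)
    inf_le_right le_rfl
    (fun x hx => by
      obtain ⟨y, -, rfl⟩ := hx
      exact mem_centralizer_singleton_iff.2 ((mem_fourCent D).1 y.2).1)
    (IsPGroup.of_card (n := 9) hP')
  have e : (P.map M.subtype).map (MulAut.conj g).toMonoidHom = sU D := by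
    refine eq_of_le_of_card_ge ?_ ?_
    · rintro _ ⟨q, hq, rfl⟩; exact hg' q hq
    · rw [card_sU, card_map_of_injective (MulEquiv.injective _), hP']; norm_num
  have hgK := ((mem_kV D hF).1 (all_kV D hF (mem_centralizer_singleton_iff.1 hg))).2
  have hle : sU D ≤ tU D := by
    intro x hx
    obtain ⟨hxz, hxu⟩ := (mem_sU D).1 hx
    rw [← e] at hx
    obtain ⟨q, hq, rfl⟩ := hx
    obtain ⟨y, -, rfl⟩ := hq
    have hc := conj_comm (g := g) ((mem_fourCent D).1 y.2).2
    refine (mem_tU D).2 ⟨hxz, hxu, ?_⟩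
    rcases hgK with e' | e' <;> rw [e'] at hc
    · exact hc
    · simp only [MulEquiv.coe_toMonoidHom, MulAut.conj_apply, coe_subtype] at hxu ⊢
      refine mul_left_cancel (a := D.val uN) ?_
      rw [← mul_assoc, ← hxu, mul_assoc, hc, mul_assoc]
  have := card_le_of_le hle
  rw [card_sU, card_tU] at this
  omega

/-- The data for the quotient. -/
theorem quotData : QuotData z (D.val uN) (D.val vN) (tU D) where
  u_sq := uu D
  v_sq := vv D
  uv := (vu D).symm
  u_ne := u_ne D
  v_ne := v_ne D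
  uv_ne := (v_ne_u D).symm
  z_sq := D.zz
  z_out := by
    have hz : ¬ isV zN = true := by decide
    have key : ∀ q, q < 21504 → isV q = true → z ≠ D.val q := fun q hql hq e =>
      hz (by rw [D.val_inj zN q lts.2.2.2 hql (D.val_z.trans e)]; exact hq)
    exact ⟨fun e => key 0 (by norm_num) (by decide) (e.trans D.val_zero.symm),
      key _ lts.1 (by decide), key _ lts.2.1 (by decide),
      fun e => key _ lts.2.2.1 (by decide) (e.trans (uv D))⟩
  T0_le := inf_le_right
  card_T0 := card_tU D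
  not_512 := not_512 D hF
  z_mem := (mem_tU D).2 ⟨rfl, (uz D).symm, (D.val_comm _ lts.2.1).symm⟩
  z_central := fun g hg => ((mem_tU D).1 hg).1
  cent := fun g hg hgz => mem_inf.2 ⟨mem_centralizer_singleton_iff.2 hgz, hg⟩
  gen := by
    intro g hg
    obtain ⟨m, hm, rfl⟩ := mem_ut D hg
    set C := closure {x | x ∈ tU D ∧ x * x = 1}
    refine (gen_ind D (P := fun y => y < 21504 ∧ D.val y ∈ C) uwL [0] ?_ ?_ gen_chk m hm).2
    · intro y hy i hi
      have hgi : ugL.getD i 0 ∈ ugL := by
        rw [List.getD_eq_getElem _ _ (by rw [gen_big.2]; exact hi)]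
        exact List.getElem_mem _
      have h := all_spec gen_big.1 hgi
      rw [Bool.and_eq_true, inL_iff] at h
      refine ⟨mulN_lt hy.1 _ _, ?_⟩
      rw [D.val_mul _ _ hy.1 (ut_lt D h.1)]
      refine mul_mem hy.2 (subset_closure ⟨val_mem_tU D h.1, ?_⟩)
      have hb := (big_val D hF (ut_sub_us D h.1)).1 h.2
      exact sq_eq_one_of_order ((order_of_isConj hb.1).trans D.ord)
    · intro y hy
      rw [List.mem_singleton] at hy
      subst hy
      exact ⟨by norm_num, by rw [D.val_zero]; exact one_mem _⟩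
  nab := by
    obtain ⟨-, -, a3, a4, a5, -, -, b3, b4, b5, hc⟩ := four_facts
    have h1 : (672 : ℕ) < 21504 := by norm_num
    have h2 : (5376 : ℕ) < 21504 := by norm_num
    refine ⟨D.val 672, (mem_tU D).2 ⟨D.val_comm _ h1, (val_cm D h1 lts.1).1 a4,
      (val_cm D h1 lts.2.1).1 a5⟩, D.val 5376, (mem_tU D).2 ⟨D.val_comm _ h2,
      (val_cm D h2 lts.1).1 b4, (val_cm D h2 lts.2.1).1 b5⟩, fun h => ?_⟩
    obtain ⟨q, hq, hql, e⟩ := mem_four D h
    have e' : D.val q = D.val (mulN 0 (mulN 0 672 5376) (invN 0 (mulN 0 5376 672))) := by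
      rw [e, D.val_mul _ _ (mulN_lt h1 _ _) (invN_lt _ _), D.val_inv (mulN_lt h2 _ _),
        D.val_mul _ _ h1 h2, D.val_mul _ _ h2 h1]
      group
    rw [← D.val_inj _ _ hql (mulN_lt (mulN_lt h1 _ _) _ _) e', hq] at hc
    exact Bool.noConfusion hc
  big_exists := fun g hg hg2 hg0 => by
    obtain ⟨q, hq, hb, -⟩ := big_coset D hF hg hg2 hg0
    obtain ⟨c, hc, e⟩ := (big_iff D hF).1
      ⟨mul_mem (mem_inf.1 hg).2 (four_in_fourCent D (four_mem D hq)), hb⟩
    refine ⟨c, hc, ?_⟩
    rw [e, mul_inv_rev, mul_assoc, inv_mul_cancel, mul_one]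
    exact inv_mem (four_mem D hq)
  big_unique := fun c hc h => by
    have hzT : z ∈ tU D := (mem_tU D).2 ⟨rfl, (uz D).symm, (D.val_comm _ lts.2.1).symm⟩
    have hz0 : z ∉ closure ({D.val uN, D.val vN} : Set G) := fun hz => by
      obtain ⟨q, hq, hql, e⟩ := mem_four D hz
      have : isV zN = true := by
        rwa [← D.val_inj q zN hql lts.2.2.2 (e.trans D.val_z.symm)]
      revert this; decide
    obtain ⟨q, hq, -, hu⟩ := big_coset D hF hzT (by rw [D.zz]; exact one_mem _) hz0
    obtain ⟨p, hp, hpl, ep⟩ := mem_four D h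
    have hB : Big z (D.val uN) (z * D.val p) := by
      rw [ep, D.zinv, ← mul_assoc, D.zz, one_mul]
      exact ((big_iff D hF).2 ⟨c, hc, rfl⟩).2
    have h0 := hu 0 (by decide) (by rw [D.val_zero, mul_one]; exact big_z D hF)
    have hp0 := hu p hp hB
    rw [hp0, ← h0, D.val_zero] at ep
    have e2 : c * z * c⁻¹ = z := by
      rw [← D.zinv] at ep ⊢
      exact (inv_mul_eq_one.1 ep.symm).symm |> fun e => by simpa [D.zinv] using e
    exact mul_inv_eq_iff_eq_mul.1 e2

/-- The centraliser of an involution of the second class has order at most `161280`. -/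
theorem card_cent_u : Nat.card (centralizer ({D.val 1680} : Set G)) ≤ 161280 := by
  show Nat.card (centralizer ({D.val uN} : Set G)) ≤ 161280
  set C := centralizer ({D.val uN} : Set G) with hC
  set M := fourCent (D.val uN) (D.val vN) with hM
  have hMC : M ≤ C := fun g hg => mem_centralizer_singleton_iff.2 ((mem_fourCent D).1 hg).1
  have hcard : Nat.card M = 80640 := (quotData D hF).fourCent_card
  have key : ∀ g : G, g * D.val uN = D.val uN * g → g ∉ M →
      g * D.val vN * g⁻¹ = D.val uN * D.val vN := fun g hg hgM =>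
    (((mem_kV D hF).1 (all_kV D hF hg)).2).resolve_left fun e =>
      hgM ((mem_fourCent D).2 ⟨hg, mul_inv_eq_iff_eq_mul.1 e⟩)
  have hidx : (M.subgroupOf C).index ≤ 2 := by
    by_cases h : C ≤ M
    · rw [subgroupOf_eq_top.2 h, index_top]; norm_num
    · obtain ⟨g, hgC, hgM⟩ := Set.not_subset.1 h
      refine le_of_eq (index_eq_two_iff.2 ⟨⟨g, hgC⟩, fun b => ?_⟩)
      have hgu := mem_centralizer_singleton_iff.1 (show g ∈ C from hgC)
      have hbu := mem_centralizer_singleton_iff.1 b.2
      have hg' := key g hgu hgM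
      rw [mem_subgroupOf, mem_subgroupOf]
      by_cases hbM : (b : G) ∈ M
      · refine Or.inr ⟨hbM, fun hc => hgM ?_⟩
        have := mul_mem (inv_mem hbM) hc
        rwa [coe_mul, inv_mul_cancel_left] at this
      · refine Or.inl ⟨?_, hbM⟩
        have hb' := key b hbu hbM
        refine (mem_fourCent D).2 ⟨by rw [coe_mul, mul_assoc, hgu, ← mul_assoc, hbu, mul_assoc],
          mul_inv_eq_iff_eq_mul.1 ?_⟩
        show (b : G) * g * D.val vN * ((b : G) * g)⁻¹ = D.val vN
        rw [show (b : G) * g * D.val vN * ((b : G) * g)⁻¹ = b * (g * D.val vN * g⁻¹) * (b : G)⁻¹ by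
          group, hg', conj_mul_conj, hb', hbu, mul_inv_cancel_right, ← mul_assoc, uu D, one_mul]
  have h1 := card_mul_index (M.subgroupOf C)
  rw [Nat.card_congr (subgroupOfEquivOfLe hMC).toEquiv, hcard] at h1
  omega

omit hF in
/-- The centraliser of an involution of the second class. -/
theorem exists_ucentT (hF : FusT D) :
    Nonempty (UCent D) :=
  ucent_of_quot (quotData D hF)
    (fun x hx => ((mem_kV D hF).1 (all_kV D hF hx)).2)
    (fun t ht htu => t_mem D hF ht htu)
    fun x hx => ⟨fun hB => (big_iff D hF).1 ⟨hx, hB⟩, fun h => ((big_iff D hF).2 h).2⟩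

end CfsgLib.Spor.HeTri.HeCase
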