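import Cfsg.Agent.Lib.Spor.HeRecog.Setting
import Cfsg.Agent.Lib.Spor.HeRecog.L34Config
import Cfsg.Agent.Lib.Spor.HeTri.HeSetup
import Cfsg.Agent.Lib.Spor.HeTri.HeGens

/-!
# Seven elements satisfying the relations of He in a group of Held type
-/

set_option autoImplicit false
set_option maxRecDepth 100000
set_option maxHeartbeats 1000000

namespace CfsgLib.Spor.HeTri.HeCase

open Cfsg.Spor CfsgLib.Spor.HeRecog

universe u

/-- Seven elements satisfying the relations give an embedding of He. -/
theorem heGens_of_gens {G : Type u} [Group G] {z : G} (D : Cen 0 z) (v : He.Gen → G)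
    (hv : v .a ≠ 1)
    (hcox : ∀ x y : He.Gen, (v x * v y) ^ coxLabel He.edges x y = 1)
    (he1 : v .e = (v .f * v .g) ^ 2) (he2 : v .e = (v .a * v .b * v .c) ^ 3)
    (ha : v .a = (v .c * v .d) ^ 5) (hlast : (v .c * v .d * v .f * v .g) ^ 4 = 1)
    (hval : ∀ x : He.Gen, x ≠ .d → v x = D.val (genNum x)) : Nonempty (HeGens D) := by
  haveI := CfsgLib.Spor.He.isHe.1
  have hrel : ∀ r ∈ coxRelators He.edges ∪ {r | r ∈ He.extra}, FreeGroup.lift v r = 1 := by
    rintro r (⟨x, -, y, -, rfl⟩ | hr)
    · simpa using hcox x y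
    · simp only [He.extra, List.mem_cons, List.not_mem_nil, or_false, Set.mem_setOf_eq] at hr
      rcases hr with rfl | rfl | rfl | rfl
      · simp [← he1]
      · simp [← he2]
      · simp [← ha]
      · simpa using hlast
  let φ : Cfsg.Spor.He →* G := PresentedGroup.toGroup hrel
  have hinj : Function.Injective φ := by
    rw [← MonoidHom.ker_eq_bot_iff]
    refine φ.normal_ker.eq_bot_or_eq_top.resolve_right fun h => hv ?_
    have hk : (PresentedGroup.of He.Gen.a : Cfsg.Spor.He) ∈ φ.ker := h ▸ Subgroup.mem_top _
    have e : φ (PresentedGroup.of He.Gen.a) = v .a := PresentedGroup.toGroup.of hrel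
    rw [← e]
    exact hk
  exact ⟨⟨φ, hinj, fun x hx => (PresentedGroup.toGroup.of hrel).trans (hval x hx)⟩⟩

section

variable {G : Type u} [Group G] {z : G} {D : Cen 0 z}

theorem isConj_of_rep (h : FusT D) {a : ℕ} (ha : a ∈ tReps) : IsConj (D.val a) z := by
  simp only [tReps, List.mem_cons, List.not_mem_nil, or_false] at ha
  rcases ha with rfl | rfl | rfl | rfl | rfl | rfl
  exacts [by rw [show 10752 = zN from rfl, D.val_z], h.t168, h.t1344, h.t21, h.t190, h.t1366]

theorem isConj_of_mem (h : FusT D) {a m : ℕ} (ha : a ∈ tReps) (hm : m ∈ clsOf 0 a) :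
    IsConj (D.val m) z :=
  (D.cls_isConj hm).symm.trans (isConj_of_rep h ha)

theorem not_isConj_of_mem (h : FusT D) {a m : ℕ} (ha : a = 1680 ∨ a = 1777)
    (hm : m ∈ clsOf 0 a) : ¬ IsConj (D.val m) z := fun hz => by
  rcases ha with rfl | rfl
  exacts [h.u1680 ((D.cls_isConj hm).trans hz), h.u1777 ((D.cls_isConj hm).trans hz)]

theorem isConj_of_inCls (h : FusT D) {m : ℕ} (hm : inCls tReps m = true) : IsConj (D.val m) z := by
  obtain ⟨r, hr, hrm⟩ := List.any_eq_true.1 hm
  obtain ⟨x, hx, hxm⟩ := List.any_eq_true.1 hrm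
  exact isConj_of_mem h hr (Nat.eq_of_beq_eq_true hxm ▸ hx)

theorem not_isConj_of_inCls (h : FusT D) {m : ℕ} (hm : inCls [1680, 1777] m = true) :
    ¬ IsConj (D.val m) z := by
  obtain ⟨r, hr, hrm⟩ := List.any_eq_true.1 hm
  obtain ⟨x, hx, hxm⟩ := List.any_eq_true.1 hrm
  exact not_isConj_of_mem h (by simpa using hr) (Nat.eq_of_beq_eq_true hxm ▸ hx)

/-- A commuting pair of involutions of the two classes centralises no element of order three. -/
theorem pow_three_eq_one (h : FusT D) {t w x : G} (ht : IsConj t z) (hw : orderOf w = 2)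
    (hwU : ¬ IsConj w z) (htw : Commute t w) (hxt : Commute x t) (hxw : Commute x w)
    (hx : x ^ 3 = 1) : x = 1 := by
  obtain ⟨g, hg⟩ := isConj_iff.1 ht
  let c : G →* G := (MulAut.conj g).toMonoidHom
  have hc : Function.Injective c := (MulAut.conj g).injective
  have ct : c t = z := hg
  have hw' : orderOf (c w) = 2 := (orderOf_injective c hc w).trans hw
  obtain ⟨m, hm, em, p, hp, hmem⟩ := D.invol_val hw' (by rw [← ct]; exact (htw.symm.map c).eq)
  rcases class_split p hp with hT | hU
  · refine absurd ?_ hwU
    have e := isConj_of_mem h hT hmem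
    rw [em] at e
    exact (isConj_conj_iff g).1 e
  obtain ⟨n, hn, en, ha, -⟩ := D.cls_conj hmem
  obtain ⟨k, hk⟩ : ∃ k, k = (D.val n)⁻¹ := ⟨_, rfl⟩
  let d : G →* G := (MulAut.conj k).toMonoidHom
  have hd : Function.Injective d := (MulAut.conj k).injective
  have dw : d (c w) = D.val p.1 := by
    show k * c w * k⁻¹ = _
    rw [← em, ← en, D.val_cj hn ha, hk]; group
  have dz : d z = z := by
    show k * z * k⁻¹ = _
    rw [hk, inv_inv, mul_assoc, ← D.val_comm n hn]; group
  obtain ⟨r, hr, er⟩ := D.val_surj (d (c x)) (by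
    conv_lhs => rw [← dz, ← ct]
    conv_rhs => rw [← dz, ← ct]
    exact ((hxt.map c).map d).eq)
  have e1 : mulN 0 r p.1 = mulN 0 p.1 r := D.mul_val_eq hr ha (by
    rw [er, ← dw]; exact ((hxw.map c).map d).eq)
  have e3 : powN 0 r 3 = 0 := D.val_eq_one (powN_lt 0 hr 3) (by
    rw [D.val_pow hr 3, er, ← map_pow, ← map_pow, hx, map_one, map_one])
  have hr0 : r = 0 := by
    have hc := allEls_spec tu_check r hr
    simp only [e3, Bool.and_eq_true] at hc
    rcases hU with e | e <;> rw [e] at e1 <;>
      simp only [e1] at hc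
    · simpa using hc.1
    · simpa using hc.2
  rw [hr0, D.val_zero] at er
  refine hc (hd ?_)
  rw [map_one, map_one]
  exact er.symm

end

/-- The seven elements satisfy the relations of He. -/
theorem exists_gens (h34 : StmtL34.{u}) {G : Type u} [Group G] [Finite G] {z : G}
    (D : Cen 0 z) (h : FusT D) (U : UCent D) : Nonempty (HeGens D) := by
  letI := U.grp
  haveI := U.fin
  obtain ⟨⟨t1, t2, t3, t4, t5, t6⟩, ⟨b1, b2, b3, b4, b5⟩, hsq, hbig,
    ⟨huv, huU, hvU, huvU, htU, hbzT⟩, ⟨r1, r2, r3, r4⟩, ⟨p1, p2, p3, p4⟩,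
    ⟨c1, c2, c3, c4, c5, c6, c7⟩⟩ := setting_check
  have hlt : ∀ m ∈ [13608, 2971, 1680, 11185, zN, 672, 5376, 97], m < 21504 := by
    decide +kernel
  have sq : ∀ m ∈ [13608, 2971, 1680, 11185, zN, 672, 5376, 97], D.val m * D.val m = 1 :=
    fun m hm => by rw [← D.val_mul m m (hlt m hm) (hlt m hm), hsq m hm, D.val_zero]
  have memM : ∀ m ∈ [zN, 672, 5376, 97],
      D.val m ∈ Subgroup.centralizer ({D.val uN, D.val vN} : Set G) := fun m hm => by
    obtain ⟨h1, h2, -⟩ := hbig m hm
    have hm' : m < 21504 := hlt m (by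
      simp only [List.mem_cons, List.not_mem_nil, or_false] at hm ⊢; tauto)
    refine Subgroup.mem_centralizer_iff.2 ?_
    rintro y (rfl | rfl)
    exacts [(D.val_commute hm' (by norm_num [uN]) h1).symm,
      (D.val_commute hm' (by norm_num [vN]) h2).symm]
  have big : ∀ m ∈ [zN, 672, 5376, 97], Big z (D.val uN) (D.val m) := fun m hm => by
    obtain ⟨h1, -, h3, h4⟩ := hbig m hm
    have hm' : m < 21504 := hlt m (by
      simp only [List.mem_cons, List.not_mem_nil, or_false] at hm ⊢; tauto)
    refine ⟨isConj_of_inCls h h3, D.val_commute hm' (by norm_num [uN]) h1, ?_⟩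
    rw [← D.val_mul m uN hm' (by norm_num [uN])]
    exact not_isConj_of_inCls h h4
  have cj : ∀ {n m : ℕ}, n < 21504 → m < 21504 → ∀ {r : ℕ}, cjN 0 n m = r →
      D.val n * D.val m * (D.val n)⁻¹ = D.val r := fun hn hm _ e => by rw [← D.val_cj hn hm, e]
  have ne1 : ∀ {m : ℕ}, m < 21504 → m ≠ 0 → D.val m ≠ 1 := fun hm h0 e => h0 (D.val_eq_one hm e)
  obtain ⟨d, dd, du, db, dz, df, dg, d5, d4⟩ := Setting.exists_generator
    (z := z) (u := D.val uN) (v := D.val vN) (τ := D.val 13608) (b := D.val 2971)
    (f := D.val 672) (g := D.val 5376) (k := D.val 97)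
    { X := U.X
      π := U.π
      surj := U.surj
      ker := U.ker
      big_exists := U.big_exists
      big_unique := U.big_unique
      sq_invol := U.sq_invol
      t_mem := U.t_mem
      zz := D.zz
      zne := fun e => by
        have := D.ord
        rw [e, orderOf_one] at this
        norm_num at this
      uu := sq uN (by simp [uN])
      une := ne1 (by norm_num [uN]) (by norm_num [uN])
      vv := sq vN (by simp [vN])
      uv := D.val_commute (by norm_num [uN]) (by norm_num [vN]) huv
      tt := sq 13608 (by simp)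
      bb := sq 2971 (by simp)
      ff := sq 672 (by simp)
      gg := sq 5376 (by simp)
      kk := sq 97 (by simp)
      zM := by
        have := memM zN (by simp)
        rwa [D.val_z] at this
      fM := memM 672 (by simp)
      gM := memM 5376 (by simp)
      kM := memM 97 (by simp)
      kne := fun e => absurd (D.val_inj 97 zN (by norm_num) (by norm_num [zN])
        (e.trans D.val_z.symm)) (by decide)
      uT := not_isConj_of_inCls h huU
      vT := not_isConj_of_inCls h hvU
      uvT := by
        rw [← D.val_mul _ _ (by norm_num [uN]) (by norm_num [vN])]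
        exact not_isConj_of_inCls h huvU
      fBig := big 672 (by simp)
      gBig := big 5376 (by simp)
      kBig := big 97 (by simp)
      zBig := by
        have := big zN (by simp)
        rwa [D.val_z] at this
      tu := cj (by norm_num) (by norm_num [uN]) t1
      tv := (cj (by norm_num) (by norm_num [vN]) t2).trans (D.val_mul _ _ (by norm_num) (by norm_num))
      tz := by
        have := cj (by norm_num) (by norm_num [zN]) t3
        rwa [D.val_z] at this
      tf := cj (by norm_num) (by norm_num) t4
      tg := cj (by norm_num) (by norm_num) t5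
      tk := by
        rw [cj (by norm_num) (by norm_num) t6, D.val_mul _ _ (mulN_lt (by norm_num) _ _) (by norm_num),
          D.val_mul _ _ (by norm_num) (by norm_num [zN]), D.val_z]
        rfl
      bu := (cj (by norm_num) (by norm_num [uN]) b1).trans (D.val_mul _ _ (by norm_num) (by norm_num))
      bt := cj (by norm_num) (by norm_num) b2
      bz := by
        have := cj (by norm_num) (by norm_num [zN]) b3
        rwa [D.val_z] at this
      bf := cj (by norm_num) (by norm_num) b4
      bg := cj (by norm_num) (by norm_num) b5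
      fg := by
        rw [← D.val_mul _ _ (by norm_num) (by norm_num),
          ← D.val_mul _ _ (mulN_lt (by norm_num) _ _) (mulN_lt (by norm_num) _ _), r1, D.val_z]
      kf := D.val_commute (by norm_num) (by norm_num) r2
      kg := D.val_commute (by norm_num) (by norm_num) r3
      bzT := by
        have := isConj_of_inCls h hbzT
        rwa [D.val_mul _ _ (by norm_num) (by norm_num [zN]), D.val_z] at this
      tauU := ⟨D.val_invol (by norm_num) (hsq 13608 (by simp)) (by norm_num),
        not_isConj_of_inCls h htU⟩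
      three := fun t w x => pow_three_eq_one h
      config := fun F G' C E hF hG hC hE hEE hE1 hC1 hCE hCF hCG => by
        obtain ⟨d₀, a1, a2, a3, a4, a5, hall, n1, -, -, hord⟩ :=
          h34 U.l34 F G' C E hF hG hC hE hEE hE1 hC1 hCE hCF hCG
        exact ⟨d₀, ⟨a1, a2, a3, a4, a5⟩, fun d ⟨s1, s2, s3, s4, s5⟩ => hall d s1 s2 s3 s4 s5, n1,
          fun d ⟨s1, s2, s3, s4, s5⟩ => hord d s1 s2 s3 s4 s5⟩ }
  have hc : D.val 97 * D.val uN = D.val 1777 := by
    rw [← D.val_mul _ _ (by norm_num) (by norm_num [uN])]
    exact congrArg D.val r4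
  rw [hc] at d5 d4
  -- the relations
  have cmm : ∀ {m n : ℕ}, m < 21504 → n < 21504 → mulN 0 m n = mulN 0 n m →
      Commute (D.val m) (D.val n) := fun hm hn e => D.val_commute hm hn e
  have cz : ∀ {m : ℕ}, m < 21504 → Commute (D.val m) z := fun hm => D.val_comm _ hm
  have pw : ∀ {m n i r : ℕ}, m < 21504 → n < 21504 → powN 0 (mulN 0 m n) i = r →
      (D.val m * D.val n) ^ i = D.val r := fun hm hn e => by
    rw [← D.val_mul _ _ hm hn, ← D.val_pow (mulN_lt hm _ _), e]
  have cc : D.val 1777 * D.val 1777 = 1 := by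
    rw [← hc, show D.val 97 * D.val uN * (D.val 97 * D.val uN) =
      D.val 97 * (D.val uN * D.val 97) * D.val uN by group,
      (cmm (m := uN) (n := 97) (by norm_num [uN]) (by norm_num) (hbig 97 (by simp)).1.symm).eq,
      show D.val 97 * (D.val 97 * D.val uN) * D.val uN =
        (D.val 97 * D.val 97) * (D.val uN * D.val uN) by group,
      sq 97 (by simp), sq uN (by simp [uN]), one_mul]
  have sq2 : ∀ {x : G}, x * x = 1 → (x * x) ^ 1 = 1 := fun h => by rw [pow_one, h]
  have com2 : ∀ {x y : G}, x * x = 1 → y * y = 1 → Commute x y → (x * y) ^ 2 = 1 := fun hx hy hxy => by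
    rw [hxy.mul_pow, pow_two, pow_two, hx, hy, one_mul]
  have rev : ∀ {x y : G} {n : ℕ}, (x * y) ^ n = 1 → (y * x) ^ n = 1 := fun {x y n} h => by
    rw [show y * x = y * (x * y) * y⁻¹ by group, conj_pow, h]; group
  refine heGens_of_gens D
    (fun | .a => D.val uN | .b => D.val 2971 | .c => D.val 1777 | .d => d | .e => z
         | .f => D.val 672 | .g => D.val 5376) (ne1 (by norm_num [uN]) (by norm_num [uN]))
    (fun x y => ?_) ?_ ?_ d5.symm d4 (fun x hx => ?_)
  · have za := sq uN (by simp [uN])
    have zb := sq 2971 (by simp)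
    have zf := sq 672 (by simp)
    have zg := sq 5376 (by simp)
    have ab : (D.val uN * D.val 2971) ^ 4 = 1 :=
      (pw (by norm_num [uN]) (by norm_num) p2).trans D.val_zero
    have bc : (D.val 2971 * D.val 1777) ^ 3 = 1 :=
      (pw (by norm_num) (by norm_num) p3).trans D.val_zero
    have fg : (D.val 672 * D.val 5376) ^ 4 = 1 :=
      (pw (by norm_num) (by norm_num) p1).trans D.val_zero
    have cd : (D.val 1777 * d) ^ 10 = 1 := by
      rw [show 10 = 5 * 2 from rfl, pow_mul, d5, pow_two, za]
    have ac := com2 za cc (cmm (by norm_num [uN]) (by norm_num) c7.symm)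
    have af := com2 za zf (cmm (by norm_num [uN]) (by norm_num) c1)
    have ag := com2 za zg (cmm (by norm_num [uN]) (by norm_num) c2)
    have cf := com2 cc zf (cmm (by norm_num) (by norm_num) c3)
    have cg := com2 cc zg (cmm (by norm_num) (by norm_num) c4)
    have bf := com2 zb zf (cmm (by norm_num) (by norm_num) c5)
    have bg := com2 zb zg (cmm (by norm_num) (by norm_num) c6)
    have ad := com2 za dd (show Commute _ d from du.symm)
    have bd := com2 zb dd (show Commute _ d from db)
    have ae := com2 za D.zz (cz (by norm_num [uN]))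
    have be := com2 zb D.zz (cz (by norm_num))
    have ce := com2 cc D.zz (cz (by norm_num))
    have fe := com2 zf D.zz (cz (by norm_num))
    have ge := com2 zg D.zz (cz (by norm_num))
    cases x <;> cases y
    all_goals simp only [coxLabel, He.edges]
    all_goals first
      | exact sq2 za | exact sq2 zb | exact sq2 cc | exact sq2 dd | exact sq2 D.zz
      | exact sq2 zf | exact sq2 zg
      | exact ab | exact rev ab | exact bc | exact rev bc | exact fg | exact rev fg
      | exact cd | exact rev cd | exact dz | exact rev dz | exact df | exact rev df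
      | exact dg | exact rev dg
      | exact ac | exact rev ac | exact af | exact rev af | exact ag | exact rev ag
      | exact cf | exact rev cf | exact cg | exact rev cg | exact bf | exact rev bf
      | exact bg | exact rev bg | exact ad | exact rev ad | exact bd | exact rev bd
      | exact ae | exact rev ae | exact be | exact rev be | exact ce | exact rev ce
      | exact fe | exact rev fe | exact ge | exact rev ge
  · show z = (D.val 672 * D.val 5376) ^ 2
    rw [pow_two, ← D.val_mul _ _ (by norm_num) (by norm_num),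
      ← D.val_mul _ _ (mulN_lt (by norm_num) _ _) (mulN_lt (by norm_num) _ _), r1, D.val_z]
  · show z = (D.val 1680 * D.val 2971 * D.val 1777) ^ 3
    rw [← D.val_mul _ _ (by norm_num) (by norm_num),
      pw (mulN_lt (by norm_num) _ _) (by norm_num) p4, D.val_z]
  · cases x
    all_goals first
      | exact absurd rfl hx
      | rfl
      | exact D.val_z.symm

/-- The embedding of He. -/
theorem he_gens : StmtHeGens.{u} := fun D h =>
  let ⟨U⟩ := exists_ucentT D h
  exists_gens l34_config D h U

end CfsgLib.Spor.HeTri.HeCase
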