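import Cfsg.Agent.Lib.Spor.HeTri.HeTopU
import Cfsg.Agent.Lib.Spor.HeTri.HeSetting

/-!
# The embedding of the Held group is onto, given the census
-/

set_option autoImplicit false

namespace CfsgLib.Spor.HeTri.HeCase

open CfsgLib.Spor.HeRecog

universe u

/-- The census for the pattern of the Held group. -/
def StmtCensusHe : Prop :=
  ∀ {G : Type u} [Group G] [Finite G] {z : G} (D : Cen 0 z), Pattern D heT →
    ∀ H : Subgroup G, Subgroup.centralizer ({z} : Set G) ≤ H →
      (∀ x ∈ H, IsConj z x → ∃ h ∈ H, h * z * h⁻¹ = x) →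
      Subgroup.centralizer ({D.val uN} : Set G) ≤ H → H = ⊤

theorem he_top_of_census (hC : StmtCensusHe.{u}) : StmtHeTop.{u} := by
  intro G _ _ z D hF E
  exact hC D (pattern_of_fusT hF) E.φ.range (cent_le_range E) (range_fusion E hF)
    (cent_u_le_range E (card_cent_u D hF))

theorem he_iso_of_census (hC : StmtCensusHe.{u}) : StmtHe.{u} := by
  intro G _ _ z D hP
  obtain ⟨E⟩ := he_gens D (fusT_of_pattern hP)
  have h := he_top_of_census hC D (fusT_of_pattern hP) E
  exact ⟨(MulEquiv.ofBijective E.φ ⟨E.inj, MonoidHom.range_eq_top.1 h⟩).symm⟩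

end CfsgLib.Spor.HeTri.HeCase
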