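import Cfsg.Agent.Lib.Spor.HeTri.L5Iso
import Cfsg.Agent.Lib.Spor.HeTri.Census

/-!
# The recognition of SL(5, 2), given the normalisers
-/

set_option autoImplicit false

namespace CfsgLib.Spor.HeTri

universe u

/-- P4: the linear group, given the normalisers. -/
theorem l5_iso (hN : StmtNormalA.{u}) : StmtL5.{u} :=
  l5_iso_of hN fun D hP H hcent hfus => eq_top_l5 D hP H hcent hfus

end CfsgLib.Spor.HeTri
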