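import Cfsg.Agent.Lib.Spor.HeTri.Interface
import Cfsg.Agent.Lib.Spor.HeTri.SylowTwo
import Cfsg.Agent.Lib.Spor.HeRecog.BasicFusion

/-!
# Fusion in a subgroup containing the centraliser

A subgroup containing `C(z)` in which the representatives of the fused classes are fused to `z`
controls the fusion of `z`: its involutions are conjugate in it into `C(z)`.
-/

set_option autoImplicit false
set_option maxRecDepth 100000

namespace CfsgLib.Spor.HeTri

open CfsgLib.Spor.HeRecog Subgroup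

universe u

theorem reps_check : ∀ p ∈ clsL 0, p.1 = zN ∨ p.1 ∈ reps := by decide +kernel

/-- The fusion of `z` inside a subgroup containing its centraliser. -/
theorem fusion_of_reps {G : Type u} [Group G] [Finite G] {z : G} (D : Cen 0 z) {T : List ℕ}
    (hP : Pattern D T) (H : Subgroup G) (hcent : centralizer ({z} : Set G) ≤ H)
    (hrep : ∀ a ∈ T, ∃ h ∈ H, h * z * h⁻¹ = D.val a) :
    ∀ x ∈ H, IsConj z x → ∃ h ∈ H, h * z * h⁻¹ = x := by
  intro x hx hzx
  haveI : Fact (Nat.Prime 2) := ⟨Nat.prime_two⟩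
  obtain ⟨R, hR⟩ := Sylow.exists_subgroup_card_pow_prime 2 (n := 10)
    (G := centralizer ({z} : Set G)) (by rw [D.card_cent]; norm_num)
  obtain ⟨g, rfl⟩ := isConj_iff.1 hzx
  have ho : orderOf (g * z * g⁻¹) = 2 := ((MulAut.conj g).orderOf_eq z).trans D.ord
  obtain ⟨c, hc, hle⟩ := exists_conj_le (m := 1) (zpowers_le.2 hx)
    ((map_subtype_le R).trans hcent) (by rw [Nat.card_zpowers, ho, pow_one])
    (by rw [card_map_of_injective (subtype_injective _), hR])
    (fun h => D.not_2048 (by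
      have := h.trans (card_subgroup_dvd_card H)
      norm_num at this
      exact this))
  obtain ⟨y, hy, e⟩ : ∃ y : centralizer ({z} : Set G), y ∈ R ∧
      (y : G) = c * (g * z * g⁻¹) * c⁻¹ := hle ⟨_, mem_zpowers _, rfl⟩
  have hyz : c * (g * z * g⁻¹) * c⁻¹ * z = z * (c * (g * z * g⁻¹) * c⁻¹) := by
    rw [← e]; exact mem_centralizer_singleton_iff.1 y.2
  obtain ⟨m, hm, hmv, p, hp, hmp⟩ :=
    D.invol_val (((MulAut.conj c).orderOf_eq _).trans ho) hyz
  obtain ⟨n, hn, hcj, ha, -⟩ := D.cls_conj hmp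
  suffices hs : ∃ h ∈ H, h * z * h⁻¹ = c * (g * z * g⁻¹) * c⁻¹ by
    obtain ⟨h, hh, e⟩ := hs
    refine ⟨c⁻¹ * h, mul_mem (inv_mem hc) hh, ?_⟩
    calc c⁻¹ * h * z * (c⁻¹ * h)⁻¹ = c⁻¹ * (h * z * h⁻¹) * c := by group
      _ = _ := by rw [e]; group
  rw [show c * (g * z * g⁻¹) * c⁻¹ = D.val m from hmv.symm, ← hcj, D.val_cj hn ha]
  have hnH : D.val n ∈ H := hcent (mem_centralizer_singleton_iff.2 (D.val_comm n hn))
  rcases reps_check p hp with h | h
  · refine ⟨1, one_mem _, ?_⟩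
    rw [h, D.val_z, D.val_comm n hn]
    group
  · have hfus : IsConj (D.val p.1) z := by
      have h1 : IsConj (D.val p.1) (D.val m) := isConj_iff.2 ⟨D.val n, by rw [← D.val_cj hn ha, hcj]⟩
      refine h1.trans ?_
      rw [hmv]
      exact (isConj_iff.2 ⟨c * g, by rw [MulAut.conj_apply]; group⟩ : IsConj z _).symm
    obtain ⟨h', hh', e⟩ := hrep _ ((hP _ h).1 hfus)
    refine ⟨D.val n * h', mul_mem hnH hh', ?_⟩
    rw [← e]
    group

end CfsgLib.Spor.HeTri
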