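import Cfsg.Agent.Lib.Spor.HeTri.M24Rels
import Cfsg.Agent.Lib.Spor.HeTri.FusRange
import Cfsg.Agent.Lib.Spor.HeTri.Census
import Cfsg.Agent.Lib.Spor.MathieuSimple
import Cfsg.Agent.Lib.Spor.M24Order

/-!
# Recognition of `M₂₄` from the relations

Given the bound on groups satisfying the relations and one realisation in `M₂₄`, a group with the
Mathieu pattern which contains elements satisfying the relations is `M₂₄`.
-/

set_option autoImplicit false
set_option maxRecDepth 100000

namespace CfsgLib.Spor.HeTri.MTF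

open CfsgLib.Spor.HeRecog Subgroup

universe u

/-- The fused classes, read off from the pairs of the relations. -/
theorem class_steps : 2688 ∈ clsOf 0 1344 ∧ 15536 ∈ clsOf 0 1366 ∧ 97 ∈ clsOf 0 21 ∧
    336 ∈ clsOf 0 168 := by decide +kernel

/-- The relations hold for pairs. -/
theorem Rels.prod {P Q : Type u} [Group P] [Group Q] {v : ℕ → P} {g n : P} {v' : ℕ → Q}
    {g' n' : Q} (h : Rels v g n) (h' : Rels v' g' n') :
    Rels (fun m => (v m, v' m)) (g, g') (n, n') where
  mul a ha b hb := Prod.ext (h.mul a ha b hb) (h'.mul a ha b hb)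
  gg := Prod.ext h.gg h'.gg
  nn := Prod.ext h.nn h'.nn
  gn := Prod.ext h.gn h'.gn
  g_x p hp := Prod.ext (h.g_x p hp) (h'.g_x p hp)
  n_x p hp := Prod.ext (h.n_x p hp) (h'.n_x p hp)
  line := Prod.ext h.line h'.line
  six := Prod.ext h.six h'.six
  ncn := Prod.ext h.ncn h'.ncn
  ncn' := Prod.ext h.ncn' h'.ncn'

/-- The projection of a bounded group of pairs gives a homomorphism. -/
theorem exists_hom {P Q : Type u} [Group P] [Finite P] [Group Q] [Finite Q]
    (hcard : StmtCard.{u}) {v : ℕ → P} {g n : P} {v' : ℕ → Q} {g' n' : Q} (h : Rels v g n)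
    (h' : Rels v' g' n') (hQ : Nat.card Q = 244823040) (htop : gens v' g' n' = ⊤) :
    ∃ f : Q →* P, f g' = g ∧ f n' = n ∧ ∀ m < 21504, f (v' m) = v m := by
  set K := gens (fun m => (v m, v' m)) (g, g') (n, n') with hK
  let π : K →* Q := (MonoidHom.snd P Q).comp K.subtype
  have hsurj : Function.Surjective π := by
    rw [← MonoidHom.range_eq_top, MonoidHom.range_comp, range_subtype, eq_top_iff, ← htop]
    refine (closure_le _).2 ?_
    rintro x (⟨m, hm, rfl⟩ | rfl | rfl)
    · exact ⟨(v m, v' m), subset_closure (Or.inl ⟨m, hm, rfl⟩), rfl⟩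
    · exact ⟨(g, x), subset_closure (Or.inr (Or.inl rfl)), rfl⟩
    · exact ⟨(n, x), subset_closure (Or.inr (Or.inr rfl)), rfl⟩
  have hbij : Function.Bijective π :=
    hsurj.bijective_of_nat_card_le ((hcard _ _ _ (h.prod h')).trans_eq hQ.symm)
  let e : K ≃* Q := MulEquiv.ofBijective π hbij
  have key : ∀ p : P × Q, p ∈ K → (e.symm p.2 : P × Q).1 = p.1 := fun p hp => by
    have he : e ⟨p, hp⟩ = p.2 := rfl
    rw [← he, e.symm_apply_apply]
  exact ⟨(MonoidHom.fst P Q).comp (K.subtype.comp e.symm.toMonoidHom),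
    key (g, g') (subset_closure (Or.inr (Or.inl rfl))),
    key (n, n') (subset_closure (Or.inr (Or.inr rfl))),
    fun m hm => key (v m, v' m) (subset_closure (Or.inl ⟨m, hm, rfl⟩))⟩

/-- A subgroup with the centraliser and the two elements fuses the classes of the pattern. -/
theorem reps_fused {G : Type u} [Group G] {z : G} {D : Cen 0 z} {g n : G}
    (hR : Rels D.val g n) (H : Subgroup G) (hcent : centralizer ({z} : Set G) ≤ H)
    (hg : g ∈ H) (hn : n ∈ H) : ∀ a ∈ m24T, ∃ h ∈ H, h * z * h⁻¹ = D.val a := by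
  have hval : ∀ m < 21504, D.val m ∈ H := fun m hm => hcent (D.mem_cent_iff.2 ⟨m, hm, rfl⟩)
  have conj : ∀ (x : G) (a b : G), x ∈ H → x * a = b * x →
      (∃ h ∈ H, h * z * h⁻¹ = a) → ∃ h ∈ H, h * z * h⁻¹ = b := by
    rintro x a b hx e ⟨h, hh, rfl⟩
    refine ⟨x * h, mul_mem hx hh, ?_⟩
    rw [eq_mul_inv_of_mul_eq e.symm]
    group
  have back : ∀ (x : G) (a b : G), x ∈ H → x * a = b * x →
      (∃ h ∈ H, h * z * h⁻¹ = b) → ∃ h ∈ H, h * z * h⁻¹ = a := fun x a b hx e =>
    conj x⁻¹ b a (inv_mem hx) (by rw [eq_mul_inv_iff_mul_eq, mul_assoc, ← e, inv_mul_cancel_left])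
  have cls : ∀ a b, b ∈ clsOf 0 a →
      ((∃ h ∈ H, h * z * h⁻¹ = D.val a) ↔ ∃ h ∈ H, h * z * h⁻¹ = D.val b) := by
    intro a b hb
    obtain ⟨c, hc, e, ha, -⟩ := D.cls_conj hb
    have e' : D.val c * D.val a = D.val b * D.val c := by
      rw [← e, D.val_cj hc ha, inv_mul_cancel_right]
    exact ⟨conj _ _ _ (hval c hc) e', back _ _ _ (hval c hc) e'⟩
  have h1 : ∃ h ∈ H, h * z * h⁻¹ = D.val 1344 :=
    back g _ (D.val 10752) hg (hR.g_x (1344, 10752) (by simp [gPairs]))
      ⟨1, one_mem _, by rw [show (10752 : ℕ) = zN from rfl, D.val_z]; group⟩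
  have h15 : ∃ h ∈ H, h * z * h⁻¹ = D.val 15536 :=
    conj g _ _ hg (hR.g_x (2688, 15536) (by simp [gPairs])) ((cls _ _ class_steps.1).1 h1)
  have h97 : ∃ h ∈ H, h * z * h⁻¹ = D.val 97 :=
    conj n _ _ hn (hR.n_x (1344, 97) (by simp [nPairs])) h1
  have h336 : ∃ h ∈ H, h * z * h⁻¹ = D.val 336 :=
    back g _ _ hg (hR.g_x (336, 97) (by simp [gPairs])) h97
  intro a ha
  simp only [m24T, List.mem_cons, List.not_mem_nil, or_false] at ha
  rcases ha with rfl | rfl | rfl | rfl
  · exact (cls _ _ class_steps.2.2.1).2 h97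
  · exact (cls _ _ class_steps.2.2.2).2 h336
  · exact h1
  · exact (cls _ _ class_steps.2.1).2 h15

/-- The recognition of `M₂₄` from the relations. -/
theorem iso_of_rels (hcard : StmtCard.{u})
    (htgt : ∃ (v : ℕ → ↥Cfsg.M24) (g n : ↥Cfsg.M24), Rels v g n ∧ gens v g n = ⊤)
    {G : Type u} [Group G] [Finite G] {z : G} (D : Cen 0 z) (hP : Pattern D m24T) {g n : G}
    (hR : Rels D.val g n) : Nonempty (G ≃* Cfsg.M24) := by
  obtain ⟨v, g', n', h', htop⟩ := htgt
  have : Finite ↥Cfsg.M24 := Nat.finite_of_card_ne_zero (by rw [natCard_M24]; norm_num)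
  -- the target in the universe of `G`
  let up : ↥Cfsg.M24 ≃* ULift.{u} ↥Cfsg.M24 := MulEquiv.ulift.symm
  have h'' : Rels (fun m => up (v m)) (up g') (up n') :=
    { mul := fun a ha b hb => by rw [h'.mul a ha b hb, map_mul]
      gg := by rw [← map_mul, h'.gg, map_one]
      nn := by rw [← map_mul, h'.nn, map_one]
      gn := by rw [← map_mul, ← map_mul, h'.gn]
      g_x := fun p hp => by rw [← map_mul, ← map_mul, h'.g_x p hp]
      n_x := fun p hp => by rw [← map_mul, ← map_mul, h'.n_x p hp]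
      line := by simp only [← map_mul, h'.line, map_one]
      six := by simp only [← map_mul, h'.six, map_one]
      ncn := by simp only [← map_mul, h'.ncn, map_one]
      ncn' := by simp only [← map_mul, h'.ncn', map_one] }
  obtain ⟨f, hfg, hfn, hfv⟩ := exists_hom hcard hR h''
    ((Nat.card_congr up.toEquiv.symm).trans natCard_M24) (by
      rw [eq_top_iff]
      intro x _
      obtain ⟨y, rfl⟩ := up.surjective x
      have hy : y ∈ gens v g' n' := htop ▸ mem_top y
      refine (closure_le ((gens (fun m => up (v m)) (up g') (up n')).comap up.toMonoidHom)).2 ?_ hy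
      rintro w (⟨m, hm, rfl⟩ | rfl | rfl)
      · exact subset_closure (Or.inl ⟨m, hm, rfl⟩)
      · exact subset_closure (Or.inr (Or.inl rfl))
      · exact subset_closure (Or.inr (Or.inr rfl)))
  let φ : ↥Cfsg.M24 →* G := f.comp up.toMonoidHom
  have hφv : ∀ m < 21504, φ (v m) = D.val m := fun m hm => hfv m hm
  have hinj : Function.Injective φ := by
    have := isSimpleGroup_M24
    refine (MonoidHom.ker_eq_bot_iff φ).1
      ((φ.normal_ker.eq_bot_or_eq_top).resolve_right fun h => ?_)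
    have h1 : φ (v zN) = 1 := MonoidHom.mem_ker.1 (h ▸ mem_top _)
    rw [hφv zN (by decide), D.val_z] at h1
    have := D.ord
    rw [h1, orderOf_one] at this
    norm_num at this
  have hcent : centralizer ({z} : Set G) ≤ φ.range := fun x hx => by
    obtain ⟨m, hm, rfl⟩ := D.mem_cent_iff.1 hx
    exact ⟨v m, hφv m hm⟩
  have hfus := fusion_of_reps D hP φ.range hcent
    (reps_fused hR φ.range hcent ⟨g', hfg⟩ ⟨n', hfn⟩)
  have hsurj : Function.Surjective φ :=
    MonoidHom.range_eq_top.1 (eq_top_m24 D hP φ.range hcent hfus)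
  exact ⟨(MulEquiv.ofBijective φ ⟨hinj, hsurj⟩).symm⟩

end CfsgLib.Spor.HeTri.MTF
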