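import Cfsg.Agent.Lib.Spor.HeTri.M24CardCheck

/-!
Checks of the rows of the large table, second part.
-/

set_option autoImplicit false

namespace CfsgLib.Spor.HeTri.MTF.Card

open CfsgLib.Spor.HeRecog

theorem rowK5_4_check : rowK5_4.all (okRowK 5) = true := by decide +kernel

theorem rowK5_5_check : rowK5_5.all (okRowK 5) = true := by decide +kernel

theorem rowK5_6_check : rowK5_6.all (okRowK 5) = true := by decide +kernel

theorem rowK5_7_check : rowK5_7.all (okRowK 5) = true := by decide +kernel

end CfsgLib.Spor.HeTri.MTF.Card
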