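import Cfsg.Agent.Lib.Spor.HeTri.M24CardCheckA
import Cfsg.Agent.Lib.Spor.HeTri.M24CardCheckB

/-!
# The order bound for the relations of `M₂₄`
-/

set_option autoImplicit false

namespace CfsgLib.Spor.HeTri.MTF

open CfsgLib.Spor.HeRecog Card

universe u

namespace Card

theorem words_check (m : ℕ) (hm : m < 21504) :
    mulN 0 (wev five 16 (qWords.getD (m / 168) 0)) (wev five 16 (kWords.getD (m % 168) 0)) = m := by
  rw [Nat.eq_of_beq_eq_true (allN_spec qWords_check (m / 168) (by omega)),
    Nat.eq_of_beq_eq_true (allN_spec kWords_check (m % 168) (by omega))]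
  exact Nat.eq_of_beq_eq_true (allEls_spec split_check m hm)

theorem tableK_check :
    (List.range tabK.length).all (okTable factK tabK [0, 1]) = true := by
  have key : ∀ j < 6, (tabK.getD j []).all (okRowK j) = true := by
    intro j hj
    interval_cases j
    · show (rowsK0).all (okRowK 0) = true
      simp only [rowsK0, List.all_append, Bool.and_eq_true]
      exact rowK0_0_check
    · show (rowsK1).all (okRowK 1) = true
      simp only [rowsK1, List.all_append, Bool.and_eq_true]
      exact rowK1_0_check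
    · show (rowsK2).all (okRowK 2) = true
      simp only [rowsK2, List.all_append, Bool.and_eq_true]
      exact rowK2_0_check
    · show (rowsK3).all (okRowK 3) = true
      simp only [rowsK3, List.all_append, Bool.and_eq_true]
      exact rowK3_0_check
    · show (rowsK4).all (okRowK 4) = true
      simp only [rowsK4, List.all_append, Bool.and_eq_true]
      exact ⟨⟨⟨rowK4_0_check, rowK4_1_check⟩, rowK4_2_check⟩, rowK4_3_check⟩
    · show (rowsK5).all (okRowK 5) = true
      simp only [rowsK5, List.all_append, Bool.and_eq_true]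
      exact ⟨⟨⟨⟨⟨⟨⟨rowK5_0_check, rowK5_1_check⟩, rowK5_2_check⟩, rowK5_3_check⟩, rowK5_4_check⟩, rowK5_5_check⟩, rowK5_6_check⟩, rowK5_7_check⟩
  rw [List.all_eq_true]
  intro j hj
  exact key j (by simpa [tabK] using List.mem_range.mp hj)

variable {P : Type u} [Group P] [Finite P] {v : ℕ → P} {g n : P}

theorem gens_model (S : Sem v g n) {m : ℕ} (hm : m < 21504) :
    v m ∈ Subgroup.closure (v '' {a | a ∈ five}) := by
  have h := words_check m hm
  have key := fun w => wev_spec S (gs := five)
    (Q := fun a => v a ∈ Subgroup.closure (v '' {a | a ∈ five})) (by simp [v_zero S])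
    (fun a ha => ⟨(by decide : ∀ a ∈ five, a < 21504) a ha, Subgroup.subset_closure ⟨a, ha, rfl⟩⟩)
    (fun a b ha hb h1 h2 => by rw [S.mul a ha b hb]; exact mul_mem h1 h2) 16 w
  obtain ⟨h1, h2⟩ := key (qWords.getD (m / 168) 0)
  obtain ⟨h3, h4⟩ := key (kWords.getD (m % 168) 0)
  rw [← h, S.mul _ h1 _ h3]
  exact mul_mem h2 h4

theorem card_model (S : Sem v g n) :
    Nat.card (Subgroup.closure (v '' {m | m < 21504})) ≤ 21504 := by
  refine (card_closure_le (fun i : Fin 21504 => v i) _ ⟨⟨0, by norm_num⟩, v_zero S⟩ ?_).trans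
    (by simp)
  rintro ⟨i, hi⟩ _ ⟨m, hm, rfl⟩
  exact ⟨⟨mulN 0 i m, mulN_lt hi _ _⟩, S.mul i hi m hm⟩

omit [Finite P] in
theorem letV_zero : letV g n 0 = g := rfl

omit [Finite P] in
theorem letV_one : letV g n 1 = n := rfl

theorem holdsC (S : Sem v g n) :
    ∀ f ∈ initC, Holds v g n (Subgroup.closure (v '' {m | m < 21504}))
      (fun j => if j = 0 then 1 else n) f := by
  intro f hf
  simp only [initC, List.mem_append, List.mem_map, List.mem_singleton] at hf
  rcases hf with (⟨m, hm, rfl⟩ | rfl) | ⟨p, hp, rfl⟩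
  · refine ⟨fun _ => ⟨(by decide : ∀ a ∈ five, a < 21504) m hm, ?_⟩, fun h => by simp at h⟩
    have h : v m ∈ Subgroup.closure (v '' {m | m < 21504}) :=
      Subgroup.subset_closure ⟨m, (by decide : ∀ a ∈ five, a < 21504) m hm, rfl⟩
    simpa using h
  · refine ⟨fun h => by simp at h, fun _ => ⟨by norm_num, by norm_num, ?_⟩⟩
    simp [Cg, ptV, letV_one, v_zero S]
  · refine ⟨fun _ => ⟨(pairs_lt 1 p hp).1, ?_⟩, fun h => by simp at h⟩
    have h1 : n * v p.1 = v p.2 * n := S.pair 1 p hp
    simp only [Nat.one_ne_zero, ↓reduceIte]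
    rw [h1, mul_inv_cancel_right]
    exact Subgroup.subset_closure ⟨p.2, (pairs_lt 1 p hp).2, rfl⟩

/-- the double coset representatives -/
def wK (v : ℕ → P) (g n : P) : ℕ → P
  | 1 => g
  | 2 => g * v 2 * g
  | 3 => g * v 2 * n
  | 4 => g * v 2 * g * n
  | 5 => g * v 2 * g * v 3 * g
  | _ => 1

theorem holdsK (S : Sem v g n) :
    ∀ f ∈ initK, Holds v g n (Subgroup.closure (v '' {m | m < 21504} ∪ {n})) (wK v g n) f := by
  intro f hf
  simp only [initK, List.mem_append, List.mem_map, List.mem_cons, List.not_mem_nil, or_false] at hf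
  rcases hf with ⟨m, hm, rfl⟩ | rfl | rfl | rfl | rfl | rfl | rfl
  · refine ⟨fun _ => ⟨(by decide : ∀ a ∈ five, a < 21504) m hm, ?_⟩, fun h => by simp at h⟩
    have h : v m ∈ Subgroup.closure (v '' {m | m < 21504} ∪ {n}) :=
      Subgroup.subset_closure
        (Or.inl ⟨m, (by decide : ∀ a ∈ five, a < 21504) m hm, rfl⟩)
    simpa [wK] using h
  · refine ⟨fun h => by simp at h, fun _ => ⟨by norm_num, by norm_num, ?_⟩⟩
    simpa [Cg, ptV, letV_one, wK, v_zero S] using Subgroup.subset_closure
      (Set.mem_union_right (v '' {m | m < 21504}) (Set.mem_singleton n))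
  all_goals
    refine ⟨fun h => by simp at h, fun _ => ⟨by norm_num, by norm_num, ?_⟩⟩
    simp [Cg, ptV, letV_zero, letV_one, wK, v_zero S, mul_assoc]

end Card

/-- the relations bound the order by that of `M₂₄` -/
theorem card_gens : StmtCard.{u} := by
  intro P _ _ v g n hr
  have S := sem_of_rels hr
  let K₀ := Subgroup.closure (v '' {m | m < 21504})
  let K₁ := Subgroup.closure (v '' {m | m < 21504} ∪ {n})
  have h5 : ∀ (A : Set P), v '' {a | a ∈ five} ⊆ (Subgroup.closure A : Set P) →
      v '' {m | m < 21504} ⊆ (Subgroup.closure A : Set P) := by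
    rintro A hA _ ⟨m, hm, rfl⟩
    exact (Subgroup.closure_le _).mpr hA (gens_model S hm)
  have b1 : Nat.card K₁ ≤ 322560 := by
    have h := table_bound S K₀ (fun j => if j = 0 then 1 else n)
      (ders_sound S _ _ initC derC (holdsC S) dersC_check) tabC [1] tableC_check
      (by decide +kernel) rfl
    have hle : K₁ ≤ Subgroup.closure (v '' {m | m ∈ five} ∪ {x | ∃ d ∈ [1], letV g n d = x}) := by
      refine (Subgroup.closure_le _).mpr (Set.union_subset (h5 _ fun x hx =>
        Subgroup.subset_closure (Set.mem_union_left _ hx)) ?_)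
      rintro x rfl
      exact Subgroup.subset_closure (Set.mem_union_right _ ⟨1, by simp, rfl⟩)
    have hsum : (tabC.map List.length).sum = 15 := by decide +kernel
    rw [hsum] at h
    calc Nat.card K₁ ≤ _ := Nat.card_le_card_of_injective _ (Subgroup.inclusion_injective hle)
      _ ≤ Nat.card K₀ * 15 := h
      _ ≤ 21504 * 15 := Nat.mul_le_mul_right _ (card_model S)
      _ = 322560 := by norm_num
  have h := table_bound S K₁ (wK v g n)
    (ders_sound S _ _ initK derK (holdsK S) dersK_check) tabK [0, 1] tableK_check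
    (by decide +kernel) rfl
  have hle : gens v g n ≤
      Subgroup.closure (v '' {m | m ∈ five} ∪ {x | ∃ d ∈ [0, 1], letV g n d = x}) := by
    refine (Subgroup.closure_le _).mpr (Set.union_subset (h5 _ fun x hx =>
      Subgroup.subset_closure (Set.mem_union_left _ hx)) ?_)
    rintro x (rfl | rfl)
    · exact Subgroup.subset_closure (Set.mem_union_right _ ⟨0, by simp, rfl⟩)
    · exact Subgroup.subset_closure (Set.mem_union_right _ ⟨1, by simp, rfl⟩)
  have hsum : (tabK.map List.length).sum = 759 := by decide +kernel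
  rw [hsum] at h
  calc Nat.card (gens v g n) ≤ _ :=
        Nat.card_le_card_of_injective _ (Subgroup.inclusion_injective hle)
    _ ≤ Nat.card K₁ * 759 := h
    _ ≤ 322560 * 759 := Nat.mul_le_mul_right _ b1
    _ = 244823040 := by norm_num

end CfsgLib.Spor.HeTri.MTF
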