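import Cfsg.Agent.Lib.Spor.TransvectionFive
import Cfsg.Agent.Lib.Spor.HeRecog.FrameModel

/-!
# The centraliser of a transvection of `SL₅(2)` is the split untwisted model

Generators of the centraliser satisfy the relations of a split untwisted frame, so an isomorphism
with it gives the numbering of the model.
-/

set_option autoImplicit false
set_option maxRecDepth 100000
set_option maxHeartbeats 1000000

namespace CfsgLib.Spor.HeTri

open Matrix CfsgLib.Spor.Tv5 CfsgLib.Spor.HeRecog

universe u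

/-- the standard transvection -/
def sS : SL5 := ⟨tvMat, Matrix.det_transvection_of_ne _ _ (by decide) _⟩

/-- its centraliser -/
abbrev C0 : Type := Subgroup.centralizer ({sS} : Set SL5)

/-- a matrix of the centraliser -/
def mkC (M : Matrix (Fin 5) (Fin 5) (ZMod 2)) (hd : M.det = 1)
    (h : M * tvMat = tvMat * M) : C0 :=
  ⟨⟨M, hd⟩, Subgroup.mem_centralizer_singleton_iff.2 (Subtype.ext h)⟩

theorem build_comm (v : Fin 7 → ZMod 2) (A : Matrix (Fin 3) (Fin 3) (ZMod 2)) :
    build v A * tvMat = tvMat * build v A := by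
  rw [tvMat, transvection_comm_iff 0 1 (by decide)]
  refine ⟨fun i hi => ?_, fun j hj => ?_, by simp [build]⟩
  · fin_cases i <;> simp [build] at hi ⊢
  · fin_cases j <;> simp [build] at hj ⊢

/-- the element built from the free entries -/
def bC (v : Fin 7 → ZMod 2) (A : Matrix.SpecialLinearGroup (Fin 3) (ZMod 2)) : C0 :=
  mkC (build v A.1) (by rw [det_build]; exact A.2) (build_comm v A.1)

/-- the top generators -/
def F3 : Matrix.SpecialLinearGroup (Fin 3) (ZMod 2) :=
  ⟨!![0, 1, 0; 1, 0, 1; 0, 1, 1], by decide +kernel⟩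

/-- the element of order three -/
def H3 : Matrix.SpecialLinearGroup (Fin 3) (ZMod 2) :=
  ⟨!![0, 0, 1; 1, 0, 0; 0, 1, 0], by decide +kernel⟩

/-- the involution -/
def T3 : Matrix.SpecialLinearGroup (Fin 3) (ZMod 2) :=
  ⟨!![0, 0, 1; 0, 1, 0; 1, 0, 0], by decide +kernel⟩

/-- the generators of the centraliser -/
def eC (i : Fin 6) : C0 :=
  bC (fun k => if k = (![4, 5, 6, 1, 2, 3] : Fin 6 → Fin 7) i then 1 else 0) 1

/-- the central involution -/
def zC : C0 := bC (fun k => if k = 0 then 1 else 0) 1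

/-- the lift of `F3` -/
def FC : C0 := bC 0 F3

/-- the lift of `H3` -/
def HC : C0 := bC 0 H3

/-- the lift of `T3` -/
def TC : C0 := bC 0 T3

theorem rels_e : ∀ i k : Fin 6, eC i * eC i = 1 ∧
    ((i : ℕ) + 3 ≠ k → (k : ℕ) + 3 ≠ i → eC i * eC k = eC k * eC i) ∧
    ((i : ℕ) + 3 = k → eC i * eC k = zC * (eC k * eC i)) := by decide +kernel

theorem rels_conj : ∀ i : Fin 6, FC * eC i = ev zC eC (imgF.getD i 0) * FC ∧
    HC * eC i = ev zC eC (imgH.getD i 0) * HC ∧
    TC * eC i = ev zC eC ((imgT 0).getD i 0) * TC := by decide +kernel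

theorem rels_top : FC ^ 7 = 1 ∧ HC ^ 3 = 1 ∧ HC * FC = FC ^ 2 * HC ∧
    TC * HC = HC * HC * TC ∧ (FC * TC) ^ 3 = 1 ∧ TC * TC = 1 := by decide +kernel

theorem zC_val : (zC : SL5) = sS := by decide +kernel

/-- a word in three elements -/
def wd {M : Type*} [Monoid M] (F H T : M) (k : ℕ) : M :=
  if k < 21 then F ^ (k / 3) * H ^ (k % 3)
  else F ^ (k % 21 / 3) * H ^ (k % 21 % 3) * T * F ^ (k / 21 - 1)

theorem map_wd {M N : Type*} [Monoid M] [Monoid N] (f : M →* N) (F H T : M) (k : ℕ) :
    f (wd F H T k) = wd (f F) (f H) (f T) k := by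
  unfold wd
  split_ifs <;> simp [map_mul, map_pow]

theorem wd_mem {M : Type*} [Group M] {K : Subgroup M} {F H T : M} (hF : F ∈ K) (hH : H ∈ K)
    (hT : T ∈ K) (k : ℕ) : wd F H T k ∈ K := by
  unfold wd
  split_ifs
  exacts [mul_mem (pow_mem hF _) (pow_mem hH _),
    mul_mem (mul_mem (mul_mem (pow_mem hF _) (pow_mem hH _)) hT) (pow_mem hF _)]

/-- a code of a matrix of degree three -/
def code (A : Matrix.SpecialLinearGroup (Fin 3) (ZMod 2)) : ℕ :=
  (A.1 0 0).val + 2 * (A.1 0 1).val + 4 * (A.1 0 2).val + 8 * (A.1 1 0).val +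
    16 * (A.1 1 1).val + 32 * (A.1 1 2).val + 64 * (A.1 2 0).val + 128 * (A.1 2 1).val +
    256 * (A.1 2 2).val

theorem code_nodup : ((List.range 168).map fun k => code (wd F3 H3 T3 k)).Nodup := by
  decide +kernel

theorem exists_wd (A : Matrix.SpecialLinearGroup (Fin 3) (ZMod 2)) :
    ∃ k, wd F3 H3 T3 k = A := by
  have hinj : Function.Injective fun k : Fin 168 => wd F3 H3 T3 k := fun a b h =>
    Fin.ext (List.inj_on_of_nodup_map code_nodup (List.mem_range.2 a.2) (List.mem_range.2 b.2)
      (congrArg code h))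
  obtain ⟨k, hk⟩ := (hinj.bijective_of_nat_card_le (by rw [card_SL3, Nat.card_fin])).2 A
  exact ⟨k, hk⟩

theorem entries (g : C0) : (∀ i, i ≠ 0 → g.1.1 i 0 = 0) ∧ (∀ j, j ≠ 1 → g.1.1 1 j = 0) ∧
    g.1.1 0 0 = g.1.1 1 1 :=
  (comm_iff sS rfl g.1).1 g.2

/-- the block of degree three -/
def blk : C0 →* Matrix (Fin 3) (Fin 3) (ZMod 2) where
  toFun g := g.1.1.submatrix (Fin.natAdd 2) (Fin.natAdd 2)
  map_one' := Matrix.submatrix_one _ (Fin.natAdd_injective 3 2)
  map_mul' g h := by
    ext i j
    simp only [Matrix.submatrix_apply, Matrix.mul_apply, Subgroup.coe_mul,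
      Matrix.SpecialLinearGroup.coe_mul, Fin.sum_univ_five, Fin.sum_univ_three]
    rw [(entries g).1 _ (by revert i; decide), (entries h).2.1 _ (by revert j; decide)]
    simp

/-- the number of an element of the unipotent radical -/
def qOf (v : Fin 7 → ZMod 2) : ℕ :=
  (v 4).val + 2 * (v 5).val + 4 * (v 6).val + 8 * (v 1).val + 16 * (v 2).val + 32 * (v 3).val +
    64 * (v 0).val

theorem ev_build : ∀ v : Fin 7 → ZMod 2, ev zC eC (qOf v) = bC v 1 := by decide +kernel

theorem blk_gen : blk FC = F3.1 ∧ blk HC = H3.1 ∧ blk TC = T3.1 := by decide +kernel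

theorem entry00 (g : C0) : g.1.1 0 0 = 1 := det_eq_one_of_ne_zero fun h0 => by
  have h : g.1.1.det = 0 := Matrix.det_eq_zero_of_column_eq_zero 0 fun i => by
    by_cases hi : i = 0
    · rw [hi]; exact h0
    · exact (entries g).1 i hi
  rw [g.1.2] at h
  exact one_ne_zero h

theorem eq_build_of_blk {g : C0} (hg : blk g = 1) : ∃ v, g = bC v 1 := by
  refine ⟨![g.1.1 0 1, g.1.1 0 2, g.1.1 0 3, g.1.1 0 4, g.1.1 2 1, g.1.1 3 1, g.1.1 4 1],
    Subtype.ext (Subtype.ext ?_)⟩
  obtain ⟨h1, h2, h3⟩ := entries g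
  have hb : ∀ i j, g.1.1 (i.natAdd 2) (j.natAdd 2) = (1 : Matrix (Fin 3) (Fin 3) (ZMod 2)) i j :=
    fun i j => congrFun (congrFun hg i) j
  have h00 := entry00 g
  show g.1.1 = build _ (1 : Matrix (Fin 3) (Fin 3) (ZMod 2))
  ext i j
  fin_cases i <;> fin_cases j <;>
    first
    | simp [build, h00, ← h3, h1, h2]; done
    | (first
        | exact (hb 0 0).trans (by simp [build]) | exact (hb 0 1).trans (by simp [build])
        | exact (hb 0 2).trans (by simp [build]) | exact (hb 1 0).trans (by simp [build])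
        | exact (hb 1 1).trans (by simp [build]) | exact (hb 1 2).trans (by simp [build])
        | exact (hb 2 0).trans (by simp [build]) | exact (hb 2 1).trans (by simp [build])
        | exact (hb 2 2).trans (by simp [build]))

theorem gen_top (g : C0) : g ∈ Subgroup.closure ({zC, FC, HC, TC} ∪ Set.range eC : Set C0) := by
  set K := Subgroup.closure ({zC, FC, HC, TC} ∪ Set.range eC : Set C0) with hK
  have hs : ∀ x ∈ ({zC, FC, HC, TC} ∪ Set.range eC : Set C0), x ∈ K :=
    fun x hx => Subgroup.subset_closure hx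
  have hdet : (blk g).det = 1 := by
    refine det_eq_one_of_ne_zero fun h0 => ?_
    have h := congrArg Matrix.det (blk.map_mul g g⁻¹)
    rw [mul_inv_cancel, map_one, Matrix.det_one, Matrix.det_mul, h0, zero_mul] at h
    exact one_ne_zero h
  obtain ⟨k, hk⟩ := exists_wd ⟨blk g, hdet⟩
  set a := wd FC HC TC k with ha
  have hba : blk a = blk g := by
    rw [ha, map_wd, blk_gen.1, blk_gen.2.1, blk_gen.2.2]
    let c : Matrix.SpecialLinearGroup (Fin 3) (ZMod 2) →* Matrix (Fin 3) (Fin 3) (ZMod 2) :=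
      { toFun := fun A => A.1, map_one' := rfl, map_mul' := fun _ _ => rfl }
    have h := congrArg c hk
    rw [map_wd] at h
    exact h
  have h1 : blk (g * a⁻¹) = 1 := by
    rw [map_mul, ← hba, ← map_mul, mul_inv_cancel, map_one]
  obtain ⟨v, hv⟩ := eq_build_of_blk h1
  have hev : ev zC eC (qOf v) ∈ K := by
    have he : ∀ (i : Fin 6) (n : ℕ), eC i ^ n ∈ K := fun i n =>
      pow_mem (hs _ (Or.inr ⟨i, rfl⟩)) n
    exact mul_mem (mul_mem (mul_mem (mul_mem (mul_mem (mul_mem (he _ _) (he _ _)) (he _ _))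
      (he _ _)) (he _ _)) (he _ _)) (pow_mem (hs _ (by simp)) _)
  rw [ev_build, ← hv] at hev
  have haK : a ∈ K := wd_mem (hs _ (by simp)) (hs _ (by simp)) (hs _ (by simp)) k
  simpa using mul_mem hev haK

theorem map_ev {M N : Type*} [Monoid M] [Monoid N] (f : M →* N) (z : M) (e : Fin 6 → M) (q : ℕ) :
    f (ev z e q) = ev (f z) (fun i => f (e i)) q := by
  simp [ev, map_mul, map_pow]

/-- **The centraliser of a transvection**: an involution with such a centraliser carries the model
`0`. -/
theorem cen_of_transvection {G : Type u} [Group G] [Finite G] (s : SL5)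
    (hs : (s : Matrix (Fin 5) (Fin 5) (ZMod 2)) = Matrix.transvection 0 1 1) (z : G)
    (hz : orderOf z = 2)
    (e : (Subgroup.centralizer ({z} : Set G)) ≃* Subgroup.centralizer ({s} : Set SL5)) :
    Nonempty (Cen 0 z) := by
  obtain rfl : s = sS := Subtype.ext hs
  let φ : C0 →* G := (Subgroup.centralizer ({z} : Set G)).subtype.comp e.symm.toMonoidHom
  have hrange : φ.range = Subgroup.centralizer ({z} : Set G) := by
    ext x
    refine ⟨fun ⟨c, hc⟩ => hc ▸ (e.symm c).2, fun hx => ⟨e ⟨x, hx⟩, ?_⟩⟩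
    show ((e.symm (e ⟨x, hx⟩) : _) : G) = x
    rw [e.symm_apply_apply]
  have hzC : z ∈ Subgroup.centralizer ({z} : Set G) := Subgroup.mem_centralizer_singleton_iff.2 rfl
  have hez : e ⟨z, hzC⟩ = zC := by
    refine Subtype.ext (((eq_one_or_of_comm sS rfl _ fun x hx => ?_).resolve_left fun h =>
      ?_).trans zC_val.symm)
    · obtain ⟨w, hw⟩ := e.surjective ⟨x, uni_le_centralizer sS rfl hx⟩
      have h : w * ⟨z, hzC⟩ = ⟨z, hzC⟩ * w :=
        Subtype.ext (Subgroup.mem_centralizer_singleton_iff.1 w.2)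
      have h' := congrArg Subtype.val (congrArg e h)
      rw [map_mul, map_mul, hw] at h'
      exact h'
    · have h1 : (⟨z, hzC⟩ : Subgroup.centralizer ({z} : Set G)) = 1 :=
        e.injective ((Subtype.ext h : e ⟨z, hzC⟩ = 1).trans e.map_one.symm)
      have h2 : z = 1 := congrArg Subtype.val h1
      rw [h2, orderOf_one] at hz
      exact absurd hz (by norm_num)
  have hφz : φ zC = z := by
    show ((e.symm zC : _) : G) = z
    rw [← hez, e.symm_apply_apply]
  have hev : ∀ q, φ (ev zC eC q) = ev z (fun i => φ (eC i)) q := fun q => by rw [map_ev, hφz]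
  have hm : ∀ {a b c d : C0}, a * b = c * d → φ a * φ b = φ c * φ d := fun h => by
    rw [← map_mul, h, map_mul]
  have hcard : Nat.card (Subgroup.centralizer ({z} : Set G)) = 21504 :=
    (Nat.card_congr e.toEquiv).trans (natCard_centralizer sS rfl)
  refine exists_cen_of_frame z 0 0
    { hj := by norm_num, ht := by norm_num, ord := hz, e := fun i => φ (eC i), F := φ FC,
      H := φ HC, T := φ TC, card := hcard
      gen := ?_
      e_sq := fun i => by rw [← map_mul, (rels_e i i).1, map_one]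
      e_comm := fun i k h1 h2 => hm ((rels_e i k).2.1 h1 h2)
      e_pair := fun i k h1 => by rw [← map_mul, (rels_e i k).2.2 h1, map_mul, map_mul, hφz]
      conjF := fun i => by rw [← hev, mul_inv_eq_iff_eq_mul]; exact hm (rels_conj i).1
      conjH := fun i => by rw [← hev, mul_inv_eq_iff_eq_mul]; exact hm (rels_conj i).2.1
      conjT := fun i => by rw [← hev, mul_inv_eq_iff_eq_mul]; exact hm (rels_conj i).2.2
      F_seven := by rw [← map_pow, rels_top.1, map_one]
      H_three := by rw [← map_pow, rels_top.2.1, map_one]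
      HF := by rw [mul_inv_eq_iff_eq_mul, ← map_pow]; exact hm rels_top.2.2.1
      TH := by
        have h3 : φ HC ^ 3 = 1 := by rw [← map_pow, rels_top.2.1, map_one]
        rw [mul_inv_eq_iff_eq_mul, inv_eq_of_mul_eq_one_right
          (show φ HC * (φ HC * φ HC) = 1 by rw [← pow_three, h3]), ← map_mul φ HC HC]
        exact hm rels_top.2.2.2.1
      FT := by rw [← map_mul, ← map_pow, rels_top.2.2.2.2.1, map_one]
      T_sq := by rw [← map_mul, rels_top.2.2.2.2.2, map_one, pow_zero] }
  rw [← hrange, MonoidHom.range_eq_map, show (⊤ : Subgroup C0) =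
    Subgroup.closure ({zC, FC, HC, TC} ∪ Set.range eC) from
      (eq_top_iff.2 fun g _ => gen_top g).symm, MonoidHom.map_closure]
  congr 1
  rw [Set.image_union, Set.image_insert_eq, Set.image_insert_eq, Set.image_insert_eq,
    Set.image_singleton, hφz, ← Set.range_comp]
  rfl

end CfsgLib.Spor.HeTri
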