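import Cfsg.Agent.Lib.Spor.HeTri.Interface
import Cfsg.Agent.Lib.Spor.HeTri.ModelIso

/-!
# The matrices realise the model of the centraliser of a transvection
-/

set_option autoImplicit false
set_option maxRecDepth 100000
set_option maxHeartbeats 1000000

namespace CfsgLib.Spor.HeTri

open CfsgLib.Spor.HeRecog CfsgLib.Spor.Tv5

namespace Mat

/-- the element of order seven of the tables -/
def FA : Matrix.SpecialLinearGroup (Fin 3) (ZMod 2) :=
  ⟨!![1, 1, 1; 1, 0, 0; 1, 0, 1], by decide +kernel⟩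

/-- the generators of the extraspecial group in the tables -/
def eT (i : Fin 6) : C0 :=
  bC (fun k => if k = (![1, 2, 3, 4, 5, 6] : Fin 6 → Fin 7) i then 1 else 0) 1

/-- the lift of `FA` -/
def FT : C0 := bC 0 FA

theorem rels_e : ∀ i k : Fin 6, eT i * eT i = 1 ∧
    ((i : ℕ) + 3 ≠ k → (k : ℕ) + 3 ≠ i → eT i * eT k = eT k * eT i) ∧
    ((i : ℕ) + 3 = k → eT i * eT k = zC * (eT k * eT i)) := by decide +kernel

theorem rels_conj : ∀ i : Fin 6, FT * eT i = ev zC eT (imgF.getD i 0) * FT ∧
    HC * eT i = ev zC eT (imgH.getD i 0) * HC ∧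
    TC * eT i = ev zC eT ((imgT 0).getD i 0) * TC := by decide +kernel

theorem rels_top : FT ^ 7 = 1 ∧ HC ^ 3 = 1 ∧ HC * FT = FT ^ 2 * HC ∧
    TC * HC = HC * HC * TC ∧ (FT * TC) ^ 3 = 1 ∧ TC * TC = 1 := by decide +kernel

theorem old_e : ∀ i : Fin 6, eC i = eT ((![3, 4, 5, 0, 1, 2] : Fin 6 → Fin 6) i) := by
  decide +kernel

theorem old_F : FC = wd FT HC TC 18 := by decide +kernel

theorem qMat_eq : ∀ q : Fin 128, qMat q = ((ev zC eT q : C0) : SL5).1 := by decide +kernel

theorem kMat_eq : ∀ k : Fin 168, kMat k = ((wd FT HC TC k : C0) : SL5).1 := by decide +kernel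

theorem gen_eq : Subgroup.closure ({zC, FT, HC, TC} ∪ Set.range eT : Set C0) = ⊤ := by
  rw [eq_top_iff]
  intro g _
  refine Subgroup.closure_le _ |>.2 ?_ (gen_top g)
  have hs : ∀ x ∈ ({zC, FT, HC, TC} ∪ Set.range eT : Set C0),
      x ∈ Subgroup.closure ({zC, FT, HC, TC} ∪ Set.range eT : Set C0) :=
    fun x hx => Subgroup.subset_closure hx
  rintro x (hx | ⟨i, rfl⟩)
  · simp only [Set.mem_insert_iff, Set.mem_singleton_iff] at hx
    rcases hx with rfl | rfl | rfl | rfl
    · exact hs _ (by simp)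
    · rw [old_F]
      exact wd_mem (hs _ (by simp)) (hs _ (by simp)) (hs _ (by simp)) _
    · exact hs _ (by simp)
    · exact hs _ (by simp)
  · rw [old_e]
    exact hs _ (Or.inr ⟨_, rfl⟩)

/-- the inclusion of the centraliser -/
abbrev inc : C0 →* SL5 := (Subgroup.centralizer ({sS} : Set SL5)).subtype

theorem inc_ev (q : ℕ) : (ev zC eT q : C0).1 = ev sS (fun i => (eT i : SL5)) q :=
  (map_ev inc zC eT q).trans (congrArg (fun w => ev w (fun i => (eT i : SL5)) q) zC_val)

/-- the frame given by the generators of the tables -/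
def frame : Frame (G := SL5) 0 0 sS where
  hj := by norm_num
  ht := by norm_num
  ord := orderOf_eq_prime (by rw [pow_two]; decide +kernel) (by decide +kernel)
  e := fun i => (eT i : SL5)
  F := (FT : SL5)
  H := (HC : SL5)
  T := (TC : SL5)
  card := natCard_centralizer sS rfl
  gen := by
    have h : (⊤ : Subgroup C0).map inc = Subgroup.centralizer ({sS} : Set SL5) := by
      rw [← MonoidHom.range_eq_map, Subgroup.range_subtype]
    refine h.symm.trans ?_
    rw [← gen_eq, MonoidHom.map_closure]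
    congr 1
    rw [Set.image_union, Set.image_insert_eq, Set.image_insert_eq, Set.image_insert_eq,
      Set.image_singleton, ← Set.range_comp]
    exact congrArg (fun w => ({w, (FT : SL5), (HC : SL5), (TC : SL5)} ∪
      Set.range fun i => (eT i : SL5) : Set SL5)) zC_val
  e_sq := fun i => congrArg Subtype.val (rels_e i i).1
  e_comm := fun i k h1 h2 => congrArg Subtype.val ((rels_e i k).2.1 h1 h2)
  e_pair := fun i k h1 => (congrArg Subtype.val ((rels_e i k).2.2 h1)).trans
    (congrArg (· * ((eT k : SL5) * (eT i : SL5))) zC_val)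
  conjF := fun i => by
    rw [mul_inv_eq_iff_eq_mul]
    exact (congrArg Subtype.val (rels_conj i).1).trans
      (congrArg (· * (FT : SL5)) (inc_ev _))
  conjH := fun i => by
    rw [mul_inv_eq_iff_eq_mul]
    exact (congrArg Subtype.val (rels_conj i).2.1).trans
      (congrArg (· * (HC : SL5)) (inc_ev _))
  conjT := fun i => by
    rw [mul_inv_eq_iff_eq_mul]
    exact (congrArg Subtype.val (rels_conj i).2.2).trans
      (congrArg (· * (TC : SL5)) (inc_ev _))
  F_seven := congrArg Subtype.val rels_top.1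
  H_three := congrArg Subtype.val rels_top.2.1
  HF := by rw [mul_inv_eq_iff_eq_mul]; exact congrArg Subtype.val rels_top.2.2.1
  TH := by
    rw [mul_inv_eq_iff_eq_mul, inv_eq_of_mul_eq_one_right
      (show (HC : SL5) * ((HC : SL5) * (HC : SL5)) = 1 from
        congrArg Subtype.val (show HC * (HC * HC) = 1 by rw [← pow_three]; exact rels_top.2.1))]
    exact congrArg Subtype.val rels_top.2.2.2.1
  FT := congrArg Subtype.val rels_top.2.2.2.2.1
  T_sq := congrArg Subtype.val rels_top.2.2.2.2.2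

theorem frame_W (k : ℕ) : frame.W k = ((wd FT HC TC k : C0) : SL5) :=
  (map_wd inc FT HC TC k).symm

theorem frame_ev (q : ℕ) : ev sS frame.e q = ((ev zC eT q : C0) : SL5) :=
  (inc_ev q).symm

theorem mat_eq {m : ℕ} (hm : m < 21504) : mat m = (frame.mval m).1 := by
  rw [Frame.mval, frame_ev, frame_W, Matrix.SpecialLinearGroup.coe_mul, mat,
    ← qMat_eq ⟨m / 168, by omega⟩, ← kMat_eq ⟨m % 168, Nat.mod_lt _ (by norm_num)⟩]

theorem mval_injective {m n : ℕ} (hm : m < 21504) (hn : n < 21504)
    (h : frame.mval m = frame.mval n) : m = n := by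
  have hs : Function.Surjective (fun i : Fin 21504 => (⟨frame.mval i,
      Subgroup.mem_centralizer_singleton_iff.2
        ((frame.range_mval _).2 ⟨i, i.2, rfl⟩)⟩ : C0)) := fun c => by
    obtain ⟨i, hi, e⟩ := (frame.range_mval _).1 (Subgroup.mem_centralizer_singleton_iff.1 c.2)
    exact ⟨⟨i, hi⟩, Subtype.ext e⟩
  have hb := hs.bijective_of_nat_card_le (by rw [natCard_centralizer sS rfl, Nat.card_fin])
  exact congrArg Fin.val (@hb.1 ⟨m, hm⟩ ⟨n, hn⟩ (Subtype.ext h))

end Mat

open Mat in
/-- **P0**: the matrices realise the model. -/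
theorem mat_spec : StmtMat := by
  have hfix : ∀ c : C0, (c : SL5).1.mulVec e0 = e0 := fun c => by
    rw [e0, Matrix.mulVec_single_one]
    funext i
    rcases eq_or_ne i 0 with rfl | hi
    · rw [Pi.single_eq_same]; exact entry00 c
    · rw [Pi.single_eq_of_ne hi]; exact (entries c).1 i hi
  refine ⟨fun m hm => ?_, fun m hm n hn => ?_, fun m hm n hn h => ?_, ?_⟩
  · rw [mat_eq hm]
    have hc : frame.mval m * sS = sS * frame.mval m := (frame.range_mval _).2 ⟨m, hm, rfl⟩
    exact ⟨(frame.mval m).2, hfix ⟨_, Subgroup.mem_centralizer_singleton_iff.2 hc⟩,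
      congrArg Subtype.val hc⟩
  · have hlt : mulN 0 m n < 21504 := mulN_lt hm _ _
    rw [mat_eq hlt, mat_eq hm, mat_eq hn, frame.mval_mul hm hn]
    rfl
  · rw [mat_eq hm, mat_eq hn] at h
    exact mval_injective hm hn (Subtype.ext h)
  · rw [mat_eq (by decide), frame.mval_zN]
    rfl

end CfsgLib.Spor.HeTri
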