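import Cfsg.Agent.Lib.Spor.HeTri.M24Rels
import Cfsg.Agent.Lib.Spor.HeTri.M24TargetData
import Cfsg.Agent.Lib.Spor.HeTri.Mat
import Cfsg.Agent.Lib.Spor.M24Order

/-!
# `M₂₄` satisfies the relations and is generated by the corresponding elements
-/

set_option autoImplicit false
set_option maxRecDepth 100000
set_option maxHeartbeats 1000000

namespace CfsgLib.Spor.HeTri.MTF

open CfsgLib.Spor CfsgLib.Spor.HeRecog Cfsg

namespace Target

/-- the test for a packed permutation and its inverse -/
def okP (a ai : ℕ) : Bool :=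
  (List.range 24).all fun i => Nat.blt (getP a i) 24 && Nat.beq (getP ai (getP a i)) i &&
    Nat.blt (getP ai i) 24 && Nat.beq (getP a (getP ai i)) i

theorem okP_spec {a ai : ℕ} (h : okP a ai = true) {i : ℕ} (hi : i < 24) :
    getP a i < 24 ∧ getP ai (getP a i) = i ∧ getP ai i < 24 ∧ getP a (getP ai i) = i := by
  have h' := List.all_eq_true.1 h i (List.mem_range.2 hi)
  simp only [Bool.and_eq_true] at h'
  exact ⟨Nat.blt_eq.mp h'.1.1.1, Nat.eq_of_beq_eq_true h'.1.1.2, Nat.blt_eq.mp h'.1.2,
    Nat.eq_of_beq_eq_true h'.2⟩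

/-- the permutation of a packed permutation -/
def mkP (a ai : ℕ) (h : okP a ai = true) : Equiv.Perm GolayPt where
  toFun p := pt (getP a (idx p))
  invFun p := pt (getP ai (idx p))
  left_inv p := by
    show pt (getP ai (idx (pt (getP a (idx p))))) = p
    rw [idx_pt (okP_spec h (idx_lt p)).1, (okP_spec h (idx_lt p)).2.1, pt_idx]
  right_inv p := by
    show pt (getP a (idx (pt (getP ai (idx p))))) = p
    rw [idx_pt (okP_spec h (idx_lt p)).2.2.1, (okP_spec h (idx_lt p)).2.2.2, pt_idx]

theorem rep_mkP {a ai : ℕ} (h : okP a ai = true) : Rep (mkP a ai h) a := fun i hi => by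
  show getP a i = idx (pt (getP a (idx (pt i))))
  rw [idx_pt hi, idx_pt (okP_spec h hi).1]

/-- the test for membership -/
def inM (a : ℕ) : Bool := golayBasis.all fun b => inCode (actP a b)

/-- the element of `M₂₄` of a packed permutation -/
def mkM (a ai : ℕ) (h : okP a ai = true) (h' : inM a = true) : ↥M24 :=
  ⟨mkP a ai h, (rep_mkP h).mem_M24 h'⟩

theorem rep_mkM {a ai : ℕ} (h : okP a ai = true) (h' : inM a = true) :
    Rep (mkM a ai h h' : Equiv.Perm GolayPt) a := rep_mkP h

theorem eq_of_rep {σ τ : ↥M24} {a b : ℕ} (h : Rep (σ : Equiv.Perm GolayPt) a)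
    (h' : Rep (τ : Equiv.Perm GolayPt) b) (e : Nat.beq a b = true) : σ = τ :=
  Subtype.ext (h.inj (Nat.eq_of_beq_eq_true e ▸ h'))

/-- powers of packed permutations -/
def powP (a : ℕ) : ℕ → ℕ
  | 0 => packL (List.range 24)
  | n + 1 => compP (powP a n) a

theorem rep_pow {σ : Equiv.Perm GolayPt} {a : ℕ} (h : Rep σ a) : ∀ n, Rep (σ ^ n) (powP a n)
  | 0 => by rw [pow_zero]; exact rep_one
  | n + 1 => by rw [pow_succ]; exact (rep_pow h n).mul h

theorem ok_e : ∀ i : Fin 6, okP (peL.getD i 0) (peiL.getD i 0) = true := by decide +kernel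

theorem in_e : ∀ i : Fin 6, inM (peL.getD i 0) = true := by decide +kernel

/-- the generators of the extraspecial group -/
def eP (i : Fin 6) : ↥M24 := mkM _ _ (ok_e i) (in_e i)

/-- the central involution -/
def zP : ↥M24 := mkM pz pzi (by decide +kernel) (by decide +kernel)

/-- the element of order seven -/
def FP : ↥M24 := mkM pF pFi (by decide +kernel) (by decide +kernel)

/-- the element of order three -/
def HP : ↥M24 := mkM pH pHi (by decide +kernel) (by decide +kernel)

/-- the involution of the quotient -/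
def TP : ↥M24 := mkM pT pTi (by decide +kernel) (by decide +kernel)

/-- the involution exchanging `z` and `v 1344` -/
def gP : ↥M24 := mkM pg pgi (by decide +kernel) (by decide +kernel)

/-- the involution normalising the elementary abelian group -/
def nP : ↥M24 := mkM pn pni (by decide +kernel) (by decide +kernel)

/-- the map of the model -/
def vP (m : ℕ) : ↥M24 := ev zP eP (m / 168) * wd FP HP TP (m % 168)

/-- a packed entry of the table of the extraspecial group -/
def qt (q : Nat) : Nat := Nat.mod (Nat.shiftRight qPerm (120 * q)) (2 ^ 120)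

/-- a packed entry of the table of the quotient -/
def kt (k : Nat) : Nat := Nat.mod (Nat.shiftRight kPerm (120 * k)) (2 ^ 120)

/-- packed words in the extraspecial group -/
def evP (q : ℕ) : ℕ :=
  let p : ℕ → ℕ → ℕ := fun i b => powP (peL.getD i 0) b
  compP (compP (compP (compP (compP (compP (p 0 (q % 2)) (p 1 (q / 2 % 2))) (p 2 (q / 4 % 2)))
    (p 3 (q / 8 % 2))) (p 4 (q / 16 % 2))) (p 5 (q / 32 % 2))) (powP pz (q / 64 % 2))

/-- packed lifts -/
def wdP (k : ℕ) : ℕ :=
  if k < 21 then compP (powP pF (k / 3)) (powP pH (k % 3))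
  else compP (compP (compP (powP pF (k % 21 / 3)) (powP pH (k % 21 % 3))) pT)
    (powP pF (k / 21 - 1))

theorem evP_check : allN 128 (fun q => Nat.beq (evP q) (qt q)) = true := by decide +kernel

theorem wdP_check : allN 168 (fun k => Nat.beq (wdP k) (kt k)) = true := by decide +kernel

theorem rep_E {q : ℕ} (hq : q < 128) : Rep (ev zP eP q : ↥M24).1 (qt q) := by
  have h : evP q = qt q := Nat.eq_of_beq_eq_true (allN_spec evP_check q hq)
  rw [← h]
  have he : ∀ (i : Fin 6) b, Rep ((eP i : Equiv.Perm GolayPt) ^ b) (powP (peL.getD i 0) b) :=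
    fun i => rep_pow (rep_mkM (ok_e i) (in_e i))
  exact (((((((he 0 _).mul (he 1 _)).mul (he 2 _)).mul (he 3 _)).mul (he 4 _)).mul (he 5 _)).mul
    (rep_pow (rep_mkM _ _) _))

theorem rep_W {k : ℕ} (hk : k < 168) : Rep (wd FP HP TP k : ↥M24).1 (kt k) := by
  have h : wdP k = kt k := Nat.eq_of_beq_eq_true (allN_spec wdP_check k hk)
  rw [← h, wdP, wd]
  have hF : ∀ b, Rep ((FP : Equiv.Perm GolayPt) ^ b) (powP pF b) := rep_pow (rep_mkM _ _)
  have hH : ∀ b, Rep ((HP : Equiv.Perm GolayPt) ^ b) (powP pH b) := rep_pow (rep_mkM _ _)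
  split_ifs
  · exact (hF _).mul (hH _)
  · exact (((hF _).mul (hH _)).mul (rep_mkM _ _)).mul (hF _)

theorem qhom_check :
    allN 128 (fun a => allN 128 fun b =>
      Nat.beq (compP (qt a) (qt b)) (qt (qMul a b))) = true := by
  decide +kernel

theorem E_mul {a b : ℕ} (ha : a < 128) (hb : b < 128) :
    ev zP eP (qMul a b) = ev zP eP a * ev zP eP b :=
  (eq_of_rep ((rep_E ha).mul (rep_E hb)) (rep_E (qMul_lt ha hb))
    (allN_spec (allN_spec qhom_check a ha) b hb)).symm

theorem conj_check :
    allN 168 (fun k => allN 7 fun i => Nat.beq (compP (kt k) (qt (2 ^ i)))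
      (compP (qt (qAct 0 k (2 ^ i))) (kt k)) && Nat.beq (pMul k 0) k &&
      Nat.beq (qAct 0 k 0) 0) = true := by
  decide +kernel

theorem right_check :
    allN 168 (fun k => [3, 1, 21].all fun s =>
      Nat.beq (compP (kt k) (kt s)) (kt (pMul k s))) = true := by
  decide +kernel

theorem qzero_check : allN 128 (fun q => Nat.beq (qMul q 0) q) = true := by decide +kernel

theorem W_zero : wd FP HP TP 0 = 1 := by simp [wd]

theorem E_zero : ev zP eP 0 = 1 := by simp [ev]

theorem vP_pair {q k : ℕ} (hk : k < 168) :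
    vP (q * 168 + k) = ev zP eP q * wd FP HP TP k := by
  rw [vP, show (q * 168 + k) / 168 = q by omega, show (q * 168 + k) % 168 = k by omega]

theorem vP_qN (q : ℕ) : vP (168 * q) = ev zP eP q := by
  rw [vP, show 168 * q / 168 = q by omega, show 168 * q % 168 = 0 by omega, W_zero, mul_one]

theorem mulN_zero_eq (m n : ℕ) : mulN 0 m n =
    qMul (m / 168) (qAct 0 (m % 168) (n / 168)) * 168 + pMul (m % 168) (n % 168) := by
  have h0 : coc 0 (m % 168) (n % 168) = 0 := Nat.zero_mul _
  show (qMul (m / 168) (qAct 0 (m % 168) (n / 168)) ^^^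
    (coc 0 (m % 168) (n % 168) <<< 6)) * 168 + pMul (m % 168) (n % 168) = _
  rw [h0, Nat.zero_shiftLeft, Nat.xor_zero]

theorem mul_qgen {m : ℕ} (hm : m < 21504) {i : ℕ} (hi : i < 7) :
    vP (mulN 0 m (168 * 2 ^ i)) = vP m * vP (168 * 2 ^ i) := by
  have hk : m % 168 < 168 := Nat.mod_lt _ (by norm_num)
  have hpow : 2 ^ i < 128 := by interval_cases i <;> norm_num
  have h := allN_spec (allN_spec conj_check _ hk) i hi
  simp only [Bool.and_eq_true] at h
  rw [mulN_zero_eq, show 168 * 2 ^ i / 168 = 2 ^ i by omega,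
    show 168 * 2 ^ i % 168 = 0 by omega, Nat.eq_of_beq_eq_true h.1.2, vP_pair hk, vP_qN,
    E_mul (by omega) (qAct_lt _ _ _), vP, mul_assoc, mul_assoc]
  exact congrArg _ (eq_of_rep ((rep_W hk).mul (rep_E hpow))
    ((rep_E (qAct_lt _ _ _)).mul (rep_W hk)) h.1.1).symm

theorem mul_kgen {m : ℕ} (hm : m < 21504) {s : ℕ} (hs : s ∈ [3, 1, 21]) :
    vP (mulN 0 m s) = vP m * vP s := by
  have hk : m % 168 < 168 := Nat.mod_lt _ (by norm_num)
  have hs' : s < 168 := by revert hs; simp; omega
  have h0 := allN_spec (allN_spec conj_check _ hk) 0 (by norm_num)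
  simp only [Bool.and_eq_true] at h0
  rw [mulN_zero_eq, show s / 168 = 0 by omega, show s % 168 = s by omega,
    Nat.eq_of_beq_eq_true h0.2,
    Nat.eq_of_beq_eq_true (allN_spec qzero_check (m / 168) (by omega)), vP_pair (pMul_lt _ _),
    vP, vP, show s / 168 = 0 by omega, show s % 168 = s by omega, E_zero, one_mul, mul_assoc]
  exact congrArg _ (eq_of_rep ((rep_W hk).mul (rep_W hs')) (rep_W (pMul_lt _ _))
    (List.all_eq_true.1 (allN_spec right_check _ hk) s hs)).symm

theorem assoc_N {a b c : ℕ} (ha : a < 21504) (hb : b < 21504) (hc : c < 21504) :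
    mulN 0 (mulN 0 a b) c = mulN 0 a (mulN 0 b c) := by
  have h : ∀ {x y : ℕ}, x < 21504 → y < 21504 →
      Mat.frame.mval (mulN 0 x y) = Mat.frame.mval x * Mat.frame.mval y :=
    fun hx hy => Mat.frame.mval_mul hx hy
  refine Mat.mval_injective (mulN_lt (mulN_lt ha _ _) _ _) (mulN_lt ha _ _) ?_
  rw [h (mulN_lt ha _ _) hc, h ha hb, h ha (mulN_lt hb _ _), h hb hc, mul_assoc]

/-- right multiplication by `b` respects `vP` -/
def Good (b : ℕ) : Prop := ∀ a < 21504, vP (mulN 0 a b) = vP a * vP b

theorem good_all {b : ℕ} (hb : b < 21504) : Good b := by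
  let Fr := Mat.frame
  let S : Submonoid SL5 :=
    { carrier := {x | ∃ c < 21504, Good c ∧ Fr.mval c = x}
      one_mem' := ⟨0, by norm_num, fun a ha => by
        have hk : a % 168 < 168 := Nat.mod_lt _ (by norm_num)
        have h0 := allN_spec (allN_spec conj_check _ hk) 0 (by norm_num)
        simp only [Bool.and_eq_true] at h0
        rw [mulN_zero_eq, Nat.zero_div, Nat.zero_mod, Nat.eq_of_beq_eq_true h0.2,
          Nat.eq_of_beq_eq_true (allN_spec qzero_check (a / 168) (by omega)),
          Nat.eq_of_beq_eq_true h0.1.2, Nat.div_add_mod' a 168,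
          show vP 0 = 1 from (vP_qN 0).trans E_zero, mul_one],
        (Fr.mval_qN (q := 0)).trans (Frame.ev_zero _)⟩
      mul_mem' := by
        rintro _ _ ⟨x, hx, gx, rfl⟩ ⟨y, hy, gy, rfl⟩
        refine ⟨mulN 0 x y, mulN_lt hx _ _, fun a ha => ?_, Fr.mval_mul hx hy⟩
        rw [← assoc_N ha hx hy, gy _ (mulN_lt ha _ _), gx a ha, gy x hx, mul_assoc] }
  have hgen : ({sS, Fr.F, Fr.H, Fr.T} ∪ Set.range Fr.e : Set SL5) ⊆ S := by
    rintro x (hx | ⟨i, rfl⟩)
    · simp only [Set.mem_insert_iff, Set.mem_singleton_iff] at hx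
      rcases hx with rfl | rfl | rfl | rfl
      · exact ⟨zN, by decide, fun a ha => mul_qgen ha (i := 6) (by norm_num), Fr.mval_zN⟩
      · exact ⟨3, by norm_num, fun a ha => mul_kgen ha (by simp),
          by simp [Frame.mval, Frame.W, ev]⟩
      · exact ⟨1, by norm_num, fun a ha => mul_kgen ha (by simp),
          by simp [Frame.mval, Frame.W, ev]⟩
      · exact ⟨21, by norm_num, fun a ha => mul_kgen ha (by simp),
          by simp [Frame.mval, Frame.W, ev]⟩
    · exact ⟨168 * 2 ^ i.val, by fin_cases i <;> norm_num,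
        fun a ha => mul_qgen ha (by omega), by rw [Fr.mval_qN, Fr.ev_single]⟩
  have hm : Fr.mval b ∈ Subgroup.centralizer ({sS} : Set SL5) :=
    Subgroup.mem_centralizer_singleton_iff.2 ((Fr.range_mval _).2 ⟨b, hb, rfl⟩)
  rw [Fr.gen, ← Subgroup.mem_toSubmonoid, Subgroup.closure_toSubmonoid_of_finite] at hm
  obtain ⟨c, hc, gc, e⟩ := (Submonoid.closure_le.2 hgen) hm
  rwa [← Mat.mval_injective hc hb e]

/-- letters: an element of the model, `g` or `n` -/
inductive Letter
  | v (m : ℕ)
  | g
  | n

/-- the value of a letter -/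
def Letter.val : Letter → ↥M24
  | .v m => vP m
  | .g => gP
  | .n => nP

/-- the packed value of a letter -/
def Letter.code : Letter → ℕ
  | .v m => compP (qt (m / 168)) (kt (m % 168))
  | .g => pg
  | .n => pn

/-- the letters lie in the model -/
def Letter.ok : Letter → Bool
  | .v m => Nat.blt m 21504
  | _ => true

/-- the packed value of a word -/
def wordP : List Letter → ℕ
  | [] => packL (List.range 24)
  | l :: w => compP l.code (wordP w)

theorem rep_vP {m : ℕ} (hm : m < 21504) :
    Rep (vP m : ↥M24).1 (compP (qt (m / 168)) (kt (m % 168))) :=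
  (rep_E (by omega)).mul (rep_W (Nat.mod_lt _ (by norm_num)))

theorem rep_word : ∀ w : List Letter, w.all Letter.ok = true →
    Rep ((w.map Letter.val).prod : ↥M24).1 (wordP w)
  | [], _ => rep_one
  | l :: w, h => by
    rw [List.all_cons, Bool.and_eq_true] at h
    rw [List.map_cons, List.prod_cons]
    refine Rep.mul ?_ (rep_word w h.2)
    cases l with
    | v m => exact rep_vP (Nat.blt_eq.mp h.1)
    | g => exact rep_mkM (a := pg) (ai := pgi) (by decide +kernel) (by decide +kernel)
    | n => exact rep_mkM (a := pn) (ai := pni) (by decide +kernel) (by decide +kernel)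

/-- the test of an equation between words -/
def same (w w' : List Letter) : Bool :=
  w.all Letter.ok && w'.all Letter.ok && Nat.beq (wordP w) (wordP w')

theorem word_eq {w w' : List Letter} (h : same w w' = true) :
    (w.map Letter.val).prod = (w'.map Letter.val).prod := by
  simp only [same, Bool.and_eq_true] at h
  exact eq_of_rep (rep_word w h.1.1) (rep_word w' h.1.2) h.2

theorem gpairs_check :
    gPairs.all (fun p => same [.g, .v p.1] [.v p.2, .g]) = true := by decide +kernel

theorem npairs_check :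
    nPairs.all (fun p => same [.n, .v p.1] [.v p.2, .n]) = true := by decide +kernel

theorem rels : Rels vP gP nP where
  mul a ha b hb := good_all hb a ha
  gg := by simpa [Letter.val] using word_eq (w := [.g, .g]) (w' := []) (by decide +kernel)
  nn := by simpa [Letter.val] using word_eq (w := [.n, .n]) (w' := []) (by decide +kernel)
  gn := by simpa [Letter.val] using word_eq (w := [.g, .n]) (w' := [.n, .g]) (by decide +kernel)
  g_x p hp := by simpa [Letter.val] using word_eq (List.all_eq_true.1 gpairs_check p hp)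
  n_x p hp := by simpa [Letter.val] using word_eq (List.all_eq_true.1 npairs_check p hp)
  line := by
    simpa [Letter.val, mul_assoc] using
      word_eq (w := [.g, .v 168, .g, .v 168, .g, .v 168]) (w' := []) (by decide +kernel)
  six := by
    simpa [Letter.val, mul_assoc] using
      word_eq (w := [.g, .v 7, .g, .v 7, .g, .v 7, .g, .v 7, .v 6724, .n, .v 16811]) (w' := [])
        (by decide +kernel)
  ncn := by
    simpa [Letter.val, mul_assoc] using
      word_eq (w := [.n, .v 1, .n, .v 10775, .n, .v 2]) (w' := []) (by decide +kernel)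
  ncn' := by
    simpa [Letter.val, mul_assoc] using
      word_eq (w := [.n, .v 2688, .n, .v 3360, .n, .v 2688]) (w' := []) (by decide +kernel)

/-- the word of the translation -/
def wT : List Letter :=
  [.v 14533, .n, .v 11, .g, .v 2, .g, .v 3, .g, .v 2709]

/-- the word of the inversion -/
def wI : List Letter :=
  [.v 6892, .n, .v 10, .g, .v 2, .g, .n, .v 13615]

/-- the word of the twist -/
def wC : List Letter :=
  [.v 15561, .n, .v 2689, .g, .v 2, .g, .n, .v 2729]

theorem word_mem : ∀ w : List Letter, w.all Letter.ok = true →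
    (w.map Letter.val).prod ∈ gens vP gP nP
  | [], _ => one_mem _
  | l :: w, h => by
    rw [List.all_cons, Bool.and_eq_true] at h
    rw [List.map_cons, List.prod_cons]
    refine mul_mem (Subgroup.subset_closure ?_) (word_mem w h.2)
    cases l with
    | v m => exact Or.inl ⟨m, Nat.blt_eq.mp h.1, rfl⟩
    | g => exact Or.inr (Or.inl rfl)
    | n => exact Or.inr (Or.inr rfl)

theorem gens_top : gens vP gP nP = ⊤ := by
  have hw : ∀ (w : List Letter) {σ : Equiv.Perm GolayPt} {a : ℕ}, Rep σ a →
      (w.all Letter.ok && Nat.beq (wordP w) a) = true →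
      σ ∈ (gens vP gP nP).map M24.subtype := fun w σ a hσ h => by
    rw [Bool.and_eq_true] at h
    refine ⟨_, word_mem w h.1, ?_⟩
    exact (rep_word w h.1).inj ((Nat.eq_of_beq_eq_true h.2).symm ▸ hσ)
  have h : m24Gen ≤ (gens vP gP nP).map M24.subtype := by
    rw [m24Gen, Subgroup.closure_le]
    rintro x (rfl | rfl | rfl)
    · exact hw wT rep_gT (by decide +kernel)
    · exact hw wI rep_projInv (by decide +kernel)
    · exact hw wC rep_cubeTwist (by decide +kernel)
  rw [eq_top_iff]
  intro x _
  obtain ⟨y, hy, e⟩ := h (m24Gen_eq.symm ▸ x.2 : (x : Equiv.Perm GolayPt) ∈ m24Gen)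
  exact Subtype.ext (e : (y : Equiv.Perm GolayPt) = x) ▸ hy

end Target

/-- **`M₂₄` realises the relations.** -/
theorem exists_m24_rels : ∃ (v : ℕ → ↥Cfsg.M24) (g n : ↥Cfsg.M24), Rels v g n ∧ gens v g n = ⊤ :=
  ⟨Target.vP, Target.gP, Target.nP, Target.rels, Target.gens_top⟩

end CfsgLib.Spor.HeTri.MTF
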