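import Cfsg.Agent.Lib.Spor.HeTri.M24Derive
import Cfsg.Agent.Lib.Spor.HeTri.M24Card
import Cfsg.Agent.Lib.Spor.HeTri.M24Target
import Cfsg.Agent.Lib.Spor.HeTri.M24Assemble

/-!
# The pattern of `M₂₄`
-/

set_option autoImplicit false

namespace CfsgLib.Spor.HeTri

open CfsgLib.Spor.HeRecog

universe u

/-- P5: the Mathieu group. -/
theorem m24_iso : StmtM24.{u} := by
  intro G _ _ z D hP N
  obtain ⟨g, n, hR⟩ := MTF.exists_rels D hP N
  exact MTF.iso_of_rels MTF.card_gens MTF.exists_m24_rels D hP hR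

end CfsgLib.Spor.HeTri
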