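import Cfsg.Agent.Lib.Spor.HeTri.NormalAAff
import Cfsg.Agent.Lib.FgsC.Gaschutz

/-!
# The vector stabiliser inside a group with the centraliser of a transvection

If some element normalises the group `A` and moves `z`, then the normaliser of `A` is the vector
stabiliser, compatibly with the model of the centraliser.
-/

set_option autoImplicit false
set_option linter.unusedSectionVars false
set_option linter.style.haveILetI false
set_option maxRecDepth 100000

namespace CfsgLib.Spor.HeTri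

open CfsgLib.Spor.HeRecog Matrix

universe u

/-- words in the generators with their crossed values -/
def evW (d : Nat → Nat) : List Nat → Nat × Nat
  | [] => (0, 0)
  | i :: w => (mulN 0 (gL.getD i 0) (evW d w).1,
      Nat.xor (d i) (actN (gL.getD i 0) (evW d w).2))

/-- the relations used for the uniqueness of the crossed map -/
def relWords : List (List Nat) :=
  [[1, 1, 3, 1, 2, 3, 2], [0, 1, 0, 1, 3, 0, 1, 3], [0, 2, 0, 2, 0, 2], [1, 2, 1, 2],
    [0, 1, 1, 3, 1, 0, 0, 0, 0, 0, 0, 3, 1, 1, 3, 1]]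

/-- a candidate for the values on the generators -/
def candD (a b c : Nat) : Nat → Nat := fun i => [0, a, b, c].getD i 0

theorem rel_prod : ∀ w ∈ [0, 0, 0, 0, 0, 0, 0] :: relWords,
    (∀ i ∈ w, i < 4) ∧ (evW (fun _ => 0) w).1 = 0 := by decide +kernel

theorem rel_check : allN 16 (fun a => allN 16 fun b => allN 16 fun c =>
    (Nat.beq a 0 && Nat.beq b 0 && Nat.beq c 0) ||
      relWords.any fun w => !(Nat.beq (evW (candD a b c) w).2 0)) = true := by decide +kernel

theorem norm_check : ∀ d ∈ List.range 16,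
    (evW (fun _ => d) [0, 0, 0, 0, 0, 0, 0]).2 = 0 →
      ∃ c ∈ List.range 16, Nat.xor c (actN fN c) = d := by decide +kernel

theorem evW_fst (d e : Nat → Nat) : ∀ w, (evW d w).1 = (evW e w).1
  | [] => rfl
  | i :: w => by
    show mulN 0 (gL.getD i 0) (evW d w).1 = mulN 0 (gL.getD i 0) (evW e w).1
    rw [evW_fst d e w]

theorem evW_congr (d e : Nat → Nat) : ∀ w, (∀ i ∈ w, d i = e i) → evW d w = evW e w
  | [], _ => rfl
  | i :: w, h => by
    rw [evW, evW, evW_congr d e w (fun k hk => h k (by simp [hk])), h i (by simp)]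

theorem gL_getD {i : ℕ} (hi : i < 4) : gL.getD i 0 ∈ gL := by
  interval_cases i <;> simp [gL]

section

variable {G : Type u} [Group G] {z : G} (D : Cen 0 z)

/-- the normaliser of the elementary abelian group -/
def grpN : Subgroup G := Subgroup.normalizer (grpA D : Set G)

theorem z_mem_grpA : z ∈ grpA D := by
  have h := aG_mem D (show 1 < 16 by norm_num)
  rwa [aG_one] at h

theorem conj_grpA {n : G} (hn : n ∈ grpN D) {x : G} (hx : x ∈ grpA D) : n * x * n⁻¹ ∈ grpA D :=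
  (Subgroup.mem_normalizer_iff.1 hn x).1 hx

theorem exists_conj_code {n : G} (hn : n ∈ grpN D) {v : ℕ} (hv : v < 16) :
    ∃ w < 16, n * aG D v * n⁻¹ = aG D w := by
  obtain ⟨w, hw, e⟩ := (mem_grpA D).1 (conj_grpA D hn (aG_mem D hv))
  exact ⟨w, hw, e.symm⟩

theorem grpA_le_grpN : grpA D ≤ grpN D := Subgroup.le_normalizer

theorem val_mem_grpN {m : ℕ} (hm : m < 21504) : D.val m ∈ grpN D := val_mem_normalizer D hm

/-- The normaliser moves `z` onto every element of the group. -/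
theorem exists_move {n₀ : G} (hn : n₀ ∈ grpN D) (hz : n₀ * z * n₀⁻¹ ≠ z) {b : ℕ} (hb : b < 16)
    (hb0 : b ≠ 0) : ∃ n ∈ grpN D, n * z * n⁻¹ = aG D b := by
  rcases eq_or_ne b 1 with rfl | hb1
  · exact ⟨1, one_mem _, by rw [one_mul, inv_one, mul_one, aG_one]⟩
  obtain ⟨a, ha, e⟩ := exists_conj_code D hn (show 1 < 16 by norm_num)
  rw [aG_one] at e
  have ha0 : a ≠ 0 := by
    rintro rfl
    rw [aG_zero, mul_inv_eq_one, mul_eq_left] at e
    have h1 : aG D 1 = aG D 0 := by rw [aG_one, aG_zero, e]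
    exact absurd (aG_inj D (by norm_num) (by norm_num) h1) (by norm_num)
  have ha1 : a ≠ 1 := by
    rintro rfl
    exact hz (e.trans (aG_one D))
  obtain ⟨ma, -, hma, ea⟩ := chain_check.1 a (List.mem_range.2 ha) (by omega)
  obtain ⟨mb, -, hmb, eb⟩ := chain_check.1 b (List.mem_range.2 hb) (by omega)
  refine ⟨D.val mb * (D.val ma)⁻¹ * n₀, mul_mem (mul_mem (val_mem_grpN D hmb)
    (inv_mem (val_mem_grpN D hma))) hn, ?_⟩
  have h1 := (actN_spec D hma (show 2 < 16 by norm_num)).2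
  have h2 := (actN_spec D hmb (show 2 < 16 by norm_num)).2
  rw [ea] at h1
  rw [eb] at h2
  rw [← h2]
  calc D.val mb * (D.val ma)⁻¹ * n₀ * z * (D.val mb * (D.val ma)⁻¹ * n₀)⁻¹
      = D.val mb * ((D.val ma)⁻¹ * (n₀ * z * n₀⁻¹) * D.val ma) * (D.val mb)⁻¹ := by group
    _ = _ := by rw [e, ← h1]; group

/-- A crossed map of the normaliser to the group which is the identity on the group. -/
structure Cross (e : ↥(grpN D) → G) : Prop where
  mem : ∀ n, e n ∈ grpA D
  mul : ∀ a b : ↥(grpN D), e (a * b) = e a * ((a : G) * e b * (a : G)⁻¹)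
  self : ∀ n : ↥(grpN D), (n : G) ∈ grpA D → e n = n

theorem Cross.one {e : ↥(grpN D) → G} (h : Cross D e) : e 1 = 1 :=
  (h.self 1 (by rw [Subgroup.coe_one]; exact one_mem _)).trans (by rw [Subgroup.coe_one])

/-- changing a crossed map by the coboundary of an element of the group -/
theorem Cross.twist {e : ↥(grpN D) → G} (h : Cross D e) {c : ℕ} (hc : c < 16) :
    Cross D fun n => aG D c * e n * ((n : G) * aG D c * (n : G)⁻¹) := by
  have hA := aG_mem D hc
  refine ⟨fun n => mul_mem (mul_mem hA (h.mem n)) (conj_grpA D n.2 hA), fun a b => ?_,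
    fun n hn => ?_⟩
  · show aG D c * e (a * b) * (((a * b : ↥(grpN D)) : G) * aG D c * ((a * b : ↥(grpN D)) : G)⁻¹) =
      aG D c * e a * ((a : G) * aG D c * (a : G)⁻¹) *
        ((a : G) * (aG D c * e b * ((b : G) * aG D c * (b : G)⁻¹)) * (a : G)⁻¹)
    rw [h.mul, Subgroup.coe_mul]
    calc aG D c * (e a * ((a : G) * e b * (a : G)⁻¹)) *
          ((a : G) * b * aG D c * ((a : G) * b)⁻¹)
        = aG D c * e a * ((a : G) * 1 * (e b * ((b : G) * aG D c * (b : G)⁻¹)) * (a : G)⁻¹) := by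
          group
      _ = _ := by rw [← aG_sq D hc]; group
  · show aG D c * e n * ((n : G) * aG D c * (n : G)⁻¹) = n
    rw [h.self n hn, grpA_comm D hn hA, mul_inv_cancel_right, mul_assoc,
      ← grpA_comm D hA hn, ← mul_assoc, aG_sq D hc, one_mul]

variable [Finite G]

/-- The index of the centraliser in the normaliser is fifteen. -/
theorem index_cent {n₀ : G} (hn : n₀ ∈ grpN D) (hz : n₀ * z * n₀⁻¹ ≠ z) :
    ((Subgroup.centralizer ({z} : Set G)).subgroupOf (grpN D)).index = 15 := by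
  set U := (Subgroup.centralizer ({z} : Set G)).subgroupOf (grpN D) with hU
  have hne : ∀ n : ↥(grpN D), ∃ a : {a : Fin 16 // a ≠ 0}, (n : G) * z * (n : G)⁻¹ = aG D a := by
    intro n
    obtain ⟨w, hw, e⟩ := exists_conj_code D n.2 (show 1 < 16 by norm_num)
    rw [aG_one] at e
    refine ⟨⟨⟨w, hw⟩, fun h => ?_⟩, e⟩
    have h0 : w = 0 := congrArg Fin.val h
    rw [h0, aG_zero, mul_inv_eq_one, mul_eq_left] at e
    have h1 : aG D 1 = aG D 0 := by rw [aG_one, aG_zero, e]
    exact absurd (aG_inj D (by norm_num) (by norm_num) h1) (by norm_num)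
  choose φ hφ using hne
  have hφiff : ∀ a b : ↥(grpN D), a⁻¹ * b ∈ U ↔ φ a = φ b := by
    intro a b
    rw [hU, Subgroup.mem_subgroupOf, Subgroup.mem_centralizer_singleton_iff, Subgroup.coe_mul,
      Subgroup.coe_inv]
    constructor
    · intro h
      refine Subtype.ext (Fin.ext (aG_inj D (φ a).1.2 (φ b).1.2 ?_))
      rw [← hφ, ← hφ]
      calc (a : G) * z * (a : G)⁻¹ = (a : G) * (z * ((a : G)⁻¹ * b)) * (b : G)⁻¹ := by group
        _ = (a : G) * ((a : G)⁻¹ * b * z) * (b : G)⁻¹ := by rw [h]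
        _ = (b : G) * z * (b : G)⁻¹ := by group
    · intro h
      have e : (a : G) * z * (a : G)⁻¹ = (b : G) * z * (b : G)⁻¹ := by rw [hφ, hφ, h]
      calc (a : G)⁻¹ * b * z = (a : G)⁻¹ * ((b : G) * z * (b : G)⁻¹) * b := by group
        _ = z * ((a : G)⁻¹ * b) := by rw [← e]; group
  let f : ↥(grpN D) ⧸ U → {a : Fin 16 // a ≠ 0} := fun q => φ q.out
  have hf : Function.Bijective f := by
    refine ⟨fun p q h => ?_, fun a => ?_⟩
    · rw [← QuotientGroup.out_eq' p, ← QuotientGroup.out_eq' q, QuotientGroup.eq]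
      exact (hφiff _ _).2 h
    · obtain ⟨n, hnN, e⟩ := exists_move D hn hz a.1.2 fun h => a.2 (Fin.ext h)
      refine ⟨(⟨n, hnN⟩ : ↥(grpN D)), ?_⟩
      refine Subtype.ext (Fin.ext (aG_inj D (f _).1.2 a.1.2 ?_))
      rw [← e]
      obtain ⟨u, hu⟩ := QuotientGroup.mk_out_eq_mul U ⟨n, hnN⟩
      rw [show f _ = φ _ from rfl, hu]
      have he : φ (⟨n, hnN⟩ * u) = φ ⟨n, hnN⟩ :=
        ((hφiff _ _).1 (by rw [inv_mul_cancel_left]; exact u.2)).symm
      rw [he, ← hφ]
  rw [Subgroup.index_eq_card, Nat.card_congr (Equiv.ofBijective f hf), Nat.card_eq_fintype_card,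
    Fintype.card_subtype_compl, Fintype.card_fin, Fintype.card_subtype_eq]

/-- There is a crossed map. -/
theorem exists_cross (hm : StmtMat) {n₀ : G} (hn : n₀ ∈ grpN D) (hz : n₀ * z * n₀⁻¹ ≠ z) :
    ∃ e, Cross D e := by
  set N := grpN D
  set K := (grpA D).subgroupOf N
  set U := (Subgroup.centralizer ({z} : Set G)).subgroupOf N
  haveI : K.Normal := ⟨fun k hk n => by
    rw [Subgroup.mem_subgroupOf] at hk ⊢
    rw [Subgroup.coe_mul, Subgroup.coe_mul, Subgroup.coe_inv]
    exact conj_grpA D n.2 hk⟩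
  haveI : IsMulCommutative K :=
    ⟨⟨fun a b => Subtype.ext (Subtype.ext (grpA_comm D a.2 b.2))⟩⟩
  have hKU : K ≤ U := fun k hk =>
    Subgroup.mem_centralizer_singleton_iff.2 (grpA_comm D hk (z_mem_grpA D))
  let Kc : Subgroup ↥N :=
    { carrier := {n | ∃ m < 21504, D.val m = (n : G) ∧ e0 ᵥ* mat m = e0}
      one_mem' := ⟨0, by norm_num, by rw [D.val_zero]; rfl, by
        have h := e0_vec_mat (show (0 : ℕ) < 16 by norm_num)
        rwa [show aN 0 = 0 from rfl, show tv 0 = 0 from funext fun j => by simp [tv],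
          add_zero] at h⟩
      mul_mem' := fun {a b} ⟨m, h1, h2, h3⟩ ⟨k, k1, k2, k3⟩ => ⟨mulN 0 m k, mulN_lt h1 _ _,
        by rw [D.val_mul _ _ h1 k1, h2, k2, Subgroup.coe_mul],
        by rw [hm.2.1 m h1 k k1, ← vecMul_vecMul, h3, k3]⟩
      inv_mem' := fun {a} ⟨m, h1, h2, h3⟩ => ⟨invN 0 m, invN_lt _ _,
        by rw [D.val_inv h1, h2, Subgroup.coe_inv], by
          conv_lhs => rw [← h3]
          rw [vecMul_vecMul, ← hm.2.1 m h1 _ (invN_lt _ _), (model_spec (by norm_num) h1).1]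
          have h := e0_vec_mat (show (0 : ℕ) < 16 by norm_num)
          rwa [show aN 0 = 0 from rfl, show tv 0 = 0 from funext fun j => by simp [tv],
            add_zero] at h⟩ }
  have hcU : Kc ≤ U := fun n ⟨m, h1, h2, _⟩ => by
    rw [Subgroup.mem_subgroupOf, ← h2]
    exact Subgroup.mem_centralizer_singleton_iff.2 (D.val_comm m h1)
  have hinf : Kc ⊓ K = ⊥ := by
    rw [Subgroup.eq_bot_iff_forall]
    rintro n ⟨⟨m, h1, h2, h3⟩, hK⟩
    obtain ⟨v, hv, e⟩ := (mem_grpA D).1 (Subgroup.mem_subgroupOf.1 hK)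
    have hmv : m = aN v := D.val_inj _ _ h1 (aN_lt hv) (h2.trans e.symm)
    rw [hmv, e0_vec_mat hv, add_eq_left] at h3
    have hv0 : v = 0 := tv_inj hv (by norm_num) (h3.trans (funext fun j => by simp [tv]))
    exact Subtype.ext (by rw [← h2, hmv, hv0]; exact aG_zero D)
  have hsup : K ⊔ Kc = U := by
    refine le_antisymm (sup_le hKU hcU) fun n hnU => ?_
    obtain ⟨m, hml, e⟩ := D.val_surj (n : G)
      (Subgroup.mem_centralizer_singleton_iff.1 (Subgroup.mem_subgroupOf.1 hnU))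
    obtain ⟨u, hu, eu⟩ := exists_fv (xm hm m hml)
    let a : ↥N := ⟨aG D u, grpA_le_grpN D (aG_mem D hu)⟩
    have hc : a * n ∈ Kc := by
      refine ⟨mulN 0 (aN u) m, mulN_lt (aN_lt hu) _ _, ?_, ?_⟩
      · rw [D.val_mul _ _ (aN_lt hu) hml, e, Subgroup.coe_mul]; rfl
      · rw [hm.2.1 _ (aN_lt hu) _ hml, ← vecMul_vecMul, e0_vec_mat hu, eu, fv, add_comm,
          add_assoc, add_self_vec, add_zero, vecMul_vecMul]
        show e0 ᵥ* (invM (xm hm m hml) * ((xm hm m hml : SL5) : M5)) = e0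
        rw [invM_mul_self, vecMul_one]
    have ha : a⁻¹ ∈ K := inv_mem (Subgroup.mem_subgroupOf.2 (aG_mem D hu))
    rw [show n = a⁻¹ * (a * n) by rw [inv_mul_cancel_left]]
    exact Subgroup.mul_mem_sup ha hc
  obtain ⟨δ, hδK, hδm, hδp⟩ := CfsgLib.FgsC.hasCrossedPow_index K U hKU Kc hcU hinf hsup
  refine ⟨fun n => (δ n : G), fun n => Subgroup.mem_subgroupOf.1 (hδK n), fun a b => ?_,
    fun n hn' => ?_⟩
  · show (δ (a * b) : G) = (δ a : G) * ((a : G) * (δ b : G) * (a : G)⁻¹)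
    rw [hδm, Subgroup.coe_mul, Subgroup.coe_mul, Subgroup.coe_mul, Subgroup.coe_inv]
  · show (δ n : G) = n
    rw [hδp n (Subgroup.mem_subgroupOf.2 hn'), show U.index = 15 from index_cent D hn hz]
    obtain ⟨v, hv, e⟩ := (mem_grpA D).1 hn'
    rw [zpow_natCast, Subgroup.coe_pow, ← e, show (15 : ℕ) = 2 * 7 + 1 from rfl, pow_succ,
      pow_mul, pow_two, aG_sq D hv, one_pow, one_mul]

/-- The values of a crossed map on the centraliser, as codes. -/
theorem cross_word {e : ↥(grpN D) → G} (h : Cross D e) (d : ℕ → ℕ)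
    (hd : ∀ i, i < 4 → d i < 16 ∧ ∀ hg : gL.getD i 0 < 21504,
      e ⟨D.val (gL.getD i 0), val_mem_grpN D hg⟩ = aG D (d i)) :
    ∀ w : List ℕ, (∀ i ∈ w, i < 4) → (evW d w).2 < 16 ∧ ∃ hl : (evW d w).1 < 21504,
      e ⟨D.val (evW d w).1, val_mem_grpN D hl⟩ = aG D (evW d w).2
  | [], _ => by
    refine ⟨by simp [evW], by simp [evW], ?_⟩
    have h0 : (⟨D.val (evW d []).1, val_mem_grpN D (by simp [evW])⟩ : ↥(grpN D)) = 1 :=
      Subtype.ext D.val_zero
    rw [h0, h.one]
    exact (aG_zero D).symm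
  | i :: w, hw => by
    have hi : i < 4 := hw i (by simp)
    obtain ⟨h16, hl, ev⟩ := cross_word h d hd w fun k hk => hw k (by simp [hk])
    obtain ⟨hd16, hde⟩ := hd i hi
    have hg : gL.getD i 0 < 21504 := (gL_conj _ (gL_getD hi)).1
    obtain ⟨ha16, hae⟩ := actN_spec D hg h16
    refine ⟨xor_lt16 hd16 ha16, mulN_lt hg _ _, ?_⟩
    have hsplit : (⟨D.val (evW d (i :: w)).1, val_mem_grpN D (mulN_lt hg _ _)⟩ : ↥(grpN D)) =
        ⟨D.val (gL.getD i 0), val_mem_grpN D hg⟩ * ⟨D.val (evW d w).1, val_mem_grpN D hl⟩ :=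
      Subtype.ext (D.val_mul _ _ hg hl)
    rw [hsplit, h.mul, hde hg, ev, hae, aG_mul D hd16 ha16]
    rfl

set_option maxHeartbeats 400000 in
/-- There is a crossed map vanishing on the generators. -/
theorem exists_cross_zero (hm : StmtMat) {n₀ : G} (hn : n₀ ∈ grpN D) (hz : n₀ * z * n₀⁻¹ ≠ z) :
    ∃ e, Cross D e ∧ ∀ g ∈ gL, ∀ hg : g < 21504, e ⟨D.val g, val_mem_grpN D hg⟩ = 1 := by
  obtain ⟨e, he⟩ := exists_cross D hm hn hz
  have hg : ∀ i, i < 4 → gL.getD i 0 < 21504 := fun i hi => (gL_conj _ (gL_getD hi)).1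
  have hcode : ∀ (e : ↥(grpN D) → G), Cross D e → ∀ i, ∃ v < 16, i < 4 → ∀ h : gL.getD i 0 < 21504,
      e ⟨D.val (gL.getD i 0), val_mem_grpN D h⟩ = aG D v := by
    intro e he i
    by_cases hi : i < 4
    · obtain ⟨v, hv, ev⟩ := (mem_grpA D).1 (he.mem ⟨D.val (gL.getD i 0), val_mem_grpN D (hg i hi)⟩)
      exact ⟨v, hv, fun _ _ => ev.symm⟩
    · exact ⟨0, by norm_num, fun h => absurd h hi⟩
  -- the value of a relation
  have hrel : ∀ (e : ↥(grpN D) → G), Cross D e → ∀ d : ℕ → ℕ,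
      (∀ i, i < 4 → d i < 16 ∧ ∀ h : gL.getD i 0 < 21504,
        e ⟨D.val (gL.getD i 0), val_mem_grpN D h⟩ = aG D (d i)) →
      ∀ w ∈ [0, 0, 0, 0, 0, 0, 0] :: relWords, (evW d w).2 = 0 := by
    intro e he d hd w hw
    obtain ⟨hw4, hw0⟩ := rel_prod w hw
    obtain ⟨h16, hl, hev⟩ := cross_word D he d hd w hw4
    have h0 : (evW d w).1 = 0 := (evW_fst d _ w).trans hw0
    have h1 : (⟨D.val (evW d w).1, val_mem_grpN D hl⟩ : ↥(grpN D)) = 1 :=
      Subtype.ext ((congrArg D.val h0).trans D.val_zero)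
    rw [h1, he.one] at hev
    exact (aG_inj D (by norm_num) h16 ((aG_zero D).trans hev)).symm
  choose d hd16 hd using hcode e he
  have hnorm : (evW (fun _ => d 0) [0, 0, 0, 0, 0, 0, 0]).2 = 0 := by
    rw [evW_congr (fun _ => d 0) d [0, 0, 0, 0, 0, 0, 0] (fun i hi => by
      rw [show i = 0 by simpa using hi])]
    exact hrel e he d (fun i hi => ⟨hd16 i, hd i hi⟩) _ (List.mem_cons_self ..)
  obtain ⟨c, hc, hcd⟩ := norm_check (d 0) (List.mem_range.2 (hd16 0)) hnorm
  rw [List.mem_range] at hc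
  have hT := he.twist D hc
  obtain ⟨e', he', h0⟩ : ∃ e', Cross D e' ∧ ∀ h : gL.getD 0 0 < 21504,
      e' ⟨D.val (gL.getD 0 0), val_mem_grpN D h⟩ = aG D 0 := by
    refine ⟨_, hT, fun h => ?_⟩
    obtain ⟨ha16, hae⟩ := actN_spec D h hc
    show aG D c * e ⟨D.val (gL.getD 0 0), val_mem_grpN D h⟩ *
      (D.val (gL.getD 0 0) * aG D c * (D.val (gL.getD 0 0))⁻¹) = aG D 0
    rw [hd 0 (by norm_num) h, hae, aG_mul D hc (hd16 0),
      aG_mul D (xor_lt16 hc (hd16 0)) ha16, ← hcd]
    show aG D (c ^^^ (c ^^^ actN fN c) ^^^ actN fN c) = aG D 0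
    rw [← Nat.xor_assoc, Nat.xor_self, Nat.zero_xor, Nat.xor_self]
  obtain ⟨a, ha, ea⟩ := hcode e' he' 1
  obtain ⟨b, hb, eb⟩ := hcode e' he' 2
  obtain ⟨k, hk, ek⟩ := hcode e' he' 3
  have hd' : ∀ i, i < 4 → candD a b k i < 16 ∧ ∀ h : gL.getD i 0 < 21504,
      e' ⟨D.val (gL.getD i 0), val_mem_grpN D h⟩ = aG D (candD a b k i) := by
    intro i hi
    interval_cases i
    · exact ⟨Nat.succ_pos 15, h0⟩
    · exact ⟨ha, ea (by norm_num)⟩
    · exact ⟨hb, eb (by norm_num)⟩
    · exact ⟨hk, ek (by norm_num)⟩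
  have hall := allN_spec (allN_spec (allN_spec rel_check a ha) b hb) k hk
  simp only [Bool.or_eq_true, Bool.and_eq_true] at hall
  rcases hall with ⟨⟨a0, b0⟩, k0⟩ | hbad
  · have a0' : a = 0 := Nat.eq_of_beq_eq_true a0
    have b0' : b = 0 := Nat.eq_of_beq_eq_true b0
    have k0' : k = 0 := Nat.eq_of_beq_eq_true k0
    refine ⟨e', he', fun g hgL hgl => ?_⟩
    obtain ⟨i, hi, rfl⟩ : ∃ i < 4, gL.getD i 0 = g := by
      simp only [gL, List.mem_cons, List.not_mem_nil, or_false] at hgL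
      rcases hgL with rfl | rfl | rfl | rfl
      exacts [⟨0, by norm_num, rfl⟩, ⟨1, by norm_num, rfl⟩, ⟨2, by norm_num, rfl⟩,
        ⟨3, by norm_num, rfl⟩]
    rw [(hd' i hi).2 hgl]
    have : candD a b k i = 0 := by
      subst a0' b0' k0'
      interval_cases i <;> rfl
    rw [this, aG_zero]
  · obtain ⟨w, hw, hne⟩ := List.any_eq_true.1 hbad
    rw [hrel e' he' _ hd' w (List.mem_cons_of_mem _ hw)] at hne
    simp at hne

/-- the code of the image of a vector under an element of the stabiliser -/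
noncomputable def actA (x : ↥Aff) (v : ℕ) : ℕ := (exists_act x v).choose

theorem actA_spec (x : ↥Aff) (v : ℕ) : actA x v < 16 ∧ tv (actA x v) = tv v ᵥ* invM x :=
  (exists_act x v).choose_spec

theorem actA_eq {x : ↥Aff} {v w : ℕ} (hw : w < 16) (h : tv w = tv v ᵥ* invM x) : actA x v = w :=
  tv_inj (actA_spec x v).1 hw ((actA_spec x v).2.trans h.symm)

theorem actA_xor (x : ↥Aff) {v w : ℕ} (hv : v < 16) (hw : w < 16) :
    actA x (v ^^^ w) = actA x v ^^^ actA x w :=
  actA_eq (xor_lt16 (actA_spec x v).1 (actA_spec x w).1) (by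
    rw [tv_add (actA_spec x v).1 (actA_spec x w).1, (actA_spec x v).2, (actA_spec x w).2,
      tv_add hv hw, add_vecMul])

theorem actA_inj (x : ↥Aff) {v w : ℕ} (hv : v < 16) (hw : w < 16) (h : actA x v = actA x w) :
    v = w := by
  have h' : tv v ᵥ* invM x = tv w ᵥ* invM x := by
    rw [← (actA_spec x v).2, ← (actA_spec x w).2, h]
  have h'' := congrArg (fun r => r ᵥ* ((x : SL5) : M5)) h'
  simp only [vecMul_vecMul, invM_mul_self, vecMul_one] at h''
  exact tv_inj hv hw h''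

theorem actA_zero (x : ↥Aff) : actA x 0 = 0 :=
  actA_eq (by norm_num) (by
    rw [show tv 0 = 0 from funext fun j => by simp [tv], zero_vecMul])

/-- an element of the normaliser acts on a code as an element of the stabiliser -/
def Agree (x : ↥Aff) (n : G) (v : ℕ) : Prop := n * aG D v * n⁻¹ = aG D (actA x v)

theorem Agree.xor {x : ↥Aff} {n : G} {v w : ℕ} (hv : v < 16) (hw : w < 16) (h1 : Agree D x n v)
    (h2 : Agree D x n w) : Agree D x n (v ^^^ w) := by
  rw [Agree] at h1 h2 ⊢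
  rw [← aG_mul D hv hw, actA_xor x hv hw, ← aG_mul D (actA_spec x v).1 (actA_spec x w).1, ← h1, ← h2]
  group

/-- The code pulled back by an element agreeing below `k` is at least `k`. -/
theorem pull_ge {x : ↥Aff} {n : G} (hn : n ∈ grpN D) {k : ℕ} (hk : k < 16)
    (h : ∀ v < k, Agree D x n v) :
    ∃ b < 16, k ≤ b ∧ n * aG D b * n⁻¹ = aG D (actA x k) := by
  obtain ⟨b, hb, e⟩ := exists_conj_code D (inv_mem hn) (actA_spec x k).1
  have e' : n * aG D b * n⁻¹ = aG D (actA x k) := by rw [← e]; group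
  refine ⟨b, hb, ?_, e'⟩
  by_contra hlt
  push Not at hlt
  exact absurd (actA_inj x hb hk (aG_inj D (actA_spec x b).1 (actA_spec x k).1
    ((h b hlt).symm.trans e'))) (by omega)

/-- Composing with an element of the centraliser. -/
theorem agree_mul {x : ↥Aff} {n : G} {m v w : ℕ} (hml : m < 21504) (hv : v < 16)
    (hw : actN m v = w) (h : n * aG D w * n⁻¹ = aG D (actA x v)) :
    Agree D x (n * D.val m) v := by
  have e := (actN_spec D hml hv).2
  rw [hw] at e
  rw [Agree, ← h, ← e]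
  group

/-- Every element of the stabiliser has the same action as some element of the normaliser. -/
theorem exists_agree {n₀ : G} (hn : n₀ ∈ grpN D) (hz : n₀ * z * n₀⁻¹ ≠ z) (x : ↥Aff) :
    ∃ n ∈ grpN D, ∀ v < 16, Agree D x n v := by
  obtain ⟨n1, h1N, h1⟩ := exists_move D hn hz (actA_spec x 1).1 fun h =>
    absurd (actA_inj x (by norm_num) (by norm_num) (h.trans (actA_zero x).symm)) (by norm_num)
  have zero : ∀ n : G, Agree D x n 0 := fun n => by
    rw [Agree, actA_zero, aG_zero, mul_one, mul_inv_cancel]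
  have one : ∀ {n : G} {m : ℕ}, m < 21504 → Agree D x n 1 → Agree D x (n * D.val m) 1 := by
    intro n m hml h
    rw [Agree, aG_one] at h ⊢
    rw [← h]
    calc n * D.val m * z * (n * D.val m)⁻¹ = n * (D.val m * z) * (D.val m)⁻¹ * n⁻¹ := by group
      _ = _ := by rw [D.val_comm m hml]; group
  have a1 : Agree D x n1 1 := by rw [Agree, aG_one]; exact h1
  obtain ⟨b, hb, hb2, eb⟩ := pull_ge D (x := x) h1N (show 2 < 16 by norm_num) (fun v hv => by
    interval_cases v
    exacts [zero _, a1])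
  obtain ⟨mA, -, hA, eA⟩ := chain_check.1 b (List.mem_range.2 hb) hb2
  have h2N : n1 * D.val mA ∈ grpN D := mul_mem h1N (val_mem_grpN D hA)
  have a21 := one hA a1
  have a22 : Agree D x (n1 * D.val mA) 2 := agree_mul D hA (by norm_num) eA eb
  have a23 : Agree D x (n1 * D.val mA) 3 := Agree.xor D (v := 1) (w := 2) (by norm_num) (by norm_num) a21 a22
  obtain ⟨c, hc, hc4, ec⟩ := pull_ge D h2N (show 4 < 16 by norm_num) (fun v hv => by
    interval_cases v
    exacts [zero _, a21, a22, a23])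
  obtain ⟨mB, -, hB, eB2, eB⟩ := chain_check.2.1 c (List.mem_range.2 hc) hc4
  set n2 := n1 * D.val mA with hn2
  have h3N : n2 * D.val mB ∈ grpN D := mul_mem h2N (val_mem_grpN D hB)
  have a31 := one hB a21
  have a32 : Agree D x (n2 * D.val mB) 2 := agree_mul D hB (by norm_num) eB2 a22
  have a34 : Agree D x (n2 * D.val mB) 4 := agree_mul D hB (by norm_num) eB ec
  have a33 : Agree D x (n2 * D.val mB) 3 := Agree.xor D (v := 1) (w := 2) (by norm_num) (by norm_num) a31 a32
  obtain ⟨d, hd, hd8, ed⟩ := pull_ge D h3N (show 8 < 16 by norm_num) (fun v hv => by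
    interval_cases v
    exacts [zero _, a31, a32, a33, a34, Agree.xor D (v := 1) (w := 4) (by norm_num) (by norm_num) a31 a34,
      Agree.xor D (v := 2) (w := 4) (by norm_num) (by norm_num) a32 a34, Agree.xor D (v := 3) (w := 4) (by norm_num) (by norm_num) a33 a34])
  obtain ⟨mC, -, hC, eC2, eC4, eC⟩ := chain_check.2.2 d (List.mem_range.2 hd) hd8
  set n3 := n2 * D.val mB with hn3
  have a41 := one hC a31
  have a42 : Agree D x (n3 * D.val mC) 2 := agree_mul D hC (by norm_num) eC2 a32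
  have a44 : Agree D x (n3 * D.val mC) 4 := agree_mul D hC (by norm_num) eC4 a34
  have a48 : Agree D x (n3 * D.val mC) 8 := agree_mul D hC (by norm_num) eC ed
  have a43 : Agree D x (n3 * D.val mC) 3 := Agree.xor D (v := 1) (w := 2) (by norm_num) (by norm_num) a41 a42
  have low : ∀ v < 8, Agree D x (n3 * D.val mC) v := fun v hv => by
    interval_cases v
    exacts [zero _, a41, a42, a43, a44, Agree.xor D (v := 1) (w := 4) (by norm_num) (by norm_num) a41 a44,
      Agree.xor D (v := 2) (w := 4) (by norm_num) (by norm_num) a42 a44, Agree.xor D (v := 3) (w := 4) (by norm_num) (by norm_num) a43 a44]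
  refine ⟨n3 * D.val mC, mul_mem h3N (val_mem_grpN D hC), fun v hv => ?_⟩
  rcases Nat.lt_or_ge v 8 with h | h
  · exact low v h
  · have := Agree.xor D (v := 8) (by norm_num) (show v - 8 < 16 by omega) a48 (low _ (by omega))
    rwa [show 8 ^^^ (v - 8) = v by interval_cases v <;> rfl] at this

/-- The pairs with the same action and the same crossed value. -/
def relS {e : ↥(grpN D) → G} (he : Cross D e) : Subgroup (↥Aff × ↥(grpN D)) :=
  let S : Submonoid (↥Aff × ↥(grpN D)) :=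
    { carrier := {p | (∀ v < 16, ∀ w < 16, tv w = tv v ᵥ* invM p.1 →
          (p.2 : G) * aG D v * (p.2 : G)⁻¹ = aG D w) ∧
          ∀ u < 16, tv u = fv p.1 → e p.2 = aG D u}
      one_mem' := by
        refine ⟨fun v hv w hw h => ?_, fun u hu h => ?_⟩
        · rw [Prod.fst_one, invM_one, vecMul_one] at h
          rw [tv_inj hw hv h, Prod.snd_one, Subgroup.coe_one, one_mul, inv_one, mul_one]
        · rw [Prod.fst_one, fv_one] at h
          rw [tv_inj hu (show (0 : ℕ) < 16 by norm_num) (h.trans (funext fun j => by simp [tv])),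
            aG_zero]
          exact he.one
      mul_mem' := by
        rintro ⟨x, n⟩ ⟨y, m⟩ ⟨hx1, hx2⟩ ⟨hy1, hy2⟩
        refine ⟨fun v hv w hw h => ?_, fun u hu h => ?_⟩
        · obtain ⟨t, ht, et⟩ := exists_act y v
          have h' : tv w = tv t ᵥ* invM x := by
            rw [et, vecMul_vecMul, ← invM_mul]
            exact h
          rw [← hx1 t ht w hw h', ← hy1 v hv t ht et]
          simp only [Prod.snd_mul, Subgroup.coe_mul]
          group
        · obtain ⟨a, ha, ea⟩ := exists_fv x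
          obtain ⟨b, hb, eb⟩ := exists_fv y
          obtain ⟨c, hc, ec⟩ := exists_act x b
          have hu' : u = a ^^^ c := tv_inj hu (xor_lt16 ha hc) (by
            rw [tv_add ha hc, ea, ec, eb, ← fv_mul]
            exact h)
          show e (n * m) = _
          rw [he.mul, hx2 a ha ea, hy2 b hb eb, hx1 b hb c hc ec, aG_mul D ha hc, hu'] }
  { S with
    inv_mem' := fun {p} hp => by
      have h : p⁻¹ = p ^ (orderOf p - 1) := inv_eq_of_mul_eq_one_right (by
        rw [← pow_succ', Nat.sub_add_cancel (orderOf_pos p), pow_orderOf_eq_one])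
      show p⁻¹ ∈ S
      rw [h]
      exact pow_mem hp _ }

theorem mem_relS {e : ↥(grpN D) → G} {he : Cross D e} {p : ↥Aff × ↥(grpN D)} :
    p ∈ relS D he ↔ (∀ v < 16, ∀ w < 16, tv w = tv v ᵥ* invM p.1 →
      (p.2 : G) * aG D v * (p.2 : G)⁻¹ = aG D w) ∧ ∀ u < 16, tv u = fv p.1 → e p.2 = aG D u :=
  Iff.rfl

theorem relS_one_right {e : ↥(grpN D) → G} {he : Cross D e} {n : ↥(grpN D)}
    (h : ((1 : ↥Aff), n) ∈ relS D he) : n = 1 := by
  obtain ⟨h1, h2⟩ := (mem_relS D).1 h
  have hA : (n : G) ∈ grpA D := by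
    refine cent_grpA D fun a ha => ?_
    obtain ⟨v, hv, rfl⟩ := (mem_grpA D).1 ha
    exact mul_inv_eq_iff_eq_mul.1 (h1 v hv v hv (by rw [invM_one, vecMul_one]))
  have hn : (n : G) = 1 := by
    rw [← he.self n hA, h2 0 (by norm_num) ((funext fun j => by simp [tv]).trans fv_one.symm),
      aG_zero]
  exact Subtype.ext hn

theorem relS_one_left {e : ↥(grpN D) → G} {he : Cross D e} {x : ↥Aff}
    (h : (x, (1 : ↥(grpN D))) ∈ relS D he) : x = 1 := by
  obtain ⟨h1, h2⟩ := (mem_relS D).1 h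
  refine aff_eq_one (fun v hv => ?_) ?_
  · obtain ⟨w, hw, ew⟩ := exists_act x v
    have e := h1 v hv w hw ew
    rw [Subgroup.coe_one, one_mul, inv_one, mul_one] at e
    rw [← ew, aG_inj D hv hw e]
  · obtain ⟨u, hu, eu⟩ := exists_fv x
    have e := h2 u hu eu
    rw [he.one, ← aG_zero D] at e
    rw [← eu, ← aG_inj D (by norm_num) hu e]
    exact funext fun j => by simp [tv]

/-- an element of the model in both groups -/
def pairM (hm : StmtMat) (m : ℕ) (h : m < 21504) : ↥Aff × ↥(grpN D) :=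
  (xm hm m h, ⟨D.val m, val_mem_grpN D h⟩)

theorem pairM_mul (hm : StmtMat) {m n : ℕ} (h1 : m < 21504) (h2 : n < 21504) :
    pairM D hm (mulN 0 m n) (mulN_lt h1 0 n) = pairM D hm m h1 * pairM D hm n h2 := by
  have e1 : xm hm (mulN 0 m n) (mulN_lt h1 0 n) = xm hm m h1 * xm hm n h2 := xm_mul hm h1 h2
  have e2 : (⟨D.val (mulN 0 m n), val_mem_grpN D (mulN_lt h1 0 n)⟩ : ↥(grpN D)) =
      ⟨D.val m, val_mem_grpN D h1⟩ * ⟨D.val n, val_mem_grpN D h2⟩ := by
    apply Subtype.ext
    rw [Subgroup.coe_mul]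
    exact D.val_mul m n h1 h2
  rw [pairM, pairM, pairM, e1, e2, Prod.mk_mul_mk]

theorem pairM_eq (hm : StmtMat) {m n : ℕ} (h1 : m < 21504) (h2 : n < 21504) (e : m = n) :
    pairM D hm m h1 = pairM D hm n h2 := by
  subst e
  rfl

theorem pairM_zero (hm : StmtMat) (h : 0 < 21504) : pairM D hm 0 h = 1 := by
  have e : pairM D hm 0 h = pairM D hm 0 h * pairM D hm 0 h :=
    (pairM_eq D hm h (mulN_lt h 0 0)
      ((model_spec (k := 0) (by norm_num : 0 < 4) h).2.1).symm).trans (pairM_mul D hm h h)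
  exact left_eq_mul.1 e

theorem pairM_inv (hm : StmtMat) {m : ℕ} (h : m < 21504) :
    pairM D hm (invN 0 m) (invN_lt 0 m) = (pairM D hm m h)⁻¹ := by
  have h0 : 0 < 21504 := Nat.succ_pos _
  refine eq_inv_of_mul_eq_one_right ?_
  rw [← pairM_mul D hm h (invN_lt 0 m),
    pairM_eq D hm (mulN_lt h 0 _) h0 (model_spec (k := 0) (by norm_num : 0 < 4) h).1,
    pairM_zero D hm h0]

/-- The model lies in the relation. -/
theorem relS_model (hm : StmtMat) {e : ↥(grpN D) → G} (he : Cross D e)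
    (h0 : ∀ g ∈ gL, ∀ hg : g < 21504, e ⟨D.val g, val_mem_grpN D hg⟩ = 1) {m : ℕ}
    (hml : m < 21504) : pairM D hm m hml ∈ relS D he := by
  have hact : ∀ (m : ℕ) (h : m < 21504), ∀ v < 16, ∀ w < 16, tv w = tv v ᵥ* invM (xm hm m h) →
      D.val m * aG D v * (D.val m)⁻¹ = aG D w := by
    intro m h v hv w hw e
    rw [xm_act hm D h hv] at e
    rw [(actN_spec D h hv).2, tv_inj hw (actN_spec D h hv).1 e]
  let H : Subgroup G :=
    { carrier := {g | ∃ (m : ℕ) (h : m < 21504), D.val m = g ∧ pairM D hm m h ∈ relS D he}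
      one_mem' := ⟨0, Nat.succ_pos _, D.val_zero, by rw [pairM_zero]; exact one_mem _⟩
      mul_mem' := by
        rintro _ _ ⟨a, ha, rfl, ra⟩ ⟨b, hb, rfl, rb⟩
        refine ⟨mulN 0 a b, mulN_lt ha _ _, D.val_mul _ _ ha hb, ?_⟩
        rw [pairM_mul D hm ha hb]
        exact mul_mem ra rb
      inv_mem' := by
        rintro _ ⟨a, ha, rfl, ra⟩
        refine ⟨invN 0 a, invN_lt _ _, D.val_inv ha, ?_⟩
        rw [pairM_inv D hm ha]
        exact inv_mem ra }
  have hA : grpA D ≤ H := by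
    intro x hx
    obtain ⟨v, hv, rfl⟩ := (mem_grpA D).1 hx
    refine ⟨aN v, aN_lt hv, rfl, (mem_relS D).2 ⟨hact (aN v) (aN_lt hv), fun u hu eu => ?_⟩⟩
    change tv u = fv (xm hm (aN v) (aN_lt hv)) at eu
    rw [fv_xm_aN hm hv] at eu
    show e ⟨D.val (aN v), val_mem_grpN D (aN_lt hv)⟩ = aG D u
    rw [he.self _ (aG_mem D hv), tv_inj hu hv eu]
    rfl
  have hg : ∀ g ∈ gL, D.val g ∈ H := by
    intro g hgL
    have hgl := (gL_conj g hgL).1
    refine ⟨g, hgl, rfl, (mem_relS D).2 ⟨hact g hgl, fun u hu eu => ?_⟩⟩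
    change tv u = fv (xm hm g hgl) at eu
    rw [fv_xm_gen hm hgL hgl] at eu
    show e ⟨D.val g, val_mem_grpN D hgl⟩ = aG D u
    rw [h0 g hgL hgl, tv_inj hu (show (0 : ℕ) < 16 by norm_num)
      (eu.trans (funext fun j => by simp [tv])), aG_zero]
  obtain ⟨k, hk, ek, rk⟩ := mem_of_gens D hA hg hml
  obtain rfl := D.val_inj k m hk hml ek
  exact rk

/-- An element normalising the group and moving `z` gives the vector stabiliser. -/
theorem normalA_of_move (hm : StmtMat) (n : G)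
    (hn : n ∈ Subgroup.normalizer
      ((Subgroup.closure (D.val '' {m | m = zN ∨ m ∈ clsOf 0 168}) : Subgroup G) : Set G))
    (hz : n * z * n⁻¹ ≠ z) : Nonempty (NormalA D) := by
  obtain ⟨e, he, h0⟩ := exists_cross_zero D hm (n₀ := n) hn hz
  have hex : ∀ x : ↥Aff, ∃ k : ↥(grpN D), (x, k) ∈ relS D he := by
    intro x
    obtain ⟨k, hkN, hk⟩ := exists_agree D (n₀ := n) hn hz x
    obtain ⟨u, hu, eu⟩ := exists_fv x
    obtain ⟨t, ht, et⟩ := (mem_grpA D).1 (he.mem ⟨k, hkN⟩)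
    have hut := xor_lt16 hu ht
    refine ⟨⟨aG D (u ^^^ t), grpA_le_grpN D (aG_mem D hut)⟩ * ⟨k, hkN⟩,
      (mem_relS D).2 ⟨fun v hv w hw h => ?_, fun u' hu' h => ?_⟩⟩
    · rw [← actA_eq hw h, Subgroup.coe_mul]
      calc aG D (u ^^^ t) * k * aG D v * (aG D (u ^^^ t) * k)⁻¹
          = aG D (u ^^^ t) * (k * aG D v * k⁻¹) * (aG D (u ^^^ t))⁻¹ := by group
        _ = _ := by
          rw [hk v hv, aG_mul D hut (actA_spec x v).1, Nat.xor_comm,
            ← aG_mul D (actA_spec x v).1 hut, mul_inv_cancel_right]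
    · rw [he.mul, he.self _ (aG_mem D hut), ← et, tv_inj hu' hu (h.trans eu.symm)]
      show aG D (u ^^^ t) * (aG D (u ^^^ t) * aG D t * (aG D (u ^^^ t))⁻¹) = aG D u
      rw [grpA_comm D (aG_mem D hut) (aG_mem D ht), mul_inv_cancel_right, aG_mul D hut ht,
        Nat.xor_assoc, Nat.xor_self, Nat.xor_zero]
  choose ψ hψ using hex
  have uniq : ∀ x k, (x, k) ∈ relS D he → ψ x = k := by
    intro x k hk
    have h := mul_mem (inv_mem (hψ x)) hk
    rw [Prod.inv_mk, Prod.mk_mul_mk, inv_mul_cancel] at h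
    exact inv_mul_eq_one.1 (relS_one_right D h)
  have hmul : ∀ a b, ψ (a * b) = ψ a * ψ b := fun a b => by
    have h := mul_mem (hψ a) (hψ b)
    rw [Prod.mk_mul_mk] at h
    exact uniq (a * b) (ψ a * ψ b) h
  let Ψ : ↥Aff →* G := (grpN D).subtype.comp (MonoidHom.mk' ψ hmul)
  have hΨ : ∀ a, Ψ a = (ψ a : G) := fun a => rfl
  have hval : ∀ (a : ↥Aff) (m : ℕ), m < 21504 → ((a : SL5) : M5) = mat m → Ψ a = D.val m := by
    intro a m hml ha
    obtain rfl : a = xm hm m hml := Subtype.ext (Subtype.ext ha)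
    have h := relS_model D hm he h0 hml
    rw [pairM] at h
    rw [hΨ, uniq (xm hm m hml) ⟨D.val m, val_mem_grpN D hml⟩ h]
  refine ⟨⟨Ψ, fun a b h => ?_, hval, ?_⟩⟩
  · have h' : ψ a = ψ b := Subtype.ext h
    have hr := mul_mem (inv_mem (hψ a)) (hψ b)
    rw [Prod.inv_mk, Prod.mk_mul_mk, h', inv_mul_cancel] at hr
    exact inv_mul_eq_one.1 (relS_one_left D hr)
  · refine le_antisymm ?_ fun k hk => ?_
    · rintro _ ⟨a, rfl⟩
      exact (ψ a).2
    · obtain ⟨b, hb, eb⟩ := exists_conj_code D (n := k) hk (show 1 < 16 by norm_num)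
      rw [aG_one] at eb
      obtain ⟨x, hx⟩ : ∃ x : ↥Aff, tv b = tv 1 ᵥ* invM x := by
        rcases Nat.lt_or_ge b 2 with hlt | hge
        · interval_cases b
          · rw [aG_zero, mul_inv_eq_one, mul_eq_left] at eb
            have h1 : aG D 1 = aG D 0 := by rw [aG_one, aG_zero, eb]
            exact absurd (aG_inj D (by norm_num) (by norm_num) h1) (by norm_num)
          · exact ⟨1, by rw [invM_one, vecMul_one]⟩
        · obtain ⟨mA, -, hA, eA⟩ := chain_check.1 b (List.mem_range.2 hb) hge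
          exact ⟨xm hm mA hA * swapA, by
            rw [invM_mul, ← vecMul_vecMul, swapA_act, xm_act hm D hA (by norm_num), eA]⟩
      have hmove : Ψ x * z * (Ψ x)⁻¹ = aG D b := by
        have h := ((mem_relS D).1 (hψ x)).1 1 (by norm_num) b hb hx
        rw [aG_one] at h
        exact h
      have hc : ((Ψ x)⁻¹ * k) * z = z * ((Ψ x)⁻¹ * k) := by
        calc (Ψ x)⁻¹ * k * z = (Ψ x)⁻¹ * (k * z * k⁻¹) * k := by group
          _ = z * ((Ψ x)⁻¹ * k) := by rw [eb, ← hmove]; group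
      obtain ⟨m, hml, em⟩ := D.val_surj _ hc
      exact ⟨x * xm hm m hml, by
        rw [map_mul, hval (xm hm m hml) m hml rfl, em, mul_inv_cancel_left]⟩

end

end CfsgLib.Spor.HeTri
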