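import Cfsg.Agent.Lib.Spor.HeTri.NormalABasic
import Cfsg.Agent.Lib.Spor.HeTri.NormalAMoveData
import Cfsg.Agent.Lib.Spor.HeRecog.Swap

/-!
# An element normalising the group of order sixteen and moving `z`

For `x = aG 2` fused to `z` by `g`, the twelve elements of the group outside `1, z, x, zx` are
selected among the conjugates of `z` commuting with `z` and `x` by an invariant of the pair. So
their images are the selected elements at the pair `(gzg⁻¹, z)`, and these, with four more, form a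
group normal in the centraliser.
-/

set_option autoImplicit false
set_option maxRecDepth 100000

namespace CfsgLib.Spor.HeTri

open CfsgLib.Spor.HeRecog

universe u

/-- membership in a list of codes -/
def mvMem (l : List Nat) (m : Nat) : Bool := l.any (Nat.beq m)

/-- equality of lists of codes -/
def mvEq : List Nat → List Nat → Bool
  | [], [] => true
  | a :: l, b :: k => Nat.beq a b && mvEq l k
  | _, _ => false

/-- two codes commute in the model -/
def mvCm (a b : Nat) : Bool := Nat.beq (mulN 0 a b) (mulN 0 b a)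

/-- the invariant selecting the group -/
def mvPass (n : Nat) (tl cl : List Nat) (y t : Nat) : Bool :=
  mvMem tl (mulN 0 t y) && mvMem tl (mulN 0 t zN) && mvMem tl (mulN 0 (mulN 0 t y) zN) &&
    Nat.beq (cl.filter fun s => mvCm s t).length n

/-- the candidates at a pair are listed -/
def mvListed (tl : List Nat) (r : Nat × List Nat × List Nat) : Bool :=
  Nat.blt r.1 21504 && mvCm r.1 zN && !(Nat.beq r.1 zN) &&
    mvEq r.2.1 (tl.filter fun m => !(Nat.beq m r.1) && !(Nat.beq m zN) && mvCm m r.1 && mvCm m zN)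

/-- the selected elements at a pair are listed -/
def mvSelected (n : Nat) (tl : List Nat) (r : Nat × List Nat × List Nat) : Bool :=
  (r.2.1.all fun t => !(mvPass n tl r.2.1 r.1 t) || mvMem r.2.2 t) &&
    ([0, r.1, zN, mulN 0 r.1 zN].all (mvMem r.2.2))

/-- the generators of the centraliser -/
def mvGens : List Nat := gL ++ (List.range 16).map aN

/-- the listed group is too small or normal in the centraliser -/
def mvNormal (r : Nat × List Nat × List Nat) : Bool :=
  Nat.blt r.2.2.length 16 || (Nat.beq r.2.2.length 16 && (r.2.2.all fun m => Nat.blt m 21504) &&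
    (mvGens.all fun c => Nat.blt c 21504 && r.2.2.all fun m => mvMem r.2.2 (cjN 0 c m)) &&
    (mvGens.any fun c => !(Nat.beq (cjN 0 c r.1) r.1)))

/-- the twelve elements of the group are selected at the pair of `z` and the code `2` -/
def mvStart (n : Nat) (tl : List Nat) (r : Nat × List Nat × List Nat) : Bool :=
  !(Nat.beq r.1 (aN 2)) || ((List.range 16).all fun v => Nat.blt v 4 ||
    (mvMem r.2.1 (aN v) && mvPass n tl r.2.1 r.1 (aN v)))

theorem mvTab_tl : (mvTab.all fun e =>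
    mvEq e.2.2.1 (zN :: e.1.flatMap (clsOf 0)) && mvEq (e.2.2.2.map Prod.fst) e.1) = true := by
  decide +kernel

theorem mvTab_listed : (mvTab.all fun e => e.2.2.2.all (mvListed e.2.2.1)) = true := by
  decide +kernel

theorem mvTab_selected : (mvTab.all fun e => e.2.2.2.all (mvSelected e.2.1 e.2.2.1)) = true := by
  decide +kernel

theorem mvTab_normal : (mvTab.all fun e => e.2.2.2.all mvNormal) = true := by
  decide +kernel

theorem mvTab_start : (mvTab.all fun e => e.2.2.2.all (mvStart e.2.1 e.2.2.1)) = true := by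
  decide +kernel

theorem mvTab_cases : ∀ T ∈ [vecT, l5T, m24T], ∃ e ∈ mvTab, e.1 = T ∧ 168 ∈ T ∧
    ∀ a ∈ T, a ∈ reps := by decide +kernel

theorem mv_reps_check : ∀ p ∈ clsL 0, p.1 = zN ∨ p.1 ∈ reps := by decide +kernel

theorem mv_cls_zN : clsOf 0 zN = [zN] := by decide +kernel

theorem mvEq_eq : ∀ {l k : List ℕ}, mvEq l k = true → l = k
  | [], [], _ => rfl
  | [], _ :: _, h => by simp [mvEq] at h
  | _ :: _, [], h => by simp [mvEq] at h
  | a :: l, b :: k, h => by
    simp only [mvEq, Bool.and_eq_true] at h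
    rw [Nat.eq_of_beq_eq_true h.1, mvEq_eq h.2]

theorem mvMem_iff {l : List ℕ} {m : ℕ} : mvMem l m = true ↔ m ∈ l := by
  simp only [mvMem, List.any_eq_true]
  exact ⟨fun ⟨x, hx, e⟩ => Nat.eq_of_beq_eq_true e ▸ hx, fun h => ⟨m, h, Nat.beq_refl m⟩⟩

section

variable {G : Type u} [Group G] {z : G} (D : Cen 0 z)

/-- conjugates of `z` commuting with two elements, other than these -/
def MvP (z a b t : G) : Prop :=
  IsConj t z ∧ t * a = a * t ∧ t * b = b * t ∧ t ≠ a ∧ t ≠ b

/-- the invariant of an element of `MvP` -/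
def MvQ (n : ℕ) (z a b t : G) : Prop :=
  IsConj (t * a) z ∧ IsConj (t * b) z ∧ IsConj (t * a * b) z ∧
    Nat.card {s : G // MvP z a b s ∧ s * t = t * s} = n

theorem mv_isConj_conj (g t : G) : IsConj (g * t * g⁻¹) z ↔ IsConj t z :=
  ⟨fun h => (isConj_iff.2 ⟨g, rfl⟩ : IsConj t (g * t * g⁻¹)).trans h,
    fun h => ((isConj_iff.2 ⟨g, rfl⟩ : IsConj t (g * t * g⁻¹)).symm).trans h⟩

theorem mvP_conj (g a b t : G) :
    MvP z (g * a * g⁻¹) (g * b * g⁻¹) (g * t * g⁻¹) ↔ MvP z a b t := by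
  unfold MvP
  rw [mv_isConj_conj, ← Cen.conj_comm_iff g t a, ← Cen.conj_comm_iff g t b]
  simp

theorem mvQ_conj (n : ℕ) (g a b t : G) :
    MvQ n z (g * a * g⁻¹) (g * b * g⁻¹) (g * t * g⁻¹) ↔ MvQ n z a b t := by
  have e : Nat.card {s : G // MvP z (g * a * g⁻¹) (g * b * g⁻¹) s ∧
      s * (g * t * g⁻¹) = g * t * g⁻¹ * s} = Nat.card {s : G // MvP z a b s ∧ s * t = t * s} :=
    (Cen.card_conj g _ _ fun s => by rw [mvP_conj, ← Cen.conj_comm_iff g s t]).symm
  unfold MvQ
  rw [e, show g * t * g⁻¹ * (g * a * g⁻¹) = g * (t * a) * g⁻¹ by group,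
    show g * (t * a) * g⁻¹ * (g * b * g⁻¹) = g * (t * a * b) * g⁻¹ by group,
    show g * t * g⁻¹ * (g * b * g⁻¹) = g * (t * b) * g⁻¹ by group,
    mv_isConj_conj, mv_isConj_conj, mv_isConj_conj]

theorem mvQ_symm (n : ℕ) {a b : G} (h : a * b = b * a) (t : G) :
    MvQ n z a b t ↔ MvQ n z b a t := by
  have e : Nat.card {s : G // MvP z b a s ∧ s * t = t * s} =
      Nat.card {s : G // MvP z a b s ∧ s * t = t * s} :=
    Nat.card_congr (Equiv.subtypeEquivRight fun s => by unfold MvP; tauto)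
  unfold MvQ
  rw [e, show t * b * a = t * a * b by rw [mul_assoc, ← h, ← mul_assoc]]
  tauto

/-- the codes of the fused elements -/
theorem mv_isConj_iff {T tl : List ℕ} (hP : Pattern D T) (hT : ∀ a ∈ T, a ∈ reps)
    (htl : tl = zN :: T.flatMap (clsOf 0)) {m : ℕ} (hm : m < 21504) :
    IsConj (D.val m) z ↔ m ∈ tl := by
  subst htl
  rw [List.mem_cons, List.mem_flatMap]
  constructor
  · intro h
    obtain ⟨c, hc⟩ := isConj_iff.1 h
    have ho : orderOf (D.val m) = 2 := by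
      have h3 := (MulAut.conj c).orderOf_eq (D.val m)
      rw [MulAut.conj_apply, hc] at h3
      exact h3.symm.trans D.ord
    obtain ⟨m', hm', e, p, hp, hmp⟩ := D.invol_val ho (D.val_comm m hm)
    obtain rfl := D.val_inj m' m hm' hm e
    rcases mv_reps_check p hp with h' | h'
    · rw [h', mv_cls_zN, List.mem_singleton] at hmp
      exact Or.inl hmp
    · exact Or.inr ⟨p.1, (hP p.1 h').1 ((D.cls_isConj hmp).trans h), hmp⟩
  · rintro (rfl | ⟨a, ha, hma⟩)
    · rw [D.val_z]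
    · exact (D.cls_isConj hma).symm.trans ((hP a (hT a ha)).2 ha)

variable {tl : List ℕ} (htl : ∀ m < 21504, IsConj (D.val m) z ↔ m ∈ tl)
  (htlt : ∀ m ∈ tl, m < 21504) {r : ℕ × List ℕ × List ℕ} (hr : mvListed tl r = true)

include htl htlt hr in
theorem mv_mem_cand {s : G} :
    MvP z (D.val r.1) z s ↔ ∃ m ∈ r.2.1, D.val m = s := by
  simp only [mvListed, Bool.and_eq_true, Bool.not_eq_true', Nat.blt_eq] at hr
  obtain ⟨⟨⟨hy, hyz⟩, -⟩, hcl⟩ := hr
  rw [mvEq_eq hcl]
  constructor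
  · rintro ⟨hc, h1, h2, h3, h4⟩
    obtain ⟨m, hm, rfl⟩ := D.val_surj s h2
    refine ⟨m, List.mem_filter.2 ⟨(htl m hm).1 hc, ?_⟩, rfl⟩
    simp only [Bool.and_eq_true, Bool.not_eq_true', mvCm]
    refine ⟨⟨⟨?_, ?_⟩, ?_⟩, ?_⟩
    · exact Bool.eq_false_iff.2 fun e => h3 (by rw [Nat.eq_of_beq_eq_true e])
    · exact Bool.eq_false_iff.2 fun e => h4 (by rw [Nat.eq_of_beq_eq_true e, D.val_z])
    · rw [D.mul_val_eq hm hy h1]; exact Nat.beq_refl _
    · rw [D.mul_val_eq hm Cen.zN_lt (by rw [D.val_z]; exact h2)]; exact Nat.beq_refl _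
  · rintro ⟨m, hm, rfl⟩
    obtain ⟨hmt, hb⟩ := List.mem_filter.1 hm
    simp only [Bool.and_eq_true, Bool.not_eq_true', mvCm] at hb
    obtain ⟨⟨⟨b1, b2⟩, b3⟩, -⟩ := hb
    have hlt := htlt m hmt
    refine ⟨(htl m hlt).2 hmt, D.val_commute hlt hy (Nat.eq_of_beq_eq_true b3),
      D.val_comm m hlt, fun e => ?_, fun e => ?_⟩
    · rw [D.val_inj m r.1 hlt hy e, Nat.beq_refl] at b1
      exact absurd b1 (by simp)
    · rw [D.val_inj m zN hlt Cen.zN_lt (e.trans D.val_z.symm), Nat.beq_refl] at b2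
      exact absurd b2 (by simp)

include htl htlt hr in
theorem mv_pass_iff (hnd : tl.Nodup) (n : ℕ) {m : ℕ} (hm : m ∈ r.2.1) :
    MvQ n z (D.val r.1) z (D.val m) ↔ mvPass n tl r.2.1 r.1 m = true := by
  have hy : r.1 < 21504 := by
    have h := hr
    simp only [mvListed, Bool.and_eq_true, Nat.blt_eq] at h
    exact h.1.1.1
  have hcl : r.2.1 = _ := mvEq_eq (by
    have h := hr
    simp only [mvListed, Bool.and_eq_true] at h
    exact h.2)
  have hlt : ∀ s ∈ r.2.1, s < 21504 := fun s hs => htlt s (List.mem_of_mem_filter (hcl ▸ hs))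
  have hm' := hlt m hm
  have hcard : Nat.card {s : G // MvP z (D.val r.1) z s ∧ s * D.val m = D.val m * s} =
      (r.2.1.filter fun s => mvCm s m).length := by
    rw [← D.card_image (fun s hs => hlt s (List.mem_of_mem_filter hs))
      ((hcl ▸ hnd.filter _).filter _)]
    refine Nat.card_congr (Equiv.subtypeEquivRight fun s => ?_)
    rw [mv_mem_cand D htl htlt hr]
    constructor
    · rintro ⟨⟨k, hk, rfl⟩, h⟩
      refine ⟨k, List.mem_filter.2 ⟨hk, ?_⟩, rfl⟩
      rw [mvCm, D.mul_val_eq (hlt k hk) hm' h]; exact Nat.beq_refl _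
    · rintro ⟨k, hk, rfl⟩
      obtain ⟨hk', he⟩ := List.mem_filter.1 hk
      exact ⟨⟨k, hk', rfl⟩, D.val_commute (hlt k hk') hm' (Nat.eq_of_beq_eq_true he)⟩
  unfold MvQ
  rw [hcard, ← D.val_mul _ _ hm' hy,
    show D.val m * z = D.val (mulN 0 m zN) by rw [D.val_mul _ _ hm' Cen.zN_lt, D.val_z],
    show D.val (mulN 0 m r.1) * z = D.val (mulN 0 (mulN 0 m r.1) zN) by
      rw [D.val_mul _ _ (mulN_lt hm' _ _) Cen.zN_lt, D.val_z],
    htl _ (mulN_lt hm' _ _), htl _ (mulN_lt hm' _ _), htl _ (mulN_lt (mulN_lt hm' _ _) _ _)]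
  simp only [mvPass, Bool.and_eq_true, mvMem_iff]
  exact ⟨fun ⟨a, b, c, d⟩ => ⟨⟨⟨a, b⟩, c⟩, by rw [d]; exact Nat.beq_refl _⟩,
    fun ⟨⟨⟨a, b⟩, c⟩, d⟩ => ⟨a, b, c, Nat.eq_of_beq_eq_true d⟩⟩

end

theorem mv_nodup : ∀ e ∈ mvTab, e.2.2.1.Nodup ∧ ∀ m ∈ e.2.2.1, m < 21504 := by decide +kernel

/-- Some element normalises the group of order sixteen and moves `z`. -/
theorem exists_normalizer_move {G : Type u} [Group G] [Finite G] {z : G} (D : Cen 0 z) (T : List ℕ)
    (hT : T ∈ [vecT, l5T, m24T]) (hP : Pattern D T) :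
    ∃ n ∈ Subgroup.normalizer (grpA D : Set G), n * z * n⁻¹ ≠ z := by
  obtain ⟨e, he, rfl, h168, hTr⟩ := mvTab_cases T hT
  have hT1 := List.all_eq_true.1 mvTab_tl e he
  rw [Bool.and_eq_true] at hT1
  obtain ⟨hnd, htlt⟩ := mv_nodup e he
  have htl : ∀ m < 21504, IsConj (D.val m) z ↔ m ∈ e.2.2.1 :=
    fun m hm => mv_isConj_iff D hP hTr (mvEq_eq hT1.1) hm
  have hrows : e.2.2.2.map Prod.fst = e.1 := mvEq_eq hT1.2
  obtain ⟨rx, hrx, hrx1⟩ := List.mem_map.1 (hrows ▸ h168)
  have hxl := List.all_eq_true.1 (List.all_eq_true.1 mvTab_listed e he) rx hrx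
  have haN : aN 2 = 168 := by decide +kernel
  have hx0 : D.val 168 = aG D 2 := by rw [aG, haN]
  have hxz : D.val 168 ≠ z := fun h => absurd
    (D.val_inj 168 zN (by norm_num) Cen.zN_lt (h.trans D.val_z.symm)) (by norm_num [zN])
  obtain ⟨g₀, hg₀⟩ := isConj_iff.1 ((hP 168 (hTr 168 h168)).2 h168)
  -- the image of `z`
  have hyc : g₀ * z * g₀⁻¹ * z = z * (g₀ * z * g₀⁻¹) := by
    have h := (Cen.conj_comm_iff g₀ z (D.val 168)).1 (D.val_comm 168 (by norm_num)).symm
    rwa [hg₀] at h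
  have hyz : g₀ * z * g₀⁻¹ ≠ z := fun h => hxz (by
    have := h.trans hg₀.symm
    exact (mul_left_cancel (mul_right_cancel this)).symm)
  obtain ⟨m, hm, hmy, p, hp, hmp⟩ :=
    D.invol_val (((MulAut.conj g₀).orderOf_eq z).trans D.ord) hyc
  obtain ⟨k, hk, hkc, hp1, -⟩ := D.cls_conj hmp
  have hpz : IsConj (D.val p.1) z :=
    (D.cls_isConj hmp).trans (hmy ▸ (mv_isConj_conj g₀ z).2 (IsConj.refl z))
  have hpT : p.1 ∈ e.1 := by
    rcases mv_reps_check p hp with h | h
    · rw [h, mv_cls_zN, List.mem_singleton] at hmp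
      exact absurd ((MulAut.conj_apply g₀ z).symm.trans (hmy.symm.trans (hmp ▸ D.val_z))) hyz
    · exact (hP _ h).1 hpz
  obtain ⟨ry, hry, hry1⟩ := List.mem_map.1 (hrows ▸ hpT)
  -- an element with `x ↦ z ↦ D.val ry.1`
  obtain ⟨g, hgx, hgz⟩ : ∃ g : G, g * D.val 168 * g⁻¹ = z ∧ g * z * g⁻¹ = D.val ry.1 := by
    refine ⟨(D.val k)⁻¹ * g₀, ?_, ?_⟩
    · rw [show (D.val k)⁻¹ * g₀ * D.val 168 * ((D.val k)⁻¹ * g₀)⁻¹ =
        (D.val k)⁻¹ * (g₀ * D.val 168 * g₀⁻¹) * D.val k by group, hg₀, mul_assoc,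
        ← D.val_comm k hk, inv_mul_cancel_left]
    · rw [show (D.val k)⁻¹ * g₀ * z * ((D.val k)⁻¹ * g₀)⁻¹ =
        (D.val k)⁻¹ * (g₀ * z * g₀⁻¹) * D.val k by group, ← MulAut.conj_apply, ← hmy, hry1,
        ← hkc, D.val_cj hk hp1]
      group
  have hyl := List.all_eq_true.1 (List.all_eq_true.1 mvTab_listed e he) ry hry
  have hys := List.all_eq_true.1 (List.all_eq_true.1 mvTab_selected e he) ry hry
  have hxs := List.all_eq_true.1 (List.all_eq_true.1 mvTab_start e he) rx hrx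
  simp only [mvSelected, Bool.and_eq_true] at hys
  simp only [mvStart, hrx1, haN, Nat.beq_refl, Bool.not_true, Bool.false_or,
    List.all_eq_true] at hxs
  have hy : ry.1 < 21504 := hry1 ▸ hp1
  -- the images of the sixteen elements are listed
  have himg : ∀ v < 16, ∃ j ∈ ry.2.2, D.val j = g * aG D v * g⁻¹ := by
    intro v hv
    by_cases h4 : v < 4
    · have h4' := List.all_eq_true.1 hys.2
      interval_cases v
      · exact ⟨0, mvMem_iff.1 (h4' 0 (by simp)), by rw [D.val_zero, aG_zero]; group⟩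
      · exact ⟨ry.1, mvMem_iff.1 (h4' _ (by simp)), by rw [aG_one, hgz]⟩
      · exact ⟨zN, mvMem_iff.1 (h4' _ (by simp)), by rw [← hx0, hgx, D.val_z]⟩
      · refine ⟨mulN 0 ry.1 zN, mvMem_iff.1 (h4' _ (by simp)), ?_⟩
        rw [D.val_mul _ _ hy Cen.zN_lt, D.val_z, ← hgz]
        conv_lhs => arg 2; rw [← hgx]
        rw [show (3 : ℕ) = 1 ^^^ 2 from rfl, ← aG_mul D (by norm_num) (by norm_num), aG_one,
          ← hx0]
        group
    · have h := hxs v (List.mem_range.2 hv)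
      simp only [Bool.or_eq_true, Nat.blt_eq, h4, false_or, Bool.and_eq_true, mvMem_iff] at h
      have hP1 : MvP z (D.val rx.1) z (aG D v) :=
        (mv_mem_cand D htl htlt hxl).2 ⟨aN v, h.1, rfl⟩
      have hQ1 : MvQ e.2.1 z (D.val rx.1) z (aG D v) :=
        (mv_pass_iff D htl htlt hxl hnd _ h.1).2 (by rw [hrx1]; exact h.2)
      rw [hrx1] at hP1 hQ1
      have hP2 : MvP z (D.val ry.1) z (g * aG D v * g⁻¹) := by
        rw [← hgz]
        conv => arg 3; rw [← hgx]
        rw [mvP_conj]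
        exact ⟨hP1.1, hP1.2.2.1, hP1.2.1, hP1.2.2.2.2, hP1.2.2.2.1⟩
      have hQ2 : MvQ e.2.1 z (D.val ry.1) z (g * aG D v * g⁻¹) := by
        rw [← hgz]
        conv => arg 4; rw [← hgx]
        rw [mvQ_conj]
        exact (mvQ_symm _ (D.val_comm 168 (by norm_num)) _).1 hQ1
      obtain ⟨j, hj, hje⟩ := (mv_mem_cand D htl htlt hyl).1 hP2
      refine ⟨j, ?_, hje⟩
      have hb := List.all_eq_true.1 hys.1 j hj
      rw [← hje, mv_pass_iff D htl htlt hyl hnd _ hj] at hQ2
      rw [hQ2, Bool.not_true, Bool.false_or] at hb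
      exact mvMem_iff.1 hb
  choose f hf hfe using himg
  have hinj : Function.Injective fun v : Fin 16 => f v v.2 := fun v w h => Fin.ext <|
    aG_inj D v.2 w.2 <| mul_left_cancel <| mul_right_cancel <| by
      rw [← hfe v v.2, ← hfe w w.2]; exact congrArg D.val h
  have hsub : Finset.univ.image (fun v : Fin 16 => f v v.2) ⊆ ry.2.2.toFinset := by
    intro j hj
    obtain ⟨v, -, rfl⟩ := Finset.mem_image.1 hj
    exact List.mem_toFinset.2 (hf v v.2)
  have hcard : (Finset.univ.image (fun v : Fin 16 => f v v.2)).card = 16 := by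
    rw [Finset.card_image_of_injective _ hinj, Finset.card_univ, Fintype.card_fin]
  have hn := List.all_eq_true.1 (List.all_eq_true.1 mvTab_normal e he) ry hry
  simp only [mvNormal, Bool.or_eq_true, Bool.and_eq_true, Nat.blt_eq, List.all_eq_true,
    List.any_eq_true, Bool.not_eq_true', mvMem_iff] at hn
  rcases hn with hn | ⟨⟨⟨hlen, hllt⟩, hclosed⟩, c, hc, hcy⟩
  · exfalso
    have h1 := Finset.card_le_card hsub
    have h2 := ry.2.2.toFinset_card_le
    omega
  have heq : Finset.univ.image (fun v : Fin 16 => f v v.2) = ry.2.2.toFinset :=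
    Finset.eq_of_subset_of_card_le hsub (by
      have h2 := ry.2.2.toFinset_card_le
      have h3 := Nat.eq_of_beq_eq_true hlen
      omega)
  have hlist : ∀ j ∈ ry.2.2, ∃ a ∈ grpA D, g * a * g⁻¹ = D.val j := by
    intro j hj
    rw [← List.mem_toFinset, ← heq, Finset.mem_image] at hj
    obtain ⟨v, -, rfl⟩ := hj
    exact ⟨_, aG_mem D v.2, (hfe v v.2).symm⟩
  obtain ⟨hclt, hcl⟩ := hclosed c hc
  have hmap : ∀ a ∈ grpA D, g⁻¹ * D.val c * g * a * (g⁻¹ * D.val c * g)⁻¹ ∈ grpA D := by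
    intro a ha
    obtain ⟨v, hv, rfl⟩ := (mem_grpA D).1 ha
    obtain ⟨a', ha', he'⟩ := hlist _ (hcl _ (hf v hv))
    rw [show g⁻¹ * D.val c * g * aG D v * (g⁻¹ * D.val c * g)⁻¹ =
      g⁻¹ * (D.val c * (g * aG D v * g⁻¹) * (D.val c)⁻¹) * g by group, ← hfe v hv,
      ← D.val_cj hclt (hllt _ (hf v hv)), ← he']
    simpa [mul_assoc] using ha'
  refine ⟨g⁻¹ * D.val c * g, ?_, fun h => ?_⟩
  · rw [Subgroup.mem_normalizer_iff]
    intro x
    refine ⟨hmap x, fun hx => ?_⟩
    let φ : grpA D → grpA D := fun a => ⟨_, hmap a a.2⟩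
    have hφ : Function.Injective φ := fun a b h =>
      Subtype.ext (mul_left_cancel (mul_right_cancel (congrArg Subtype.val h)))
    obtain ⟨a, hae⟩ := Finite.surjective_of_injective hφ ⟨_, hx⟩
    rw [show x = (a : G) from (mul_left_cancel (mul_right_cancel (congrArg Subtype.val hae))).symm]
    exact a.2
  · refine absurd ?_ (Bool.eq_false_iff.1 hcy)
    suffices hcj : cjN 0 c ry.1 = ry.1 by rw [hcj]; exact Nat.beq_refl _
    refine D.val_inj _ _ (cjN_lt hclt _ _) hy ?_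
    rw [D.val_cj hclt hy, ← hgz]
    conv_rhs => rw [← h]
    group

end CfsgLib.Spor.HeTri
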