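import Cfsg.Agent.Lib.Spor.HeTri.Mat
import Cfsg.Agent.Lib.Spor.HeTri.NormalAEmb
import Cfsg.Agent.Lib.Spor.HeTri.NormalAMove

/-!
# The normaliser of the group of order sixteen
-/

set_option autoImplicit false

namespace CfsgLib.Spor.HeTri

open CfsgLib.Spor.HeRecog

universe u

/-- P2: the normaliser of the group spanned by `z` and the class `168` is the vector stabiliser. -/
theorem normalA : StmtNormalA.{u} := by
  intro G _ _ z D T hT hP
  obtain ⟨n, hn, hz⟩ := exists_normalizer_move D T hT hP
  exact normalA_of_move D mat_spec n hn hz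

end CfsgLib.Spor.HeTri
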