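import Cfsg.Agent.Lib.Spor.HeTri.SplitData
import Cfsg.Agent.Lib.Spor.HeRecog.BasicData

/-!
# The kernel checks of the case split of the fusion

The numbers of conjugates `t` of `z` commuting with `z` and `x` such that `t z`, `t x`, `t z x` are
or are not conjugate to `z` leave seven sets of fused classes.
-/

set_option autoImplicit false
set_option maxRecDepth 100000
set_option Elab.async false

namespace CfsgLib.Spor.HeTri

open CfsgLib.Spor.HeRecog

/-- the representatives of the classes with a possible partner -/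
def reps5 : List Nat := [21, 168, 190, 1344, 1366]

/-- zero, `z` and the representatives -/
def repCls : List Nat := [0, zN, 21, 168, 190, 1344, 1366, 1680, 1777]

/-- the class `a` contains `m` -/
def inCl (a m : Nat) : Bool := bif Nat.beq a 0 then Nat.beq m 0 else (clsOf 0 a).any (Nat.beq m)

/-- the list of a table with multiplicities -/
def expand (t : List ((Nat × Nat × Nat × Nat) × Nat)) : List (Nat × Nat × Nat × Nat) :=
  t.flatMap fun p => List.replicate p.2 p.1

/-- the classes of `m`, `m z`, `m x`, `m z x` -/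
def quadOK (x : Nat) (p : Nat × Nat × Nat × Nat × Nat) : Bool :=
  Nat.blt p.1 21504 && Nat.beq (mulN 0 p.1 x) (mulN 0 x p.1) &&
    inCl p.2.1 p.1 && inCl p.2.2.1 (mulN 0 p.1 zN) && inCl p.2.2.2.1 (mulN 0 p.1 x) &&
    inCl p.2.2.2.2 (mulN 0 (mulN 0 p.1 zN) x) &&
    repCls.any (Nat.beq p.2.1) && repCls.any (Nat.beq p.2.2.1) && repCls.any (Nat.beq p.2.2.2.1) &&
    repCls.any (Nat.beq p.2.2.2.2)

/-- a row of the table -/
abbrev Row : Type := Nat × List Nat × List ((Nat × Nat × Nat × Nat) × Nat)

/-- the check of a row -/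
def rowOK (r : Row) : Bool :=
  Nat.beq (expand r.2.2).length r.2.1.length &&
    (r.2.1.zip (expand r.2.2)).all (quadOK r.1) &&
    (allInvol 0).all (fun m => !(Nat.beq (mulN 0 m r.1) (mulN 0 r.1 m)) ||
      r.2.1.any (Nat.beq m))

theorem splitTab_rows : splitTab.all rowOK = true := by decide +kernel

theorem splitTab_nodup : ∀ r ∈ splitTab, r.2.1.Nodup := by decide +kernel

theorem splitTab_reps : splitTab.map Prod.fst = reps5 := by decide +kernel

/-- fused to `z`, for the fused classes `l` -/
def inT (l : List Nat) (a : Nat) : Bool := Nat.beq a zN || l.any (Nat.beq a)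

/-- the test of the three bits -/
def sel (l : List Nat) (b1 b2 b3 : Bool) (q : Nat × Nat × Nat × Nat) : Bool :=
  inT l q.1 && (inT l q.2.1 == b1) && (inT l q.2.2.1 == b2) && (inT l q.2.2.2 == b3)

/-- the number of entries with three given bits -/
def cnt (l : List Nat) (t : List ((Nat × Nat × Nat × Nat) × Nat)) (b1 b2 b3 : Bool) : Nat :=
  (t.map fun p => bif sel l b1 b2 b3 p.1 then p.2 else 0).sum

/-- the roots do not allow `y` as partner of `x` -/
def rootDiffer (x y : Nat) : Bool :=
  sigZero.any fun a => Nat.beq a.1 x && sigZero.any fun b => Nat.beq b.1 y &&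
    !(Nat.beq b.2.2 a.2.1 && Nat.beq b.2.1 a.2.2)

/-- the row `ry` cannot be the partner of `rx` -/
def differ (l : List Nat) (rx ry : Row) : Bool :=
  rootDiffer rx.1 ry.1 || [true, false].any fun b1 => [true, false].any fun b2 =>
    [true, false].any fun b3 => !(Nat.beq (cnt l rx.2.2 b1 b2 b3) (cnt l ry.2.2 b2 b1 b3))

/-- some fused class has no partner -/
def bad (l : List Nat) : Bool :=
  splitTab.any fun rx => l.any (Nat.beq rx.1) &&
    splitTab.all fun ry => !(l.any (Nat.beq ry.1)) || differ l rx ry

/-- the sets of fused classes that remain -/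
def cases7 : List (List Nat) :=
  [[], [168], [1344], [21, 168, 1344], [21, 168, 1344, 1366], [21, 168, 190, 1344],
    [21, 168, 190, 1344, 1366]]

theorem split_cases : ∀ l ∈ reps5.sublists, l ∈ cases7 ∨ bad l = true := by decide +kernel

theorem sublists_lt : ∀ a ∈ reps5, a ≠ 0 ∧ a ≠ zN ∧ a < 21504 := by decide +kernel

theorem class_reps : ∀ p ∈ clsL 0, p.1 = zN ∨ p.1 ∈ reps5 ∨ p.1 = 1680 ∨ p.1 = 1777 := by
  decide +kernel

end CfsgLib.Spor.HeTri
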