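import Cfsg.Agent.Lib.Spor.HeTri.Interface
import Cfsg.Agent.Lib.Spor.HeTri.SplitCheck
import Cfsg.Agent.Lib.Spor.HeRecog.BasicFusion
import Cfsg.Agent.Lib.Spor.HeRecog.Mirror
import Cfsg.Agent.Lib.Spor.HeRecog.ModelSig

/-!
# The four patterns of fusion
-/

set_option autoImplicit false
set_option maxRecDepth 100000

namespace CfsgLib.Spor.HeTri

open CfsgLib.Spor.HeRecog

universe u

/-- a count with multiplicities -/
theorem length_filter_expand (f : Nat × Nat × Nat × Nat → Bool) :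
    ∀ t : List ((Nat × Nat × Nat × Nat) × Nat),
      ((expand t).filter f).length = (t.map fun p => bif f p.1 then p.2 else 0).sum
  | [] => rfl
  | p :: t => by
    rw [List.map_cons, List.sum_cons, ← length_filter_expand f t]
    cases h : f p.1 <;> simp [expand, h]

section

variable {G : Type u} [Group G] {z : G}

/-- `t` is a conjugate of `z` commuting with `u` and `w`, with given bits -/
def PairSet (z u w : G) (b1 b2 b3 : Bool) (t : G) : Prop :=
  IsConj t z ∧ t * u = u * t ∧ t * w = w * t ∧ (IsConj (t * u) z ↔ b1 = true) ∧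
    (IsConj (t * w) z ↔ b2 = true) ∧ (IsConj (t * u * w) z ↔ b3 = true)

theorem card_pair_conj (g u w : G) (b1 b2 b3 : Bool) :
    Nat.card {t : G // PairSet z u w b1 b2 b3 t} =
      Nat.card {t : G // PairSet z (g * u * g⁻¹) (g * w * g⁻¹) b1 b2 b3 t} := by
  have hc : ∀ a : G, IsConj (g * a * g⁻¹) z ↔ IsConj a z := fun a =>
    ⟨fun h => (isConj_iff.2 ⟨g, rfl⟩ : IsConj a (g * a * g⁻¹)).trans h,
      fun h => ((isConj_iff.2 ⟨g, rfl⟩ : IsConj a (g * a * g⁻¹)).symm).trans h⟩
  refine Cen.card_conj g _ _ fun a => ?_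
  unfold PairSet
  rw [hc, ← Cen.conj_comm_iff g a u, ← Cen.conj_comm_iff g a w,
    show g * a * g⁻¹ * (g * u * g⁻¹) = g * (a * u) * g⁻¹ by group,
    show g * (a * u) * g⁻¹ * (g * w * g⁻¹) = g * (a * u * w) * g⁻¹ by group,
    show g * a * g⁻¹ * (g * w * g⁻¹) = g * (a * w) * g⁻¹ by group, hc, hc, hc]

theorem card_pair_symm {u w : G} (h : u * w = w * u) (b1 b2 b3 : Bool) :
    Nat.card {t : G // PairSet z u w b1 b2 b3 t} =
      Nat.card {t : G // PairSet z w u b2 b1 b3 t} := by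
  refine Nat.card_congr (Equiv.subtypeEquivRight fun t => ?_)
  unfold PairSet
  rw [show t * w * u = t * u * w by rw [mul_assoc, ← h, ← mul_assoc]]
  tauto

theorem clsOf_zN_mem {m : ℕ} (h : m ∈ clsOf 0 zN) : m = zN := by
  rwa [clsOf_zN 0 (by simp), List.mem_singleton] at h

end

section

variable {G : Type u} [Group G] {z : G} (D : Cen 0 z)

open Classical in
/-- the fused classes -/
noncomputable def fusedList : List Nat := reps5.filter fun a => decide (IsConj (D.val a) z)

theorem mem_fused {a : ℕ} : a ∈ fusedList D ↔ a ∈ reps5 ∧ IsConj (D.val a) z := by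
  classical
  simp [fusedList]

theorem fused_sublists : fusedList D ∈ reps5.sublists := by
  classical
  exact List.mem_sublists.2 List.filter_sublist

theorem inT_iff {l : List ℕ} {a : ℕ} : inT l a = true ↔ a = zN ∨ a ∈ l := by
  simp [inT, List.any_eq_true]

/-- fusion of a numbered element, by its class -/
theorem isConj_inCl {a m : ℕ} (ha : repCls.any (Nat.beq a) = true) (h : inCl a m = true) :
    IsConj (D.val m) z ↔ inT (fusedList D) a = true := by
  have hz2 : z ≠ 1 := fun e => by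
    have := D.ord
    rw [e, orderOf_one] at this
    exact absurd this (by norm_num)
  rw [inT_iff, mem_fused]
  obtain ⟨b, hb, e⟩ := List.any_eq_true.1 ha
  obtain rfl := beq_true_iff.1 e
  by_cases h0 : a = 0
  · subst h0
    rw [inCl, Nat.beq_refl, cond_true] at h
    rw [beq_true_iff.1 h, D.val_zero]
    refine ⟨fun hc => absurd (isConj_one_left.1 hc.symm) hz2, ?_⟩
    rintro (h | ⟨h, -⟩)
    · exact absurd h (by norm_num [zN])
    · exact absurd rfl (sublists_lt 0 h).1
  · have hn : Nat.beq a 0 = false := by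
      rw [Bool.eq_false_iff]; exact fun e => h0 (beq_true_iff.1 e)
    rw [inCl, hn, cond_false] at h
    obtain ⟨c, hc, e⟩ := List.any_eq_true.1 h
    rw [← beq_true_iff.1 e] at hc
    have hiff : IsConj (D.val m) z ↔ IsConj (D.val a) z :=
      ⟨fun h => (D.cls_isConj hc).trans h, fun h => (D.cls_isConj hc).symm.trans h⟩
    rw [hiff]
    by_cases hz : a = zN
    · rw [hz, D.val_z]
      exact ⟨fun _ => Or.inl rfl, fun _ => IsConj.refl z⟩
    · refine ⟨fun hT => Or.inr ⟨?_, hT⟩, fun h => (h.resolve_left hz).2⟩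
      simp only [repCls, List.mem_cons, List.not_mem_nil, or_false] at hb
      rcases hb with rfl | rfl | rfl | rfl | rfl | rfl | rfl | rfl | rfl
      all_goals first
        | exact absurd rfl h0
        | exact absurd rfl hz
        | (simp [reps5]; done)
        | exact absurd hT (D.fusion_u (Or.inl rfl))
        | exact absurd hT (D.fusion_u (Or.inr rfl))

/-- the counts of the table are those of the group -/
theorem card_pair_row {r : Row} (hr : r ∈ splitTab) (b1 b2 b3 : Bool) :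
    Nat.card {t : G // PairSet z z (D.val r.1) b1 b2 b3 t} =
      cnt (fusedList D) r.2.2 b1 b2 b3 := by
  obtain ⟨x, L, t⟩ := r
  dsimp only
  have hx : x < 21504 := (sublists_lt x (splitTab_reps ▸ List.mem_map.2 ⟨_, hr, rfl⟩)).2.2
  have hz : zN < 21504 := Cen.zN_lt
  have hrow := List.all_eq_true.1 splitTab_rows _ hr
  simp only [rowOK, Bool.and_eq_true, beq_true_iff, List.all_eq_true] at hrow
  obtain ⟨⟨hlen, hquad⟩, hcover⟩ := hrow
  let f := sel (fusedList D) b1 b2 b3
  let S : List ℕ := ((L.zip (expand t)).filter fun p => f p.2).map Prod.fst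
  have hkey : ∀ p ∈ L.zip (expand t), p.1 < 21504 ∧
      D.val p.1 * D.val x = D.val x * D.val p.1 ∧
      (PairSet z z (D.val x) b1 b2 b3 (D.val p.1) ↔ f p.2 = true) := by
    intro p hp
    have h := hquad p hp
    simp only [quadOK, Bool.and_eq_true, beq_true_iff, Nat.blt_eq] at h
    obtain ⟨⟨⟨⟨⟨⟨⟨⟨⟨hlt, hcm⟩, c1⟩, c2⟩, c3⟩, c4⟩, r1⟩, r2⟩, r3⟩, r4⟩ := h
    have hc := D.val_commute hlt hx hcm
    refine ⟨hlt, hc, ?_⟩
    unfold PairSet
    have e1 : D.val p.1 * z = D.val (mulN 0 p.1 zN) := by rw [D.val_mul _ _ hlt hz, D.val_z]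
    have e2 : D.val p.1 * D.val x = D.val (mulN 0 p.1 x) := (D.val_mul _ _ hlt hx).symm
    have e3 : D.val p.1 * z * D.val x = D.val (mulN 0 (mulN 0 p.1 zN) x) := by
      rw [e1, D.val_mul _ _ (mulN_lt hlt 0 zN) hx]
    rw [show IsConj (D.val p.1 * z) z = IsConj (D.val (mulN 0 p.1 zN)) z by rw [← e1],
      show IsConj (D.val p.1 * D.val x) z = IsConj (D.val (mulN 0 p.1 x)) z by rw [← e2],
      show IsConj (D.val p.1 * z * D.val x) z = IsConj (D.val (mulN 0 (mulN 0 p.1 zN) x)) z by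
        rw [← e3], isConj_inCl D r1 c1, isConj_inCl D r2 c2,
      isConj_inCl D r3 c3, isConj_inCl D r4 c4]
    simp only [f, sel, Bool.and_eq_true, beq_iff_eq, ← Bool.eq_iff_iff]
    exact ⟨fun ⟨a, _, _, b, c, d⟩ => ⟨⟨⟨a, b⟩, c⟩, d⟩,
      fun ⟨⟨⟨a, b⟩, c⟩, d⟩ => ⟨a, D.val_comm _ hlt, hc, b, c, d⟩⟩
  have hS : ∀ m ∈ S, m < 21504 := by
    intro m hm
    obtain ⟨p, hp, rfl⟩ := List.mem_map.1 hm
    exact (hkey p (List.mem_filter.1 hp).1).1
  have hnd : S.Nodup := by
    refine List.Nodup.sublist (List.filter_sublist.map Prod.fst) ?_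
    rw [List.map_fst_zip (le_of_eq hlen.symm)]
    exact splitTab_nodup _ hr
  have hcount : cnt (fusedList D) t b1 b2 b3 = S.length := by
    rw [cnt, ← length_filter_expand, List.length_map]
    conv_lhs => rw [← List.map_snd_zip (l₁ := L) (le_of_eq hlen), List.filter_map, List.length_map]
    rfl
  rw [hcount, ← D.card_image hS hnd]
  refine Nat.card_congr (Equiv.subtypeEquivRight fun a => ⟨fun ha => ?_, ?_⟩)
  · have ho : orderOf a = 2 := by
      obtain ⟨g, hg⟩ := isConj_iff.1 ha.1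
      have h3 := (MulAut.conj g).orderOf_eq a
      rw [MulAut.conj_apply, hg] at h3
      exact h3.symm.trans D.ord
    obtain ⟨m, hm, rfl, p, hp, hmp⟩ := D.invol_val ho ha.2.1
    have hmI : m ∈ allInvol 0 := List.mem_flatMap.2 ⟨p, hp, D.clsOf_eq hp ▸ hmp⟩
    have h := hcover m hmI
    rw [beq_true_iff.2 (D.mul_val_eq hm hx ha.2.2.1), Bool.not_true, Bool.false_or] at h
    obtain ⟨m', hm', e⟩ := List.any_eq_true.1 h
    rw [← beq_true_iff.1 e] at hm'
    rw [← List.map_fst_zip (le_of_eq hlen.symm)] at hm'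
    obtain ⟨q, hq, rfl⟩ := List.mem_map.1 hm'
    exact ⟨q.1, List.mem_map.2 ⟨q, List.mem_filter.2 ⟨hq, (hkey q hq).2.2.1 ha⟩, rfl⟩, rfl⟩
  · rintro ⟨m, hm, rfl⟩
    obtain ⟨q, hq, rfl⟩ := List.mem_map.1 hm
    obtain ⟨hq1, hq2⟩ := List.mem_filter.1 hq
    exact (hkey q hq1).2.2.2 hq2

/-- a fused class has a partner that the checks allow -/
theorem not_bad : bad (fusedList D) ≠ true := by
  intro h
  simp only [bad, List.any_eq_true, Bool.and_eq_true, List.all_eq_true] at h
  obtain ⟨rx, hrx, ⟨x, hx, e⟩, hall⟩ := h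
  rw [← beq_true_iff.1 e] at hx
  obtain ⟨hx5, hxT⟩ := (mem_fused D).1 hx
  obtain ⟨-, hxz, hxlt⟩ := sublists_lt _ hx5
  obtain ⟨y, hy, hyz, hyT, ⟨g, hg1, hg2⟩, -, h1, h2, -⟩ := D.exists_swap hxlt hxT hxz
  have ho : orderOf (D.val y) = 2 := by
    obtain ⟨c, hc⟩ := isConj_iff.1 hyT
    have h3 := (MulAut.conj c).orderOf_eq (D.val y)
    rw [MulAut.conj_apply, hc] at h3
    exact h3.symm.trans D.ord
  obtain ⟨m, hm, e', q, hq, hmq⟩ := D.invol_val ho (D.val_comm y hy)
  obtain rfl := D.val_inj m y hm hy e'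
  obtain ⟨n, hn, hc, hq', -⟩ := D.cls_conj hmq
  have hqT : IsConj (D.val q.1) z := (D.cls_isConj hmq).trans hyT
  have hq5 : q.1 ∈ reps5 := by
    rcases class_reps q hq with h | h | h | h
    · exact absurd (clsOf_zN_mem (h ▸ hmq)) hyz
    · exact h
    · exact absurd hqT (D.fusion_u (h ▸ Or.inl rfl))
    · exact absurd hqT (D.fusion_u (h ▸ Or.inr rfl))
  have hqz := (sublists_lt _ hq5).2.1
  obtain ⟨ry, hry, ery⟩ := List.mem_map.1 (splitTab_reps ▸ hq5)
  have hd := hall ry hry
  have hin : (fusedList D).any (Nat.beq ry.1) = true :=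
    List.any_eq_true.2 ⟨ry.1, (mem_fused D).2 ⟨ery ▸ hq5, ery ▸ hqT⟩, Nat.beq_refl _⟩
  rw [hin, Bool.not_true, Bool.false_or] at hd
  simp only [differ, Bool.or_eq_true] at hd
  rcases hd with hd | hd
  · simp only [rootDiffer, List.any_eq_true, Bool.and_eq_true, beq_true_iff,
      Bool.not_eq_true', Bool.eq_false_iff] at hd
    obtain ⟨a, ha, ea, b, hb, eb, hne⟩ := hd
    have hsa := List.all_eq_true.1 sigZero_spec a ha
    have hsb := List.all_eq_true.1 sigZero_spec b hb
    simp only [Bool.and_eq_true, beq_true_iff] at hsa hsb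
    rw [ea] at hsa
    rw [eb, ery] at hsb
    have hz' : rootsN 0 (cjN 0 n q.1) zN = rootsN 0 q.1 zN := by
      conv_lhs => rw [← D.cjN_zN hn]
      exact D.rootsN_cj hn hq' Cen.zN_lt
    rw [← hc, D.rootsN_cj hn hq' hq', hsb.2, hsa.1] at h1
    rw [← hc, hz', hsb.1, hsa.2] at h2
    simp only [Ne, Bool.and_eq_true, beq_true_iff] at hne
    exact hne ⟨h1, h2⟩
  · simp only [List.any_eq_true, Bool.not_eq_true', Bool.eq_false_iff] at hd
    obtain ⟨b1, -, b2, -, b3, -, hne⟩ := hd
    refine hne (beq_true_iff.2 ?_)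
    have hn' : D.val n * z * (D.val n)⁻¹ = z := by
      rw [D.val_comm n hn, mul_inv_cancel_right]
    rw [← card_pair_row D hrx, ← card_pair_row D hry, ery,
      card_pair_conj g z (D.val rx.1) b1 b2 b3, hg2, hg1,
      card_pair_conj (D.val n) z (D.val q.1) b2 b1 b3, hn', ← D.val_cj hn hq', hc]
    exact card_pair_symm (D.val_comm _ hm) b1 b2 b3

theorem fused_cases : fusedList D ∈ cases7 :=
  (split_cases _ (fused_sublists D)).resolve_right (not_bad D)

/-- the pattern, given the fused classes -/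
theorem pattern_of_eq {T : List ℕ} (h : fusedList D = T) : Pattern D T := by
  intro a ha
  rw [← h, mem_fused]
  refine ⟨fun hT => ⟨?_, hT⟩, fun h => h.2⟩
  simp only [reps, List.mem_cons, List.not_mem_nil, or_false] at ha
  rcases ha with rfl | rfl | rfl | rfl | rfl | rfl | rfl
  all_goals first
    | (simp [reps5]; done)
    | exact absurd hT (D.fusion_u (Or.inl rfl))
    | exact absurd hT (D.fusion_u (Or.inr rfl))

theorem mirror_cls : mirN 1366 = 190 ∧ (clsOf 0 1680).any (Nat.beq (mirN 1680)) = true ∧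
    (clsOf 0 1777).any (Nat.beq (mirN 1777)) = true := by decide +kernel

/-- the pattern seen through the outer automorphism -/
theorem pattern_mirror {T : List ℕ} (h : Pattern D T) {T' : List ℕ}
    (hT' : ∀ a ∈ reps, (a ∈ T' ↔
      ((a = 21 ∧ 21 ∈ T) ∨ (a = 168 ∧ 1344 ∈ T) ∨ (a = 1344 ∧ 168 ∈ T) ∨
        (a = 190 ∧ 1366 ∈ T) ∨ (a = 1366 ∧ 190 ∈ T)))) :
    Pattern D.mirror T' := by
  intro a ha
  rw [hT' a ha]
  show IsConj (D.val (mirN a)) z ↔ _
  obtain ⟨e21, e168, e1344, e190, -, -, -⟩ := mirror_classes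
  obtain ⟨e1366, h5, h7⟩ := mirror_cls
  have hu : ∀ b : ℕ, b = 1680 ∨ b = 1777 → (clsOf 0 b).any (Nat.beq (mirN b)) = true →
      ¬ IsConj (D.val (mirN b)) z := by
    intro b hb hab hT
    obtain ⟨c, hc, e⟩ := List.any_eq_true.1 hab
    rw [← beq_true_iff.1 e] at hc
    exact D.fusion_u hb ((D.cls_isConj hc).trans hT)
  simp only [reps, List.mem_cons, List.not_mem_nil, or_false] at ha
  rcases ha with rfl | rfl | rfl | rfl | rfl | rfl | rfl
  · rw [e21, h 21 (by simp [reps])]; simp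
  · rw [e168, h 1344 (by simp [reps])]; simp
  · rw [e190, h 1366 (by simp [reps])]; simp
  · rw [e1344, h 168 (by simp [reps])]; simp
  · rw [e1366, h 190 (by simp [reps])]; simp
  · exact iff_of_false (hu 1680 (Or.inl rfl) h5) (by simp)
  · exact iff_of_false (hu 1777 (Or.inr rfl) h7) (by simp)

theorem isolated_of_nil (h : fusedList D = []) : Isolated z := by
  intro g hg
  have ho : orderOf (g * z * g⁻¹) = 2 := ((MulAut.conj g).orderOf_eq z).trans D.ord
  obtain ⟨m, hm, e, p, hp, hmp⟩ := D.invol_val ho hg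
  have hT : IsConj (D.val p.1) z := (D.cls_isConj hmp).trans (by
    rw [e]; exact (isConj_iff.2 ⟨g, rfl⟩ : IsConj z (g * z * g⁻¹)).symm)
  rcases class_reps p hp with h' | h' | h' | h'
  · have hmz : m = zN := clsOf_zN_mem (h' ▸ hmp)
    rw [← e, hmz, D.val_z]
  · exact absurd ((mem_fused D).2 ⟨h', hT⟩) (h ▸ List.not_mem_nil)
  · exact absurd hT (D.fusion_u (h' ▸ Or.inl rfl))
  · exact absurd hT (D.fusion_u (h' ▸ Or.inr rfl))

end

/-- **P1**: the four patterns of fusion. -/
theorem split : StmtSplit.{u} := by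
  intro G _ _ z D
  have h := fused_cases D
  simp only [cases7, List.mem_cons, List.not_mem_nil, or_false] at h
  rcases h with h | h | h | h | h | h | h
  · exact Or.inl (isolated_of_nil D h)
  · exact Or.inr ⟨D, Or.inl (pattern_of_eq D h)⟩
  · refine Or.inr ⟨D.mirror, Or.inl (pattern_mirror D (pattern_of_eq D h) ?_)⟩
    decide
  · exact Or.inr ⟨D, Or.inr (Or.inl (pattern_of_eq D h))⟩
  · exact Or.inr ⟨D, Or.inr (Or.inr (Or.inl (pattern_of_eq D h)))⟩
  · refine Or.inr ⟨D.mirror, Or.inr (Or.inr (Or.inl (pattern_mirror D (pattern_of_eq D h) ?_)))⟩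
    decide
  · exact Or.inr ⟨D, Or.inr (Or.inr (Or.inr (pattern_of_eq D h)))⟩

end CfsgLib.Spor.HeTri
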