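import Cfsg.Agent.Lib.Spor.HeTri.VecPair
import Cfsg.Agent.Lib.Fusion.WholeGroup

/-!
# P3: the pattern of the vector stabiliser

The centralisers of all involutions of `N(A)` lie in `N(A)`. As `N(A)` contains involutions which
are not conjugate to `z`, it contains all conjugates of `z`, so it is the whole group.
-/

set_option autoImplicit false
set_option maxRecDepth 100000
set_option linter.unusedSectionVars false

namespace CfsgLib.Spor.HeTri

open CfsgLib.Spor.HeRecog Subgroup

universe u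

namespace Vec

variable {G : Type u} [Group G] [Finite G] {z : G} {D : Cen 0 z}

/-- every conjugate of `z` centralising these elements of the model lies in `A` -/
def NoOut (D : Cen 0 z) (J : List ℕ) : Prop :=
  ∀ s, IsConj z s → (∀ j ∈ J, s * D.val j = D.val j * s) → s ∈ vecA D

variable (hP : Pattern D vecT)
include hP

theorem clique_prod {s c : G} (hs : IsConj z s) (hcs : c * s = s * c)
    (hc : IsConj z (c * s)) (h1 : c ≠ 1) : IsConj z c := by
  obtain ⟨g, hg⟩ := isConj_iff.1 hs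
  have e : g⁻¹ * (c * s) * g * z = z * (g⁻¹ * (c * s) * g) := by
    calc g⁻¹ * (c * s) * g * z = g⁻¹ * (c * s * (g * z * g⁻¹)) * g := by group
      _ = g⁻¹ * (g * z * g⁻¹ * (c * s)) * g := by rw [hg, ← mul_assoc s c s, hcs]
      _ = _ := by group
  have hm := mem_of_comm_z hP (hc.trans (isConj_iff.2 ⟨g⁻¹, by rw [inv_inv]⟩)) e
  have hc' : g⁻¹ * c * g ∈ vecA D := by
    have := mul_mem hm (z_mem_vecA D)
    rwa [show g⁻¹ * (c * s) * g * z = g⁻¹ * c * (s * (g * z * g⁻¹)) * g by group, hg,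
      show s * s = 1 by
        rw [← hg, show g * z * g⁻¹ * (g * z * g⁻¹) = g * (z * z) * g⁻¹ by group, D.zz, mul_one,
          mul_inv_cancel], mul_one] at this
  refine (isConj_z_of_mem hP hc' fun e' => h1 ?_).trans (isConj_iff.2 ⟨g, by group⟩)
  calc c = g * (g⁻¹ * c * g) * g⁻¹ := by group
    _ = 1 := by rw [e', mul_one, mul_inv_cancel]

theorem mem_of_comm_A {s t : G} (hs : IsConj z s) (ht : t ∈ vecA D) (h1 : t ≠ 1)
    (h : s * t = t * s) : s ∈ vecA D := (vec_clique hP ht h1).2 s hs h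

theorem cent_le_cls {r v : ℕ} (hr : centralizer ({D.val r} : Set G) ≤ nA D)
    (hv : v ∈ clsOf 0 r) : centralizer ({D.val v} : Set G) ≤ nA D := by
  obtain ⟨n, hn, e, hr', -⟩ := D.cls_conj hv
  intro g hg
  have hN := val_mem_nA D hn
  have h2 := mem_centralizer_singleton_iff.1 hg
  rw [← e, D.val_cj hn hr'] at h2
  have := hr (show (D.val n)⁻¹ * g * D.val n ∈ centralizer ({D.val r} : Set G) from
    mem_centralizer_singleton_iff.2 (by
      calc (D.val n)⁻¹ * g * D.val n * D.val r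
          = (D.val n)⁻¹ * (g * (D.val n * D.val r * (D.val n)⁻¹)) * D.val n := by group
        _ = (D.val n)⁻¹ * (D.val n * D.val r * (D.val n)⁻¹ * g) * D.val n := by rw [h2]
        _ = _ := by group))
  have h3 := mul_mem (mul_mem hN this) (inv_mem hN)
  rwa [show D.val n * ((D.val n)⁻¹ * g * D.val n) * (D.val n)⁻¹ = g by group] at h3

theorem easy_le {m : ℕ} (hm : m ∈ easyL) :
    m < 21504 ∧ centralizer ({D.val m} : Set G) ≤ nA D := by
  simp only [easyL, List.mem_append, List.mem_cons] at hm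
  have lt : ∀ {r}, m ∈ clsOf 0 r → m < 21504 := fun h => by
    obtain ⟨-, -, -, -, h, -⟩ := D.cls_conj h
    exact h
  have g : ∀ {r c a b d : ℕ}, (r, c, a, b, d) ∈ goodTbl → m ∈ clsOf 0 r →
      m < 21504 ∧ centralizer ({D.val m} : Set G) ≤ nA D :=
    fun h h' => ⟨lt h', cent_le_cls hP (good_rep hP h).1 h'⟩
  have ga : m ∈ vecList → m ≠ 0 → m < 21504 ∧ centralizer ({D.val m} : Set G) ≤ nA D :=
    fun h h0 => ⟨vec_lt h, cent_le_of_mem hP (mem_vecA.2 ⟨m, h, rfl⟩) fun e =>
      h0 (D.val_eq_one (vec_lt h) e)⟩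
  rcases hm with ((((h | h) | h) | h) | h) | rfl | h
  · exact g (r := 21) (c := 840) (a := 168) (b := 336) (d := 840) (by decide) h
  · exact g (r := 190) (c := 1008) (a := 336) (b := 168) (d := 1008) (by decide) h
  · exact g goodTbl_z.1 h
  · exact g goodTbl_z.2 h
  · exact g (r := 1777) (c := 11088) (a := 168) (b := 336) (d := 672) (by decide) h
  · exact ga vecList_facts.2.2.1 (by decide)
  · refine ga (by simp [vecList, h]) ?_
    obtain ⟨-, -, -, -, -, h0, -⟩ := D.cls_conj h
    exact h0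

/-- The step: a conjugate of `z` centralising `J` lies in `A`. -/
theorem noOut_step {J : List ℕ} {v r : ℕ} {hard : List (List ℕ)} (h : stepOK J v r hard = true)
    (hh : ∀ K ∈ hard, NoOut D K) : NoOut D J := by
  simp only [stepOK, Bool.and_eq_true, List.all_eq_true, Bool.or_eq_true, Bool.not_eq_true',
    inN_iff, List.any_eq_true] at h
  obtain ⟨⟨⟨⟨⟨hJ, h0⟩, hvJ⟩, hv⟩, hr⟩, hall⟩ := h
  have hvJ' : v ∉ J := fun e => by rw [inN_iff.2 e] at hvJ; exact Bool.noConfusion hvJ
  have hlt : ∀ j ∈ J, j < 21504 := fun j hj => Nat.le_of_ble_eq_true (hJ j hj).1.1.1.1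
  have hr' : r = 1344 ∨ r = 1680 := by simpa using hr
  obtain ⟨-, -, -, -, hvlt, hv0, hvv⟩ := D.cls_conj hv
  let Jg : Subgroup G :=
    { carrier := {x | ∃ j ∈ J, D.val j = x}
      one_mem' := ⟨0, h0, D.val_zero⟩
      mul_mem' := by
        rintro _ _ ⟨a, ha, rfl⟩ ⟨b, hb, rfl⟩
        exact ⟨_, ((hJ a ha).1.1.2 b hb).1, D.val_mul a b (hlt a ha) (hlt b hb)⟩
      inv_mem' := by
        rintro _ ⟨a, ha, rfl⟩
        have hpow : ∀ k : ℕ, ∃ j ∈ J, D.val j = D.val a ^ k := fun k => by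
          induction k with
          | zero => exact ⟨0, h0, by rw [pow_zero, D.val_zero]⟩
          | succ k ih =>
            obtain ⟨j, hj, e⟩ := ih
            exact ⟨_, ((hJ j hj).1.1.2 a ha).1, by
              rw [D.val_mul j a (hlt j hj) (hlt a ha), e, pow_succ]⟩
        obtain ⟨j, hj, e⟩ := hpow (orderOf (D.val a) - 1)
        refine ⟨j, hj, eq_inv_of_mul_eq_one_left ?_⟩
        rw [e, ← pow_succ, Nat.sub_add_cancel (orderOf_pos _), pow_orderOf_eq_one] }
  intro s hs hsJ
  have hss : s * s = 1 := by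
    obtain ⟨g, rfl⟩ := isConj_iff.1 hs
    rw [show g * z * g⁻¹ * (g * z * g⁻¹) = g * (z * z) * g⁻¹ by group, D.zz, mul_one,
      mul_inv_cancel]
  have hvv' : D.val v * D.val v = 1 := by rw [← D.val_mul v v hvlt hvlt, hvv, D.val_zero]
  have hvc : ∀ c ∈ Jg, D.val v * c = c * D.val v := by
    rintro _ ⟨j, hj, rfl⟩
    exact (val_cm hvlt (hlt j hj)).1 (hJ j hj).1.1.1.2
  have hsc : ∀ c ∈ Jg, s * c = c * s := by
    rintro _ ⟨j, hj, rfl⟩
    exact hsJ j hj
  rcases CfsgLib.Fusion.WholeGroup.mod_dichotomy (J := Jg) hsc hvc (hss.symm ▸ one_mem _)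
      (hvv'.symm ▸ one_mem _) with
    ⟨g, hgc, c, hc, hg⟩ | ⟨i, hiJ, hii, hic, ⟨c1, hc1, h1⟩, c2, hc2, h2⟩
  · exfalso
    obtain ⟨j, hj, hj'⟩ := inv_mem hc
    have hgc' := hgc c⁻¹ (inv_mem hc)
    have e : g⁻¹ * s * g⁻¹⁻¹ = D.val (mulN 0 v j) := by
      rw [D.val_mul v j hvlt (hlt j hj), hj']
      calc g⁻¹ * s * g⁻¹⁻¹ = g⁻¹ * (s * c * c⁻¹) * g := by group
        _ = g⁻¹ * (g * D.val v * g⁻¹ * c⁻¹) * g := by rw [hg]
        _ = D.val v * (g⁻¹ * (c⁻¹ * g)) := by group
        _ = _ := by rw [← hgc', inv_mul_cancel_left]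
    have hx : IsConj z (D.val (mulN 0 v j)) := hs.trans (isConj_iff.2 ⟨g⁻¹, e⟩)
    obtain ⟨m, hm, hme⟩ := mem_vecA.1
      (mem_of_comm_z hP hx (D.val_comm _ (mulN_lt hvlt 0 j)))
    rw [D.val_inj _ _ (vec_lt hm) (mulN_lt hvlt 0 j) hme] at hm
    have := (hJ j hj).1.2
    rw [inN_iff.2 hm] at this
    exact Bool.noConfusion this
  · have e1 : i⁻¹ * s * i = c1 * s := by
      calc i⁻¹ * s * i = i⁻¹ * (s * i * s⁻¹) * s := by group
        _ = c1 * s := by rw [h1]; group
    have e2 : i⁻¹ * D.val v * i = c2 * D.val v := by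
      calc i⁻¹ * D.val v * i = i⁻¹ * (D.val v * i * (D.val v)⁻¹) * D.val v := by group
        _ = c2 * D.val v := by rw [h2]; group
    obtain ⟨j1, hj1, rfl⟩ := hc1
    obtain ⟨j2, hj2, rfl⟩ := hc2
    rcases eq_or_ne (D.val j1) 1 with hc | hc
    swap
    · have hcs := (hsJ j1 hj1).symm
      have hz := clique_prod hP hs hcs (hs.trans (isConj_iff.2 ⟨i⁻¹, by rw [inv_inv]; exact e1⟩)) hc
      exact mem_of_comm_A hP hs (mem_of_comm_z hP hz (D.val_comm j1 (hlt j1 hj1))) hc hcs.symm
    rw [hc, one_mul] at e1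
    rcases eq_or_ne j2 0 with hj0 | hj0
    swap
    · exfalso
      have hw : D.val (mulN 0 j2 v) = D.val j2 * D.val v := D.val_mul _ _ (hlt j2 hj2) hvlt
      have hcon : IsConj (D.val v) (D.val (mulN 0 j2 v)) :=
        isConj_iff.2 ⟨i⁻¹, by rw [inv_inv, e2, hw]⟩
      rcases (hJ j2 hj2).2 with (h' | h') | h'
      · exact hj0 (eqb.1 h')
      · have : D.val (mulN 0 j2 v) * D.val (mulN 0 j2 v) = 1 := by
          rw [hw, ← e2, show i⁻¹ * D.val v * i * (i⁻¹ * D.val v * i) =
            i⁻¹ * (D.val v * D.val v) * i by group, hvv', mul_one, inv_mul_cancel]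
        rw [eqb.2 (D.val_sq (mulN_lt (hlt j2 hj2) 0 v) this)] at h'
        exact Bool.noConfusion h'
      · obtain ⟨p, hp, hp1, hp2⟩ := h'
        refine pair_not_conj hP (r := r) (r' := p.2) ?_
          (((D.cls_isConj hv).trans hcon).trans (D.cls_isConj hp2).symm)
        rw [← eqb.1 hp1]
        exact hp
    rw [hj0, D.val_zero, one_mul] at e2
    have hiv : i * D.val v = D.val v * i := by
      calc i * D.val v = i * (i⁻¹ * D.val v * i) := by rw [e2]
        _ = _ := by group
    have his : i * s = s * i := by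
      calc i * s = i * (i⁻¹ * s * i) := by rw [e1]
        _ = _ := by group
    obtain ⟨m, hm, rfl⟩ := D.val_surj i (cent_z_cls hP hr' hv hiv)
    have hmJ : m ∉ J := fun e => hiJ ⟨m, e, rfl⟩
    obtain ⟨q, hq, hq'⟩ := hii
    rw [← D.val_mul m m hm hm] at hq'
    rw [D.val_inj _ _ (hlt q hq) (mulN_lt hm 0 m) hq'] at hq
    have hsmj : ∀ j ∈ J, s * D.val (mulN 0 m j) = D.val (mulN 0 m j) * s := fun j hj => by
      rw [D.val_mul m j hm (hlt j hj), ← mul_assoc, ← his, mul_assoc, hsJ j hj, mul_assoc]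
    have hcase := allEls_spec hall m hm
    simp only [List.all_eq_true, Bool.or_eq_true, Bool.not_eq_true',
      inN_iff, List.any_eq_true] at hcase
    rcases hcase with ((hf | hf) | ⟨j, hj, hx⟩) | ⟨K, hK, hK'⟩
    · rw [Bool.eq_false_iff] at hf
      refine absurd ?_ hf
      simp only [Bool.and_eq_true, List.all_eq_true, inN_iff]
      exact ⟨⟨(val_cm hm hvlt).2 hiv,
        fun j hj => (val_cm hm (hlt j hj)).2 (hic _ ⟨j, hj, rfl⟩)⟩, hq⟩
    · exact absurd hf hmJ
    · obtain ⟨-, hle⟩ := easy_le hP hx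
      exact mem_of_mem_normalizer hP hs (hle (mem_centralizer_singleton_iff.2 (hsmj j hj)))
    · refine hh K hK s hs fun x hx => ?_
      rcases hK' x hx with h' | ⟨j, hj, h'⟩
      · exact hsJ x h'
      · rw [← eqb.1 h']
        exact hsmj j hj

theorem noOut_bad : NoOut D [0, 1366] := by
  have h := step_hard
  simp only [Bool.and_eq_true] at h
  obtain ⟨⟨⟨ha, hb⟩, hc⟩, hd⟩ := h
  refine noOut_step hP step_first fun K hK => ?_
  simp only [hardJ, List.mem_cons, List.not_mem_nil, or_false] at hK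
  rcases hK with rfl | rfl | rfl | rfl
  exacts [noOut_step hP ha (fun K h => absurd h List.not_mem_nil),
    noOut_step hP hb (fun K h => absurd h List.not_mem_nil),
    noOut_step hP hc (fun K h => absurd h List.not_mem_nil),
    noOut_step hP hd (fun K h => absurd h List.not_mem_nil)]

theorem bad_cent : centralizer ({D.val 1366} : Set G) ≤ nA D := by
  obtain ⟨-, -, ht, htc, -, -⟩ := bad_facts
  intro g hg
  have htA : D.val 1008 ∈ vecA D := mem_vecA.2 ⟨1008, ht, rfl⟩
  have ht1 : D.val 1008 ≠ 1 := fun e => by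
    have := D.val_eq_one (vec_lt ht) e
    omega
  have hgu := mem_centralizer_singleton_iff.1 hg
  have htu := (val_cm (D := D) (vec_lt ht) (by norm_num)).1 htc
  refine vec_move hP htA ht1 (mem_nA_of_mem (noOut_bad hP _
    ((isConj_z_of_mem hP htA ht1).trans (isConj_iff.2 ⟨g, rfl⟩)) fun j hj => ?_))
  simp only [List.mem_cons, List.not_mem_nil, or_false] at hj
  rcases hj with rfl | rfl
  · rw [D.val_zero, mul_one, one_mul]
  · have e : g * D.val 1366 * g⁻¹ = D.val 1366 := by rw [hgu, mul_inv_cancel_right]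
    rw [← e, conj_comm_iff]
    exact htu

/-- The centralisers of the involutions of the normaliser lie in it. -/
theorem cent_invol_le {x : G} (hx : orderOf x = 2) (hN : x ∈ nA D) :
    centralizer ({x} : Set G) ≤ nA D := by
  have hxx : x * x = 1 := by rw [← pow_two, ← hx, pow_orderOf_eq_one]
  obtain ⟨t, ht, ht1, htx⟩ : ∃ t ∈ vecA D, t ≠ 1 ∧ x * t = t * x := by
    have hz1 : z ≠ 1 := fun e => by
      have := D.ord
      rw [e, orderOf_one] at this
      norm_num at this
    have hbA : x * z * x⁻¹ ∈ vecA D := (mem_normalizer_iff.1 hN z).1 (z_mem_vecA D)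
    by_cases h : x * z * x⁻¹ = z
    · exact ⟨z, z_mem_vecA D, hz1, mul_inv_eq_iff_eq_mul.1 h⟩
    refine ⟨z * (x * z * x⁻¹), mul_mem (z_mem_vecA D) hbA, fun e => h ?_, ?_⟩
    · exact (inv_eq_of_mul_eq_one_right e).symm.trans D.zinv
    have hxi : x⁻¹ = x := inv_eq_of_mul_eq_one_right hxx
    rw [vecA_comm (z_mem_vecA D) hbA]
    conv_rhs => rw [← vecA_comm (z_mem_vecA D) hbA]
    rw [hxi]
    calc x * (x * z * x * z) = x * x * (z * (x * z)) := by simp only [mul_assoc]
      _ = z * (x * z) * (x * x) := by rw [hxx, one_mul, mul_one]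
      _ = _ := by simp only [mul_assoc]
  obtain ⟨h, hh, rfl⟩ := (vec_clique hP ht ht1).1
  set y := h⁻¹ * x * h with hy
  have hyz : y * z = z * y := (conj_comm_iff (g := h)).1 (by
    rw [show h * y * h⁻¹ = x by rw [hy]; group]; exact htx)
  have hyo : orderOf y = 2 := by
    rw [← hx, hy]
    simpa using (MulAut.conj h⁻¹).orderOf_eq x
  have key : centralizer ({y} : Set G) ≤ nA D := by
    obtain ⟨m, hm, hme, p, hp, hmp⟩ := D.invol_val hyo hyz
    rw [← hme]
    obtain ⟨-, -, -, -, -, -, -, hzc, hreps⟩ := vecList_facts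
    rcases hreps p hp with h' | h'
    · rw [h', hzc, List.mem_singleton] at hmp
      exact (easy_le hP (by simp [easyL, hmp])).2
    · simp only [reps, List.mem_cons, List.not_mem_nil, or_false] at h'
      rcases h' with h' | h' | h' | h' | h' | h' | h' <;> rw [h'] at hmp
      · exact (easy_le hP (by simp [easyL, hmp])).2
      · exact (easy_le hP (by simp [easyL, hmp])).2
      · exact (easy_le hP (by simp [easyL, hmp])).2
      · exact (easy_le hP (by simp [easyL, hmp])).2
      · exact cent_le_cls hP (bad_cent hP) hmp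
      · exact (easy_le hP (by simp [easyL, hmp])).2
      · exact (easy_le hP (by simp [easyL, hmp])).2
  intro g hg
  have := key (show h⁻¹ * g * h ∈ centralizer ({y} : Set G) from
    mem_centralizer_singleton_iff.2 (by
      rw [hy]
      calc h⁻¹ * g * h * (h⁻¹ * x * h) = h⁻¹ * (g * x) * h := by group
        _ = h⁻¹ * (x * g) * h := by rw [mem_centralizer_singleton_iff.1 hg]
        _ = _ := by group))
  have h3 := mul_mem (mul_mem hh this) (inv_mem hh)
  rwa [show h * (h⁻¹ * g * h) * h⁻¹ = g by group] at h3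

theorem nA_eq_top : nA D = ⊤ := by
  obtain ⟨hu2, hur, -, -, huA, -⟩ := bad_facts
  set u := D.val 1366 with hu
  have huu : u * u = 1 := by rw [hu, ← D.val_mul _ _ (by norm_num) (by norm_num), hu2, D.val_zero]
  have huz : ¬ IsConj z u := fun h => by
    have := (hP 1366 hur).1 h.symm
    simp [vecT] at this
  have huH : u ∈ nA D := val_mem_nA D (by norm_num)
  have hsub : ∀ s, IsConj z s → s ∈ nA D := by
    intro s hs
    have hss : s * s = 1 := by
      obtain ⟨g, rfl⟩ := isConj_iff.1 hs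
      rw [show g * z * g⁻¹ * (g * z * g⁻¹) = g * (z * z) * g⁻¹ by group, D.zz, mul_one,
        mul_inv_cancel]
    rcases CfsgLib.Fusion.WholeGroup.mod_dichotomy (J := (⊥ : Subgroup G)) (a := s) (b := u)
        (fun c hc => by rw [mem_bot.1 hc, mul_one, one_mul])
        (fun c hc => by rw [mem_bot.1 hc, mul_one, one_mul])
        (mem_bot.2 hss) (mem_bot.2 huu) with
      ⟨g, -, c, hc, hg⟩ | ⟨i, hi, hii, -, ⟨c1, hc1, h1⟩, c2, hc2, h2⟩
    · rw [mem_bot.1 hc, mul_one] at hg
      exact absurd (hs.trans (isConj_iff.2 ⟨g, hg⟩).symm) huz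
    · rw [mem_bot.1 hc1, mul_one] at h1
      rw [mem_bot.1 hc2, mul_one] at h2
      have hi2 : orderOf i = 2 :=
        orderOf_eq_prime (by rw [pow_two]; exact mem_bot.1 hii) fun e => hi (mem_bot.2 e)
      have hu' : orderOf u = 2 := D.val_invol (by norm_num) hu2 (by norm_num)
      have hiH : i ∈ nA D := cent_invol_le hP hu' huH
        (mem_centralizer_singleton_iff.2 (mul_inv_eq_iff_eq_mul.1 h2).symm)
      exact cent_invol_le hP hi2 hiH
        (mem_centralizer_singleton_iff.2 (mul_inv_eq_iff_eq_mul.1 h1))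
  rw [eq_top_iff]
  intro g _
  have hz1 : z ≠ 1 := fun e => by
    have := D.ord
    rw [e, orderOf_one] at this
    norm_num at this
  exact vec_move hP (z_mem_vecA D) hz1 (hsub _ (isConj_iff.2 ⟨g, rfl⟩))

end Vec

/-- P3: the vector stabiliser. -/
theorem vec_iso : StmtVec := fun _ hP N => iso_of_top N (Vec.nA_eq_top hP)

end CfsgLib.Spor.HeTri
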