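import Cfsg.Agent.Lib.Spor.HeTri.Main
import Cfsg.Agent.Lib.Spor.HeTri.Split
import Cfsg.Agent.Lib.Spor.HeTri.NormalA
import Cfsg.Agent.Lib.Spor.HeTri.Vec
import Cfsg.Agent.Lib.Spor.HeTri.L5Final
import Cfsg.Agent.Lib.Spor.HeTri.M24
import Cfsg.Agent.Lib.Spor.HeTri.HeTop
import Cfsg.Agent.Lib.Spor.HeTri.Census

/-!
# Held's trichotomy: all the pieces
-/

set_option autoImplicit false

namespace CfsgLib.Spor.HeTri

universe u

/-- All the pieces of the trichotomy. -/
theorem pieces_final : Pieces.{u} where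
  split := split
  normalA := normalA
  vec := vec_iso
  l5 := l5_iso normalA
  m24 := m24_iso
  he := HeCase.he_iso_of_census fun D hP H hc hf hu => eq_top_he D hP H hc hf hu

end CfsgLib.Spor.HeTri
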