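import Cfsg.Agent.Lib.Spor.HeRecog.Setup

/-!
# The checks inside the model that give the census

`mask` marks the elements of the model fused to `z`.  For an involution `a` free of fused elements
`Ca` lists the fused elements commuting with it; `prof` is the fingerprint of a pair of them.
-/

set_option autoImplicit false

namespace CfsgLib.Spor.HeTri.Census

open CfsgLib.Spor.HeRecog

/-- the mark of a fused element -/
def isT (mask m : Nat) : Bool := Nat.beq (Nat.land 1 (Nat.shiftRight mask m)) 1

/-- the two elements commute -/
def cmN (a b : Nat) : Bool := Nat.beq (mulN 0 a b) (mulN 0 b a)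

/-- membership -/
def mem (m : Nat) (l : List Nat) : Bool := l.any (Nat.beq m)

/-- one bit as a number -/
def bb (b : Bool) : Nat := bif b then 1 else 0

/-- the weight of three bits -/
def wt (b1 b2 b3 : Bool) : Nat := 2 ^ (8 * (4 * bb b1 + 2 * bb b2 + bb b3))

/-- the weight of four bits -/
def hd (b1 b2 b3 b4 : Bool) : Nat := 2 ^ (64 + 8 * bb b1 + 4 * bb b2 + 2 * bb b3 + bb b4)

/-- the summand of `s` -/
def term (mask p q a s : Nat) : Nat :=
  bif cmN s p && cmN s q then
    wt (isT mask (mulN 0 s p)) (isT mask (mulN 0 s q)) (isT mask (mulN 0 s a))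
  else 0

/-- the fingerprint of the pair `p`, `q` of fused elements commuting with `a` -/
def prof (mask : Nat) (Ca : List Nat) (p q a : Nat) : Nat :=
  hd (isT mask (mulN 0 p q)) (isT mask (mulN 0 p a)) (isT mask (mulN 0 q a))
      (isT mask (mulN 0 (mulN 0 p q) a)) +
    (Ca.map (term mask p q a)).sum

/-- an element, the fused elements commuting with it, the fingerprints of their pairs with `z` -/
abbrev Row : Type := Nat × List Nat × List Nat

/-- the marks are those of the fused classes `T` -/
def maskOK (mask : Nat) (T F : List Nat) (tl : List Nat) : Bool :=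
  (tl.all fun m => Nat.blt m 21504 && isT mask m) &&
    (tl.all fun m => Nat.beq m zN || T.any fun a => mem m (clsOf 0 a)) &&
    (F.all fun a => (clsOf 0 a).all fun m => !(isT mask m)) &&
    allEls (fun m => !(isT mask m) || (!(Nat.beq m 0) && Nat.beq (mulN 0 m m) 0)) &&
    ((clsL 0).all fun p => Nat.beq p.1 zN || mem p.1 T || mem p.1 F) &&
    (T.all fun a => (clsOf 0 a).all fun m => mem m tl) && mem zN tl

/-- a row is complete and correct -/
def rowOK (mask : Nat) (tl : List Nat) (r : Row) : Bool :=
  (r.2.1.all fun s => mem s tl && cmN s r.1) &&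
    (tl.all fun s => !(cmN s r.1) || mem s r.2.1) &&
    (r.2.1.all fun u => Nat.beq u zN || mem (prof mask r.2.1 zN u r.1) r.2.2) &&
    Nat.blt r.1 21504

/-- `t` is separated from `z` inside the centraliser of the element of `r` -/
def sepOK (mask : Nat) (r : Row) (t : Nat) : Bool :=
  mem t r.2.1 && !(Nat.beq t zN) && !(mem (prof mask r.2.1 t zN r.1) r.2.2)

/-- the witness of a separation inside `C(L)` -/
def witOK (mask : Nat) (rows : List Row) (L : List Nat) (t : Nat) : Bool :=
  !(isT mask t) || rows.any fun r => mem r.1 L && sepOK mask r t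

/-- A node: the elements of a subgroup of the centraliser and the second fused element. -/
abbrev Node : Type := List Nat × Nat

/-- `L` is a subgroup of the centraliser of `z` inside the model -/
def grpOK (L : List Nat) : Bool :=
  mem 0 L && (L.all fun a => Nat.blt a 21504 && mem (invN 0 a) L && L.all fun b => mem (mulN 0 a b) L)

/-- the node `n`, whose subgroup contains `root`, is good if the subgroups in `done` are -/
def nodeOK (mask : Nat) (rows : List Row) (root : Nat) (cent : List Nat) (done : List (List Nat))
    (n : Node) : Bool :=
  grpOK n.1 && mem root n.1 && isT mask n.2 && Nat.blt n.2 21504 && n.1.all (cmN n.2) &&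
    (n.1.all fun c => Nat.beq c 0 || witOK mask rows n.1 (mulN 0 zN c)) &&
    (n.1.all fun c => !(Nat.beq (mulN 0 n.2 c) zN) && witOK mask rows n.1 (mulN 0 n.2 c)) &&
    cent.all fun i => mem i n.1 || !(mem (mulN 0 i i) n.1) || !(n.1.all (cmN i)) ||
      (n.1.any fun c => isT mask (mulN 0 i c)) ||
      done.any fun K => K.all fun k => mem k n.1 || n.1.any fun c => Nat.beq k (mulN 0 i c)

/-- all nodes in their order -/
def nodesOK (mask : Nat) (rows : List Row) (root : Nat) (cent : List Nat) :
    List (List Nat) → List Node → Bool
  | _, [] => true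
  | done, n :: ns =>
    nodeOK mask rows root cent done n && nodesOK mask rows root cent (n.1 :: done) ns

/-- the list is the centraliser of `root` in the model -/
def centOK (root : Nat) (cent : List Nat) : Bool :=
  allEls fun m => !(cmN m root) || mem m cent

/-- `a` is moved to one of the classes `good` by moving `t` to `z` -/
def transOK (mask : Nat) (rows : List Row) (F good : List Nat) (a t : Nat) : Bool :=
  rows.any fun r => Nat.beq r.1 a && mem t r.2.1 && !(Nat.beq t zN) &&
    F.all fun q => mem q good || rows.any fun r' => Nat.beq r'.1 q &&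
      !(mem (prof mask r.2.1 t zN r.1) r'.2.2)

end CfsgLib.Spor.HeTri.Census
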