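import Cfsg.Agent.Lib.Fusion.WholeGroup

/-!
# Centralisers of two-subgroups inside a subgroup controlling the fusion of an involution

If `H` contains the centraliser of the involution `z` and controls its fusion, the centraliser of
a subgroup `J` of `C(z)` lies in `H` as soon as a second conjugate of `z` commuting with `J` cannot
be moved to `z` inside `C(J)` modulo `J` and the extensions of `J` inside `C(z)` are harmless.
-/

set_option autoImplicit false
set_option linter.unusedSectionVars false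

namespace CfsgLib.Spor.HeTri

open Subgroup

universe u

variable {G : Type u} [Group G] {z : G} {H : Subgroup G}

/-- An element moving a conjugate of `z` lying in `H` into `H` lies in `H`. -/
theorem mem_of_move (hcent : centralizer ({z} : Set G) ≤ H)
    (hfus : ∀ x ∈ H, IsConj z x → ∃ h ∈ H, h * z * h⁻¹ = x)
    {g x : G} (hxH : x ∈ H) (hx : IsConj z x) (h : g * x * g⁻¹ ∈ H) : g ∈ H := by
  obtain ⟨a, ha, rfl⟩ := hfus x hxH hx
  obtain ⟨b, hb, hb'⟩ := hfus _ h (hx.trans (isConj_iff.2 ⟨g, rfl⟩))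
  have hc : b⁻¹ * g * a ∈ centralizer ({z} : Set G) := by
    rw [mem_centralizer_singleton_iff]
    calc b⁻¹ * g * a * z = b⁻¹ * (g * (a * z * a⁻¹) * g⁻¹) * g * a := by group
      _ = z * (b⁻¹ * g * a) := by rw [← hb']; group
  have := mul_mem (mul_mem hb (hcent hc)) (inv_mem ha)
  rwa [show b * (b⁻¹ * g * a) * a⁻¹ = g by group] at this

/-- The centraliser of a conjugate of `z` lying in `H` lies in `H`. -/
theorem cent_conj_le (hcent : centralizer ({z} : Set G) ≤ H)
    (hfus : ∀ x ∈ H, IsConj z x → ∃ h ∈ H, h * z * h⁻¹ = x)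
    {x : G} (hxH : x ∈ H) (hx : IsConj z x) : centralizer ({x} : Set G) ≤ H := fun g hg =>
  mem_of_move hcent hfus hxH hx
    (by rw [mem_centralizer_singleton_iff.1 hg, mul_inv_cancel_right]; exact hxH)

variable [Finite G]

/-- The criterion at one subgroup `J` of the centraliser of `z`. -/
theorem node_le (hcent : centralizer ({z} : Set G) ≤ H)
    (hfus : ∀ x ∈ H, IsConj z x → ∃ h ∈ H, h * z * h⁻¹ = x) (hzz : z * z = 1)
    {J : Subgroup G} (hJz : ∀ c ∈ J, z * c = c * z) {x : G} (hxH : x ∈ H) (hx : IsConj z x)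
    (hxJ : ∀ c ∈ J, x * c = c * x)
    (hzc : ∀ c ∈ J, c ≠ 1 → ∀ g ∈ centralizer (J : Set G), g * (z * c) * g⁻¹ ≠ z)
    (hxc : ∀ c ∈ J, ∀ g ∈ centralizer (J : Set G), g * (x * c) * g⁻¹ ≠ z)
    (hkids : ∀ i, i * z = z * i → (∀ c ∈ J, i * c = c * i) → i ∉ J → i * i ∈ J →
      (∃ c ∈ J, IsConj z (i * c)) ∨
        ∀ g : G, g * i = i * g → (∀ c ∈ J, g * c = c * g) → g ∈ H) :
    centralizer (J : Set G) ≤ H := by
  intro g₀ hg₀
  have hN : ∀ g ∈ centralizer (J : Set G), ∀ c ∈ J, g * c = c * g := fun g hg c hc =>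
    (mem_centralizer_iff.1 hg c hc).symm
  have hNmk : ∀ g : G, (∀ c ∈ J, g * c = c * g) → g ∈ centralizer (J : Set G) := fun g hg =>
    mem_centralizer_iff.2 fun c hc => (hg c hc).symm
  have hzH : z ∈ H := hcent (mem_centralizer_singleton_iff.2 rfl)
  have hzN : z ∈ centralizer (J : Set G) := hNmk z hJz
  have hJH : ∀ c ∈ J, c ∈ H := fun c hc =>
    hcent (mem_centralizer_singleton_iff.2 (hJz c hc).symm)
  set y := g₀ * x * g₀⁻¹ with hy
  refine mem_of_move hcent hfus hxH hx (show y ∈ H from ?_)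
  by_contra hyH
  have hyN : y ∈ centralizer (J : Set G) := mul_mem (mul_mem hg₀ (hNmk x hxJ)) (inv_mem hg₀)
  have hxx : x * x = 1 := by
    obtain ⟨k, rfl⟩ := isConj_iff.1 hx
    rw [show k * z * k⁻¹ * (k * z * k⁻¹) = k * (z * z) * k⁻¹ by group, hzz, mul_one, mul_inv_cancel]
  have hyy : y * y = 1 := by
    rw [hy, show g₀ * x * g₀⁻¹ * (g₀ * x * g₀⁻¹) = g₀ * (x * x) * g₀⁻¹ by group, hxx, mul_one,
      mul_inv_cancel]
  rcases Fusion.WholeGroup.mod_dichotomy hJz (hN y hyN) (by rw [hzz]; exact one_mem _)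
      (by rw [hyy]; exact one_mem _) with
    ⟨k, hk, c, hc, hkc⟩ | ⟨i, hiJ, hi2, hic, ⟨c, hc, hiz⟩, ⟨d, hd, hiy⟩⟩
  · -- a conjugate of `x` in `z J`
    refine hxc c⁻¹ (inv_mem hc) (k * g₀) (mul_mem (hNmk k hk) hg₀) ?_
    have e1 : k * g₀ * c⁻¹ = c⁻¹ * (k * g₀) := hN _ (mul_mem (hNmk k hk) hg₀) _ (inv_mem hc)
    have e2 : k * g₀ * x * (k * g₀)⁻¹ = z * c := by rw [← hkc, hy]; group
    calc k * g₀ * (x * c⁻¹) * (k * g₀)⁻¹
        = k * g₀ * x * (k * g₀)⁻¹ * (k * g₀ * c⁻¹ * (k * g₀)⁻¹) := by group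
      _ = z * c * c⁻¹ := by rw [e2, e1, mul_inv_cancel_right]
      _ = z := mul_inv_cancel_right z c
  · have hiN := hNmk i hic
    have hzi : i⁻¹ * z * i = z * c := by
      have h1 : z * i = i * c * z := by rw [← hiz]; group
      rw [mul_assoc, h1, ← mul_assoc, ← mul_assoc, inv_mul_cancel, one_mul, hJz c hc]
    have hcom : i * z = z * i := by
      by_cases hc1 : c = 1
      · rw [hc1, mul_one] at hzi
        conv_lhs => rw [← hzi]
        group
      · exfalso
        refine hzc c hc hc1 i hiN ?_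
        rw [← hzi]; group
    rcases hkids i hcom hic hiJ hi2 with ⟨a, ha, hT⟩ | hJ'
    · refine hyH (mem_of_move hcent hfus
        (mul_mem (hcent (mem_centralizer_singleton_iff.2 hcom)) (hJH a ha)) hT ?_)
      rw [show y * (i * a) * y⁻¹ = y * i * y⁻¹ * (y * a * y⁻¹) by group, hiy, hN y hyN a ha,
        mul_inv_cancel_right]
      exact mul_mem (mul_mem (hcent (mem_centralizer_singleton_iff.2 hcom)) (hJH d hd)) (hJH a ha)
    · refine hyH (mem_of_move hcent hfus hzH (IsConj.refl z) (hJ' _ ?_ ?_))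
      · -- `y z y⁻¹` centralises `i`
        have e0 : y * i = i * d * y := by rw [← hiy]; group
        have e1 : y⁻¹ * i * y = i * d⁻¹ := by
          have e2 : y * (i * d⁻¹) = i * y := by
            rw [← mul_assoc, e0, mul_assoc (i * d), hN y hyN _ (inv_mem hd)]; group
          rw [mul_assoc, ← e2]; group
        have e3 : z * (i * d⁻¹) = i * d⁻¹ * z := by
          rw [← mul_assoc, ← hcom, mul_assoc, hJz _ (inv_mem hd), ← mul_assoc]
        calc y * z * y⁻¹ * i = y * (z * (y⁻¹ * i * y)) * y⁻¹ := by group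
          _ = y * (y⁻¹ * i * y * z) * y⁻¹ := by rw [e1, e3]
          _ = i * (y * z * y⁻¹) := by group
      · intro a ha
        exact hN _ (mul_mem (mul_mem hyN hzN) (inv_mem hyN)) a ha

end CfsgLib.Spor.HeTri
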