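import Mathlib.Init

/-!
Matrices of the elements of the centraliser of a transvection in five dimensions over two elements,
in the coordinates of the split untwisted model: the elements of the extraspecial group and the
lifts of the quotient, as codes with thirty-two bits each.
-/

namespace CfsgLib.Spor.HeTri

/-- the matrices of the elements of the extraspecial group -/
def qTab : Nat := 0x125185d0125185b01251857012518510125184f0125184901251845012518430125105f0125105b01251055012510510125104d0125104901251047012510430124185f0124185901241857012418510124184d0124184b01241845012418430124105d0124105901241055012410510124104f0124104b01241047012410430105185f0105185901051855010518530105184f0105184901051845010518430105105d0105105901051057010510530105104d0105104901051047010510430104185d0104185b01041855010418530104184d0104184b01041845010418430104105f0104105b01041057010410530104104f0104104b01041047010410430125185f0125185901251855012518530125184d0125184b01251847012518410125105d0125105901251057012510530125104f0125104b01251045012510410124185d0124185b01241855012418530124184f0124184901241847012418410124105f0124105b01241057012410530124104d0124104901241045012410410105185d0105185b01051857010518510105184d0105184b01051847010518410105105f0105105b01051055010510510105104f0105104b01051045010510410104185f0104185901041857010418510104184f0104184901041847010418410104105d0104105901041055010410510104104d010410490104104501041041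

/-- the matrices of the lifts of the quotient -/
def kTab : Nat := 0x106204100ce604101c8504101cc3041010a704100c440410048604100465041004e2041014e4041008830410186704100827041018240410142304100ca104101c41041010c104101845041014c2041008a6041018e504101c23041004c4041004670410188104101ca6041008c3041008e40410082504101026041014c704100ce10410144104100c460410104704101c82041004a20410186204100ca4041010650410148304100c240410044704100866041008e104100cc204100483041014670410142604101444041018430410106104101c22041010a204101ca3041018a1041004c50410088504100ce504101c86041018e4041010c704101c46041008a1041014e30410142204101c65041008c7041010e104101043041010a604100ca7041018e204100445041018850410048704100c8204100864041014c404101c24041004c304100c2604101861041004a3041014820410102704101045041004e40410146104101822041018a70410188304101c8104100c25041008a404100cc4041008c104101cc5041014e604101066041004460410086704101c4304100ce204100887041010c504101841041018a404100826041010e204100c4504100c8104100cc7041004c204101c440410148604101c66041014620410046404101023041018e3041008a3041014e1041004a704101c25041014c10410186404100ca204100c86041014430410182504101ca404101cc204101c6104100865041004a6041010c3041004e3041010e5041008e60410184704100c27041014870410102204100881041004440410146404100cc1041018a2041018230410144604100c8504101ca104101c6204101cc4041008c5041010a304100466041010e6041004e5041008e304100c470410188704101427041004820410082404101041041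

end CfsgLib.Spor.HeTri
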