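import Cfsg.Agent.Lib.Spor.HeRecog.Setup
import Cfsg.Agent.Lib.Spor.HeTri.Tables
import Cfsg.Prelude.Def_Spor_Mathieu
import Cfsg.Prelude.Def_Transfer
import Cfsg.Prelude.Def_Spor_He

/-!
# Groups with the centraliser of a transvection of SL(5, 2)

The statements proved in the other files of this folder and put together in `Main`.
-/

set_option autoImplicit false

namespace CfsgLib.Spor.HeTri

open CfsgLib.Spor.HeRecog

universe u

/-- five by five matrices over two elements -/
abbrev M5 : Type := Matrix (Fin 5) (Fin 5) (ZMod 2)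

/-- the group `SL(5, 2)` -/
abbrev SL5 : Type := Matrix.SpecialLinearGroup (Fin 5) (ZMod 2)

/-- the matrix with the code `c`: bit `5 i + j` is the entry `(i, j)` -/
def decode (c : ℕ) : M5 :=
  Matrix.of fun i j => ((c / 2 ^ (5 * (i : ℕ) + (j : ℕ)) % 2 : ℕ) : ZMod 2)

/-- the matrix of a model element in the extraspecial group -/
def qMat (q : ℕ) : M5 := decode (Nat.shiftRight qTab (32 * q) % 2 ^ 25)

/-- the matrix of the chosen lift of an element of the quotient -/
def kMat (k : ℕ) : M5 := decode (Nat.shiftRight kTab (32 * k) % 2 ^ 25)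

/-- The matrix of an element of the model: `10752` is the transvection `1 + E₀₁`, the class `168`
lies in the transvections with centre `e₀`, the class `1344` in those with axis `x₁ = 0`. -/
def mat (m : ℕ) : M5 := qMat (m / 168) * kMat (m % 168)

/-- the first basis vector, fixed by all `mat m` -/
def e0 : Fin 5 → ZMod 2 := Pi.single 0 1

/-- the vector stabiliser `2⁴.GL(4, 2)` -/
abbrev Aff : Subgroup SL5 := MulAction.stabilizer SL5 e0

/-- the representatives of the seven classes of involutions other than `z` -/
def reps : List ℕ := [21, 168, 190, 1344, 1366, 1680, 1777]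

/-- the fused classes in the vector stabiliser -/
def vecT : List ℕ := [168]

/-- the fused classes in `SL(5, 2)` -/
def l5T : List ℕ := [21, 168, 1344]

/-- the fused classes in `M₂₄` -/
def m24T : List ℕ := [21, 168, 1344, 1366]

/-- the fused classes in He -/
def heT : List ℕ := [21, 168, 190, 1344, 1366]

/-- The classes of involutions of the centraliser fused to `z` are those of `T`. -/
def Pattern {G : Type u} [Group G] {z : G} (D : Cen 0 z) (T : List ℕ) : Prop :=
  ∀ a ∈ reps, IsConj (D.val a) z ↔ a ∈ T

/-- No other conjugate of `z` commutes with `z`. -/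
def Isolated {G : Type u} [Group G] (z : G) : Prop :=
  ∀ g : G, g * z * g⁻¹ * z = z * (g * z * g⁻¹) → g * z * g⁻¹ = z

/-- An embedding of the vector stabiliser extending the model of the centraliser. -/
structure NormalA {G : Type u} [Group G] {z : G} (D : Cen 0 z) where
  ψ : ↥Aff →* G
  inj : Function.Injective ψ
  val_eq : ∀ (a : ↥Aff) (m : ℕ), m < 21504 → ((a : SL5) : M5) = mat m → ψ a = D.val m
  normal : ψ.range = Subgroup.normalizer
    ((Subgroup.closure (D.val '' {m | m = zN ∨ m ∈ clsOf 0 168}) : Subgroup G) : Set G)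

/-- P0: the matrices realise the model. -/
def StmtMat : Prop :=
  (∀ m < 21504, (mat m).det = 1 ∧ (mat m).mulVec e0 = e0 ∧
    mat m * Matrix.transvection 0 1 1 = Matrix.transvection 0 1 1 * mat m) ∧
  (∀ m < 21504, ∀ n < 21504, mat (mulN 0 m n) = mat m * mat n) ∧
  (∀ m < 21504, ∀ n < 21504, mat m = mat n → m = n) ∧
  mat zN = Matrix.transvection 0 1 1

/-- P0: the model of the centraliser. -/
def StmtCen : Prop :=
  ∀ {G : Type u} [Group G] (z : G), orderOf z = 2 →
    ∀ s : SL5, (s : M5) = Matrix.transvection 0 1 1 →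
      (Subgroup.centralizer ({z} : Set G) ≃* Subgroup.centralizer ({s} : Set SL5)) →
      Nonempty (Cen 0 z)

/-- P1: the four patterns of fusion. -/
def StmtSplit : Prop :=
  ∀ {G : Type u} [Group G] [Finite G] (z : G), Cen 0 z →
    Isolated z ∨ ∃ D : Cen 0 z,
      Pattern D vecT ∨ Pattern D l5T ∨ Pattern D m24T ∨ Pattern D heT

/-- P2: the normaliser of the elementary abelian group spanned by the class `168`. -/
def StmtNormalA : Prop :=
  ∀ {G : Type u} [Group G] [Finite G] {z : G} (D : Cen 0 z) (T : List ℕ),
    T ∈ [vecT, l5T, m24T] → Pattern D T → Nonempty (NormalA D)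

/-- P3: the vector stabiliser. -/
def StmtVec : Prop :=
  ∀ {G : Type u} [Group G] [Finite G] {z : G} (D : Cen 0 z),
    Pattern D vecT → NormalA D → Nonempty (G ≃* ↥Aff)

/-- P4: the linear group. -/
def StmtL5 : Prop :=
  ∀ {G : Type u} [Group G] [Finite G] {z : G} (D : Cen 0 z),
    Pattern D l5T → NormalA D → Nonempty (G ≃* SL5)

/-- P5: the Mathieu group. -/
def StmtM24 : Prop :=
  ∀ {G : Type u} [Group G] [Finite G] {z : G} (D : Cen 0 z),
    Pattern D m24T → NormalA D → Nonempty (G ≃* Cfsg.M24)

/-- P6: the Held group. -/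
def StmtHe : Prop :=
  ∀ {G : Type u} [Group G] [Finite G] {z : G} (D : Cen 0 z),
    Pattern D heT → Cfsg.Spor.IsoHe G

end CfsgLib.Spor.HeTri
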