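import Cfsg.Agent.Lib.Spor.HeTri.CensusCheck
import Cfsg.Agent.Lib.Spor.HeTri.CensusNode
import Cfsg.Agent.Lib.Spor.HeTri.Interface
import Cfsg.Agent.Lib.Spor.HeRecog.Swap
import Cfsg.Agent.Lib.Spor.HeRecog.ModelSig
import Cfsg.Agent.Lib.Spor.HeRecog.BasicFusion
import Cfsg.Agent.Lib.Spor.HeTri.SylowTwo

/-!
# Soundness of the checks of the census

The fingerprint of a pair of fused elements is an invariant of conjugation, so a subgroup that
passes the check of a node has its centraliser inside every subgroup controlling the fusion.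
-/

set_option autoImplicit false
set_option maxRecDepth 100000
set_option linter.unusedSectionVars false

namespace CfsgLib.Spor.HeTri.Census

open CfsgLib.Spor.HeRecog Subgroup

universe u

variable {G : Type u} [Group G] {z : G}

open Classical in
/-- the truth value of being a conjugate of `z` -/
noncomputable def fusedB (z s : G) : Bool := decide (IsConj s z)

theorem fusedB_conj (z g s : G) : fusedB z (g * s * g⁻¹) = fusedB z s := by
  classical
  unfold fusedB
  rw [decide_eq_decide]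
  exact ⟨fun h => (isConj_iff.2 ⟨g, rfl⟩ : IsConj s (g * s * g⁻¹)).trans h,
    fun h => ((isConj_iff.2 ⟨g, rfl⟩ : IsConj s (g * s * g⁻¹)).symm).trans h⟩

/-- the summand of `s` in the fingerprint -/
noncomputable def termG (z p q a s : G) : ℕ :=
  wt (fusedB z (s * p)) (fusedB z (s * q)) (fusedB z (s * a))

/-- the fingerprint in the group -/
noncomputable def profG (z p q a : G) : ℕ :=
  hd (fusedB z (p * q)) (fusedB z (p * a)) (fusedB z (q * a)) (fusedB z (p * q * a)) +
    ∑ᶠ s ∈ {s : G | IsConj s z ∧ s * a = a * s ∧ s * p = p * s ∧ s * q = q * s}, termG z p q a s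

theorem profG_conj (z g p q a : G) :
    profG z (g * p * g⁻¹) (g * q * g⁻¹) (g * a * g⁻¹) = profG z p q a := by
  classical
  have hm : ∀ x y : G, g * x * g⁻¹ * (g * y * g⁻¹) = g * (x * y) * g⁻¹ := fun x y => by group
  unfold profG
  rw [hm p q, hm p a, hm q a, hm (p * q) a, fusedB_conj, fusedB_conj, fusedB_conj, fusedB_conj]
  congr 1
  symm
  refine finsum_mem_eq_of_bijOn (fun s => g * s * g⁻¹) ⟨fun s hs => ?_, fun s _ t _ h => ?_,
    fun s hs => ⟨g⁻¹ * s * g, ?_, by simp only; group⟩⟩ fun s _ => ?_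
  · exact ⟨(isConj_iff.2 ⟨g, rfl⟩ : IsConj s (g * s * g⁻¹)).symm.trans hs.1,
      (Cen.conj_comm_iff g s a).1 hs.2.1, (Cen.conj_comm_iff g s p).1 hs.2.2.1,
      (Cen.conj_comm_iff g s q).1 hs.2.2.2⟩
  · exact mul_left_cancel (mul_right_cancel h)
  · obtain ⟨h1, h2, h3, h4⟩ := hs
    have e : g * (g⁻¹ * s * g) * g⁻¹ = s := by group
    refine ⟨(isConj_iff.2 ⟨g, e⟩ : IsConj (g⁻¹ * s * g) s).trans h1,
      (Cen.conj_comm_iff g _ a).2 ?_, (Cen.conj_comm_iff g _ p).2 ?_,
      (Cen.conj_comm_iff g _ q).2 ?_⟩ <;> rw [e] <;> assumption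
  · unfold termG
    rw [hm, hm, hm, fusedB_conj, fusedB_conj, fusedB_conj]

theorem mem_iff {m : Nat} {l : List Nat} : mem m l = true ↔ m ∈ l := by
  simp [mem, List.any_eq_true]

theorem cmN_iff {a b : Nat} : cmN a b = true ↔ mulN 0 a b = mulN 0 b a :=
  ⟨fun h => Nat.eq_of_beq_eq_true h, fun h => by rw [cmN, h]; exact Nat.beq_refl _⟩

/-- The marks are the fused elements. -/
def Marks (D : Cen 0 z) (mask : Nat) : Prop :=
  ∀ m < 21504, IsConj (D.val m) z ↔ isT mask m = true

variable (D : Cen 0 z)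

theorem fusedB_val {mask : Nat} (hM : Marks D mask) {m : Nat} (hm : m < 21504) :
    fusedB z (D.val m) = isT mask m := by
  classical
  rw [Bool.eq_iff_iff, fusedB, decide_eq_true_iff]
  exact hM m hm

theorem marks_of_check [Finite G] {mask : Nat} {T F tl : List Nat}
    (h : maskOK mask T F tl = true) (hP : Pattern D T) (hT : ∀ a ∈ T, a ∈ reps)
    (hF : ∀ a ∈ F, a ∈ reps ∧ a ∉ T) : Marks D mask := by
  simp only [maskOK, Bool.and_eq_true, List.all_eq_true, Bool.or_eq_true, mem_iff,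
    Bool.not_eq_true', List.any_eq_true] at h
  obtain ⟨⟨⟨⟨⟨⟨htl, -⟩, hfree⟩, hinv⟩, hcls⟩, hTtl⟩, hz⟩ := h
  have hinv' := allEls_spec hinv
  intro m hm
  constructor
  · intro hc
    have ho : orderOf (D.val m) = 2 := by
      obtain ⟨c, e⟩ := isConj_iff.1 hc
      have := (MulAut.conj c).orderOf_eq (D.val m)
      rw [MulAut.conj_apply, e] at this
      exact this.symm.trans D.ord
    obtain ⟨m', hm', e, p, hp, hmp⟩ := D.invol_val ho (D.val_comm m hm)
    obtain rfl := D.val_inj m' m hm' hm e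
    rcases hcls p hp with (h1 | h1) | h1
    · rw [Nat.eq_of_beq_eq_true h1, clsOf_zN 0 (by simp), List.mem_singleton] at hmp
      exact hmp ▸ (htl _ hz).2
    · exact (htl _ (hTtl _ h1 _ hmp)).2
    · obtain ⟨hr, hn⟩ := hF _ h1
      exact absurd ((hP _ hr).1 ((D.cls_isConj hmp).trans hc)) hn
  · intro hb
    have := hinv' m hm
    rw [hb, Bool.not_true, Bool.false_or, Bool.and_eq_true, Bool.not_eq_true'] at this
    rcases invol_cases (k := 0) (by norm_num) hm (Nat.eq_of_beq_eq_true this.2) with h0 | ⟨p, hp, hmp⟩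
    · exact absurd this.1 (by rw [h0]; decide)
    · rw [← D.clsOf_eq hp] at hmp
      rcases hcls p hp with (h1 | h1) | h1
      · rw [Nat.eq_of_beq_eq_true h1, clsOf_zN 0 (by simp), List.mem_singleton] at hmp
        rw [hmp, D.val_z]
      · exact (D.cls_isConj hmp).symm.trans ((hP _ (hT _ h1)).2 h1)
      · rw [hfree _ h1 _ hmp] at hb
        exact absurd hb (by simp)

/-- A complete row of fingerprints. -/
structure RowSpec (mask : Nat) (r : Row) : Prop where
  lt : r.1 < 21504
  nodup : r.2.1.Nodup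
  mem_lt : ∀ s ∈ r.2.1, s < 21504
  iff : ∀ s < 21504, s ∈ r.2.1 ↔ (IsConj (D.val s) z ∧ D.val s * D.val r.1 = D.val r.1 * D.val s)
  profs : ∀ u ∈ r.2.1, u ≠ zN → prof mask r.2.1 zN u r.1 ∈ r.2.2

theorem rowSpec_of_check [Finite G] {mask : Nat} {T F tl : List Nat}
    (h : maskOK mask T F tl = true) (hM : Marks D mask) (hP : Pattern D T)
    (hF : ∀ a ∈ F, a ∈ reps ∧ a ∉ T) {r : Row} (hr : rowOK mask tl r = true)
    (hnd : r.2.1.Nodup) : RowSpec D mask r := by
  simp only [maskOK, Bool.and_eq_true, List.all_eq_true, Bool.or_eq_true, mem_iff,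
    Bool.not_eq_true', Nat.blt_eq] at h
  obtain ⟨⟨⟨⟨⟨⟨htl, -⟩, -⟩, -⟩, hcls⟩, hTtl⟩, hz⟩ := h
  simp only [rowOK, Bool.and_eq_true, List.all_eq_true, Bool.or_eq_true, mem_iff,
    Bool.not_eq_true', Nat.blt_eq, cmN_iff] at hr
  obtain ⟨⟨⟨hsub, hall⟩, hprof⟩, hlt⟩ := hr
  refine ⟨hlt, hnd, fun s hs => (htl s (hsub s hs).1).1, fun s hs => ⟨fun hm => ?_, ?_⟩,
    fun u hu hne => (hprof u hu).resolve_left fun e => hne (Nat.eq_of_beq_eq_true e)⟩
  · exact ⟨(hM s hs).2 (htl s (hsub s hm).1).2, D.val_commute hs hlt (hsub s hm).2⟩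
  · rintro ⟨hc, hcm⟩
    have hs' : s ∈ tl := by
      have ho : orderOf (D.val s) = 2 := by
        obtain ⟨c, e⟩ := isConj_iff.1 hc
        have := (MulAut.conj c).orderOf_eq (D.val s)
        rw [MulAut.conj_apply, e] at this
        exact this.symm.trans D.ord
      obtain ⟨m', hm', e, p, hp, hmp⟩ := D.invol_val ho (D.val_comm s hs)
      obtain rfl := D.val_inj m' s hm' hs e
      rcases hcls p hp with (h1 | h1) | h1
      · rw [Nat.eq_of_beq_eq_true h1, clsOf_zN 0 (by simp), List.mem_singleton] at hmp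
        exact hmp ▸ hz
      · exact hTtl _ h1 _ hmp
      · obtain ⟨hr', hn⟩ := hF _ h1
        exact absurd ((hP _ hr').1 ((D.cls_isConj hmp).trans hc)) hn
    rcases hall s hs' with h1 | h1
    · rw [cmN_iff.2 (D.mul_val_eq hs hlt hcm)] at h1
      exact absurd h1 (by simp)
    · exact h1

theorem profG_val [Finite G] {mask : Nat} (hM : Marks D mask) {r : Row} (hr : RowSpec D mask r)
    {p q : Nat} (hp : p < 21504) (hq : q < 21504) (hz : p = zN ∨ q = zN) :
    profG z (D.val p) (D.val q) (D.val r.1) = prof mask r.2.1 p q r.1 := by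
  classical
  obtain ⟨a, Ca, P⟩ := r
  have ha : a < 21504 := hr.lt
  have hlt : ∀ s ∈ Ca, s < 21504 := hr.mem_lt
  dsimp only
  unfold profG prof
  rw [← D.val_mul p q hp hq, ← D.val_mul p a hp ha, ← D.val_mul q a hq ha,
    ← D.val_mul _ a (mulN_lt hp 0 q) ha, fusedB_val D hM (mulN_lt hp 0 q),
    fusedB_val D hM (mulN_lt hp 0 a), fusedB_val D hM (mulN_lt hq 0 a),
    fusedB_val D hM (mulN_lt (mulN_lt hp 0 q) 0 a)]
  congr 1
  have hset : {s : G | IsConj s z ∧ s * D.val a = D.val a * s ∧ s * D.val p = D.val p * s ∧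
      s * D.val q = D.val q * s} =
      (((Ca.toFinset.filter fun s => (cmN s p && cmN s q) = true).image D.val : Finset G) :
        Set G) := by
    ext s
    simp only [Set.mem_ofPred_eq, Finset.coe_image, Set.mem_image, Finset.coe_filter,
      List.mem_toFinset, Bool.and_eq_true, cmN_iff]
    constructor
    · rintro ⟨hs, hsa, hsp, hsq⟩
      have hsz : s * z = z * s := by
        rcases hz with h | h
        · rwa [h, D.val_z] at hsp
        · rwa [h, D.val_z] at hsq
      obtain ⟨m, hm, rfl⟩ := D.val_surj s hsz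
      exact ⟨m, ⟨(hr.iff m hm).2 ⟨hs, hsa⟩, D.mul_val_eq hm hp hsp, D.mul_val_eq hm hq hsq⟩, rfl⟩
    · rintro ⟨m, ⟨hm, h1, h2⟩, rfl⟩
      have := (hr.iff m (hlt m hm)).1 hm
      exact ⟨this.1, this.2, D.val_commute (hlt m hm) hp h1, D.val_commute (hlt m hm) hq h2⟩
  rw [hset, finsum_mem_coe_finset, Finset.sum_image fun x hx y hy e => D.val_inj x y
      (hlt x (List.mem_toFinset.1 (Finset.mem_filter.1 hx).1))
      (hlt y (List.mem_toFinset.1 (Finset.mem_filter.1 hy).1)) e,
    Finset.sum_filter, List.sum_toFinset _ hr.nodup]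
  refine congrArg List.sum (List.map_congr_left fun s hs => ?_)
  have hs' := hlt s hs
  rw [term]
  cases h : (cmN s p && cmN s q) with
  | false => simp
  | true =>
    rw [if_pos rfl, cond_true, termG, ← D.val_mul s p hs' hp, ← D.val_mul s q hs' hq,
      ← D.val_mul s a hs' ha, fusedB_val D hM (mulN_lt hs' 0 p), fusedB_val D hM (mulN_lt hs' 0 q),
      fusedB_val D hM (mulN_lt hs' 0 a)]

/-- A separated element cannot be moved to `z` inside the centraliser of the row's element. -/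
theorem not_moved [Finite G] {mask : Nat} (hM : Marks D mask) {r : Row} (hr : RowSpec D mask r)
    {t : Nat} (h : sepOK mask r t = true) {g : G}
    (hga : g * D.val r.1 * g⁻¹ = D.val r.1) : g * D.val t * g⁻¹ ≠ z := by
  intro hgt
  simp only [sepOK, Bool.and_eq_true, mem_iff, Bool.not_eq_true'] at h
  obtain ⟨⟨ht, htz⟩, hP⟩ := h
  have ht' := hr.mem_lt t ht
  have htT := ((hr.iff t ht').1 ht).1
  have htc : g * z * g⁻¹ * z = z * (g * z * g⁻¹) := by
    have := (Cen.conj_comm_iff g (D.val t) z).1 (D.val_comm t ht')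
    rw [hgt] at this
    exact this.symm
  obtain ⟨u, hu, hue⟩ := D.val_surj _ htc
  have hua : D.val u * D.val r.1 = D.val r.1 * D.val u := by
    have := (Cen.conj_comm_iff g z (D.val r.1)).1 (D.val_comm r.1 hr.lt).symm
    rwa [hga, ← hue] at this
  have hu' : u ∈ r.2.1 := (hr.iff u hu).2
    ⟨hue ▸ (isConj_iff.2 ⟨g, rfl⟩ : IsConj z (g * z * g⁻¹)).symm, hua⟩
  have hne : u ≠ zN := by
    intro e
    have e1 : g * z * g⁻¹ = z := by rw [← hue, e, D.val_z]
    have e2 : D.val t = z := mul_left_cancel (mul_right_cancel (hgt.trans e1.symm))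
    obtain rfl := D.val_inj t zN ht' Cen.zN_lt (e2.trans D.val_z.symm)
    rw [Nat.beq_refl] at htz
    simp at htz
  have hkey := profG_conj z g (D.val t) (D.val zN) (D.val r.1)
  have hue' : D.val u = g * D.val zN * g⁻¹ := by rw [D.val_z, hue]
  rw [hga, hgt, ← hue'] at hkey
  have k2 : profG z z (D.val u) (D.val r.1) = profG z (D.val zN) (D.val u) (D.val r.1) :=
    congrArg (fun w => profG z w (D.val u) (D.val r.1)) D.val_z.symm
  rw [k2] at hkey
  rw [show profG z (D.val zN) (D.val u) (D.val r.1) = prof mask r.2.1 zN u r.1 from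
      profG_val D hM hr Cen.zN_lt hu (Or.inl rfl),
    profG_val D hM hr ht' Cen.zN_lt (Or.inr rfl)] at hkey
  have hmem := hkey ▸ hr.profs u hu' hne
  rw [mem_iff.2 hmem] at hP
  simp at hP

end CfsgLib.Spor.HeTri.Census
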