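import Cfsg.Agent.Lib.Spor.HeTri.CensusModel

/-!
# From the checks of the census to the whole group

A subgroup that contains the centraliser of `z` and controls its fusion contains the centralisers
of the subgroups of the nodes, hence of the free involutions, hence everything.
-/

set_option autoImplicit false
set_option maxRecDepth 100000
set_option linter.unusedSectionVars false
set_option linter.style.haveILetI false

namespace CfsgLib.Spor.HeTri.Census

open CfsgLib.Spor.HeRecog Subgroup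

universe u

variable {G : Type u} [Group G] [Finite G] {z : G} (D : Cen 0 z) {H : Subgroup G}

/-- the elements with numbers in `L` form a subgroup -/
theorem exists_grp {L : List Nat} (h : grpOK L = true) :
    ∃ J : Subgroup G, ∀ g, g ∈ J ↔ ∃ m ∈ L, D.val m = g := by
  simp only [grpOK, Bool.and_eq_true, List.all_eq_true, mem_iff, Nat.blt_eq] at h
  obtain ⟨h0, hL⟩ := h
  let J : Subgroup G :=
    { carrier := {g | ∃ m ∈ L, D.val m = g}
      one_mem' := ⟨0, h0, D.val_zero⟩
      mul_mem' := by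
        rintro _ _ ⟨a, ha, rfl⟩ ⟨b, hb, rfl⟩
        exact ⟨mulN 0 a b, (hL a ha).2 b hb, D.val_mul a b (hL a ha).1.1 (hL b hb).1.1⟩
      inv_mem' := by
        rintro _ ⟨a, ha, rfl⟩
        exact ⟨invN 0 a, (hL a ha).1.2, D.val_inv (hL a ha).1.1⟩ }
  exact ⟨J, fun g => Iff.rfl⟩

/-- The subgroup with the numbers `L` has its centraliser inside `H`. -/
def Good (H : Subgroup G) (L : List Nat) : Prop :=
  ∀ g : G, (∀ m ∈ L, g * D.val m = D.val m * g) → g ∈ H

theorem node_good (hcent : centralizer ({z} : Set G) ≤ H)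
    (hfus : ∀ x ∈ H, IsConj z x → ∃ h ∈ H, h * z * h⁻¹ = x)
    {mask : Nat} (hM : Marks D mask) {rows : List Row} (hrows : ∀ r ∈ rows, RowSpec D mask r)
    {root : Nat} (hroot : root < 21504) {cent : List Nat} (hc : centOK root cent = true)
    {done : List (List Nat)} (hdone : ∀ K ∈ done, Good D H K) {n : Node}
    (h : nodeOK mask rows root cent done n = true) : Good D H n.1 := by
  obtain ⟨L, x⟩ := n
  simp only [nodeOK, Bool.and_eq_true] at h
  obtain ⟨⟨⟨⟨⟨⟨⟨hgrp, hrL⟩, hxT⟩, hxlt⟩, hxc⟩, hzw⟩, hxw⟩, hkid⟩ := h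
  have hlt : ∀ m ∈ L, m < 21504 := fun m hm => by
    simp only [grpOK, Bool.and_eq_true, List.all_eq_true, Nat.blt_eq] at hgrp
    exact (hgrp.2 m hm).1.1
  rw [Nat.blt_eq] at hxlt
  simp only [List.all_eq_true, cmN_iff] at hxc
  rw [mem_iff] at hrL
  obtain ⟨J, hJ⟩ := exists_grp D hgrp
  -- separations inside the centraliser of `J`
  have hsep : ∀ t, t < 21504 → witOK mask rows L t = true →
      ∀ g ∈ centralizer (J : Set G), g * D.val t * g⁻¹ ≠ z := by
    intro t ht hw g hg e
    have htT : isT mask t = true := (hM t ht).1 (isConj_iff.2 ⟨g, e⟩)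
    simp only [witOK, htT, Bool.not_true, Bool.false_or, List.any_eq_true, Bool.and_eq_true,
      mem_iff] at hw
    obtain ⟨r, hr, hrL', hsep⟩ := hw
    refine not_moved D hM (hrows r hr) hsep ?_ e
    rw [← mem_centralizer_iff.1 hg _ ((hJ _).2 ⟨r.1, hrL', rfl⟩), mul_inv_cancel_right]
  have hxG : IsConj z (D.val x) := ((hM x hxlt).2 hxT).symm
  have key : centralizer (J : Set G) ≤ H := by
    refine node_le hcent hfus D.zz ?_ (hcent (mem_centralizer_singleton_iff.2 (D.val_comm x hxlt)))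
      hxG ?_ ?_ ?_ ?_
    · intro c hc'
      obtain ⟨m, hm, rfl⟩ := (hJ c).1 hc'
      exact (D.val_comm m (hlt m hm)).symm
    · intro c hc'
      obtain ⟨m, hm, rfl⟩ := (hJ c).1 hc'
      exact D.val_commute hxlt (hlt m hm) (hxc m hm)
    · intro c hc' hc1
      obtain ⟨m, hm, rfl⟩ := (hJ c).1 hc'
      simp only [List.all_eq_true, Bool.or_eq_true] at hzw
      rcases hzw m hm with h0 | h0
      · rw [Nat.eq_of_beq_eq_true h0, D.val_zero] at hc1
        exact absurd rfl hc1
      · intro g hg e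
        refine hsep _ (mulN_lt Cen.zN_lt 0 m) h0 g hg ?_
        rw [D.val_mul _ _ Cen.zN_lt (hlt m hm), D.val_z]
        exact e
    · intro c hc' g hg e
      obtain ⟨m, hm, rfl⟩ := (hJ c).1 hc'
      simp only [List.all_eq_true, Bool.and_eq_true] at hxw
      refine hsep _ (mulN_lt hxlt 0 m) (hxw m hm).2 g hg ?_
      rw [D.val_mul _ _ hxlt (hlt m hm)]
      exact e
    · intro i hiz hiJ hiJ' hi2
      obtain ⟨w, hw, rfl⟩ := D.val_surj i hiz
      have hwroot : D.val w * D.val root = D.val root * D.val w := hiJ _ ((hJ _).2 ⟨root, hrL, rfl⟩)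
      have hwc : w ∈ cent := by
        have := allEls_spec hc w hw
        rw [cmN_iff.2 (D.mul_val_eq hw hroot hwroot), Bool.not_true, Bool.false_or, mem_iff] at this
        exact this
      simp only [List.all_eq_true, List.any_eq_true, Bool.or_eq_true, Bool.not_eq_true',
        mem_iff] at hkid
      rcases hkid w hwc with (((h1 | h1) | h1) | ⟨m, hm, h1⟩) | ⟨K, hK, h1⟩
      · exact absurd ((hJ _).2 ⟨w, h1, rfl⟩) hiJ'
      · obtain ⟨v, hv, hve⟩ := (hJ _).1 hi2
        rw [← D.val_mul w w hw hw] at hve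
        rw [← D.val_inj _ _ (hlt v hv) (mulN_lt hw 0 w) hve, mem_iff.2 hv] at h1
        exact absurd h1 (by simp)
      · have : L.all (cmN w) = true := List.all_eq_true.2 fun v hv =>
          cmN_iff.2 (D.mul_val_eq hw (hlt v hv) (hiJ _ ((hJ _).2 ⟨v, hv, rfl⟩)))
        rw [this] at h1
        simp at h1
      · refine Or.inl ⟨D.val m, (hJ _).2 ⟨m, hm, rfl⟩, ?_⟩
        rw [← D.val_mul w m hw (hlt m hm)]
        exact ((hM _ (mulN_lt hw 0 m)).2 h1).symm
      · refine Or.inr fun g hgw hgJ => hdone K hK g fun k hk => ?_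
        rcases h1 k hk with h2 | ⟨m, hm, h2⟩
        · exact hgJ _ ((hJ _).2 ⟨k, h2, rfl⟩)
        · rw [Nat.eq_of_beq_eq_true h2, D.val_mul w m hw (hlt m hm), ← mul_assoc, hgw, mul_assoc,
            hgJ _ ((hJ _).2 ⟨m, hm, rfl⟩), mul_assoc]
  intro g hg
  refine key (mem_centralizer_iff.2 fun c hc' => ?_)
  obtain ⟨m, hm, rfl⟩ := (hJ c).1 hc'
  exact (hg m hm).symm

theorem nodes_good (hcent : centralizer ({z} : Set G) ≤ H)
    (hfus : ∀ x ∈ H, IsConj z x → ∃ h ∈ H, h * z * h⁻¹ = x)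
    {mask : Nat} (hM : Marks D mask) {rows : List Row} (hrows : ∀ r ∈ rows, RowSpec D mask r)
    {root : Nat} (hroot : root < 21504) {cent : List Nat} (hc : centOK root cent = true) :
    ∀ (ns : List Node) (done : List (List Nat)), (∀ K ∈ done, Good D H K) →
      nodesOK mask rows root cent done ns = true → ∀ n ∈ ns, Good D H n.1
  | [], _, _, _ => fun n hn => absurd hn List.not_mem_nil
  | n :: ns, done, hdone, h => by
    rw [nodesOK, Bool.and_eq_true] at h
    have hn := node_good D hcent hfus hM hrows hroot hc hdone h.1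
    intro m hm
    rcases List.mem_cons.1 hm with rfl | hm
    · exact hn
    · refine nodes_good hcent hfus hM hrows hroot hc ns (n.1 :: done) (fun K hK => ?_) h.2 m hm
      rcases List.mem_cons.1 hK with rfl | hK
      exacts [hn, hdone K hK]

/-- the centraliser of the numbered involution lies in `H` -/
def CentIn (H : Subgroup G) (a : Nat) : Prop := centralizer ({D.val a} : Set G) ≤ H

theorem centIn_of_good {a : Nat} (h : Good D H [0, a]) : CentIn D H a := fun g hg => h g fun m hm => by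
  rcases List.mem_cons.1 hm with rfl | hm
  · rw [D.val_zero, mul_one, one_mul]
  · rw [List.mem_singleton.1 hm]
    exact mem_centralizer_singleton_iff.1 hg

/-- a class moved into a class with centraliser inside `H` -/
theorem centIn_conj {a b : G} {c : G} (hc : c ∈ H) (hb : c * a * c⁻¹ = b)
    (h : centralizer ({b} : Set G) ≤ H) : centralizer ({a} : Set G) ≤ H := by
  intro g hg
  rw [mem_centralizer_singleton_iff] at hg
  have : c * g * c⁻¹ ∈ H := h (mem_centralizer_singleton_iff.2 (by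
    rw [← hb, ← Cen.conj_comm_iff c g a]; exact hg))
  have := mul_mem (mul_mem (inv_mem hc) this) hc
  rwa [show c⁻¹ * (c * g * c⁻¹) * c = g by group] at this

theorem trans_good (hcent : centralizer ({z} : Set G) ≤ H)
    (hfus : ∀ x ∈ H, IsConj z x → ∃ h ∈ H, h * z * h⁻¹ = x)
    {mask : Nat} (hM : Marks D mask) {rows : List Row} (hrows : ∀ r ∈ rows, RowSpec D mask r)
    {F good : List Nat} {a t : Nat} (h : transOK mask rows F good a t = true)
    (ha : a < 21504) (haT : isT mask a = false) (ha2 : mulN 0 a a = 0) (ha0 : a ≠ 0)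
    (hF : ∀ p ∈ clsL 0, p.1 ∈ F ∨ ∀ m ∈ clsOf 0 p.1, isT mask m = true)
    (hgood : ∀ q ∈ good, CentIn D H q) : CentIn D H a := by
  simp only [transOK, List.any_eq_true, Bool.and_eq_true, mem_iff, Bool.not_eq_true',
    List.all_eq_true, Bool.or_eq_true] at h
  obtain ⟨r, hr, ⟨⟨hra, htr⟩, htz⟩, hq⟩ := h
  have hra' := Nat.eq_of_beq_eq_true hra
  have hR := hrows r hr
  have ht := hR.mem_lt t htr
  obtain ⟨htT, hta⟩ := (hR.iff t ht).1 htr
  rw [hra'] at hta
  obtain ⟨k, hk, hkt⟩ := hfus _ (hcent (mem_centralizer_singleton_iff.2 (D.val_comm t ht))) htT.symm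
  have hg1 : k⁻¹ * D.val t * k⁻¹⁻¹ = z := by rw [← hkt]; group
  have ho : orderOf (k⁻¹ * D.val a * k⁻¹⁻¹) = 2 :=
    ((MulAut.conj k⁻¹).orderOf_eq (D.val a)).trans (D.val_invol ha ha2 ha0)
  have hcz : k⁻¹ * D.val a * k⁻¹⁻¹ * z = z * (k⁻¹ * D.val a * k⁻¹⁻¹) := by
    have := (Cen.conj_comm_iff k⁻¹ (D.val a) (D.val t)).1 hta.symm
    rwa [hg1] at this
  obtain ⟨m, hm, hmv, p, hp, hmp⟩ := D.invol_val ho hcz
  have hmT : isT mask m = false := by
    rw [Bool.eq_false_iff]
    intro hb
    have hc' := (hM m hm).2 hb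
    rw [hmv] at hc'
    have := (hM a ha).1 ((isConj_iff.2 ⟨k⁻¹, rfl⟩ : IsConj (D.val a) _).trans hc')
    rw [haT] at this
    simp at this
  obtain ⟨n, hn, hnc, hp0, -⟩ := D.cls_conj hmp
  set g := (D.val n)⁻¹ * k⁻¹ with hg
  have hgH : g ∈ H := mul_mem (inv_mem (hcent
    (mem_centralizer_singleton_iff.2 (D.val_comm n hn)))) (inv_mem hk)
  have hgt : g * D.val t * g⁻¹ = z := by
    calc g * D.val t * g⁻¹ = (D.val n)⁻¹ * (k⁻¹ * D.val t * k⁻¹⁻¹) * D.val n := by
          rw [hg]; group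
      _ = z := by rw [hg1, mul_assoc, ← D.val_comm n hn, inv_mul_cancel_left]
  have hga : g * D.val a * g⁻¹ = D.val p.1 := by
    calc g * D.val a * g⁻¹ = (D.val n)⁻¹ * (k⁻¹ * D.val a * k⁻¹⁻¹) * D.val n := by
          rw [hg]; group
      _ = D.val p.1 := by rw [← hmv, ← hnc, D.val_cj hn hp0]; group
  refine centIn_conj hgH hga ?_
  have hpF : p.1 ∈ F := (hF p hp).resolve_right fun h => by
    rw [h m hmp] at hmT
    simp at hmT
  rcases hq p.1 hpF with hgd | ⟨r', hr', hr'a, hbad⟩
  · exact hgood _ hgd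
  · exfalso
    have hR' := hrows r' hr'
    have hr'a' := Nat.eq_of_beq_eq_true hr'a
    have htc : g * z * g⁻¹ * z = z * (g * z * g⁻¹) := by
      have := (Cen.conj_comm_iff g (D.val t) z).1 (D.val_comm t ht)
      rw [hgt] at this
      exact this.symm
    obtain ⟨u, hu, hue⟩ := D.val_surj _ htc
    have hua : D.val u * D.val r'.1 = D.val r'.1 * D.val u := by
      have := (Cen.conj_comm_iff g z (D.val a)).1 (D.val_comm a ha).symm
      rwa [hga, ← hue, ← hr'a'] at this
    have hu' : u ∈ r'.2.1 := (hR'.iff u hu).2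
      ⟨hue ▸ (isConj_iff.2 ⟨g, rfl⟩ : IsConj z (g * z * g⁻¹)).symm, hua⟩
    have hne : u ≠ zN := by
      intro e
      have e1 : g * z * g⁻¹ = z := by rw [← hue, e, D.val_z]
      have e2 : D.val t = z := mul_left_cancel (mul_right_cancel (hgt.trans e1.symm))
      obtain rfl := D.val_inj t zN ht Cen.zN_lt (e2.trans D.val_z.symm)
      rw [Nat.beq_refl] at htz
      simp at htz
    have hkey := profG_conj z g (D.val t) (D.val zN) (D.val a)
    have hue' : D.val u = g * D.val zN * g⁻¹ := by rw [D.val_z, hue]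
    rw [hga, hgt, ← hue', ← hr'a', ← hra'] at hkey
    have k2 : profG z z (D.val u) (D.val r'.1) = profG z (D.val zN) (D.val u) (D.val r'.1) :=
      congrArg (fun w => profG z w (D.val u) (D.val r'.1)) D.val_z.symm
    rw [k2, profG_val D hM hR' Cen.zN_lt hu (Or.inl rfl),
      profG_val D hM hR ht Cen.zN_lt (Or.inr rfl)] at hkey
    have hmem := hkey ▸ hR'.profs u hu' hne
    rw [mem_iff.2 hmem] at hbad
    simp at hbad

include D in
/-- an involution of `H` is conjugate in `H` to one commuting with `z` -/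
theorem exists_conj_cent (hcent : centralizer ({z} : Set G) ≤ H) {i : G} (hi : i ∈ H)
    (ho : orderOf i = 2) : ∃ c ∈ H, c * i * c⁻¹ * z = z * (c * i * c⁻¹) := by
  haveI : Fact (Nat.Prime 2) := ⟨Nat.prime_two⟩
  obtain ⟨R', hR'⟩ := Sylow.exists_subgroup_card_pow_prime 2 (n := 10)
    (G := centralizer ({z} : Set G)) (by rw [D.card_cent]; norm_num)
  set R := R'.map (centralizer ({z} : Set G)).subtype with hR
  have hcR : Nat.card R = 2 ^ 10 := by
    rw [hR, card_map_of_injective (subtype_injective _), hR']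
  have hRC : R ≤ centralizer ({z} : Set G) := by
    rintro _ ⟨g, -, rfl⟩
    exact g.2
  obtain ⟨c, hc, hle⟩ := exists_conj_le (A := zpowers i) (m := 1) (zpowers_le.2 hi)
    (hRC.trans hcent) (by rw [Nat.card_zpowers, ho, pow_one]) hcR
    (fun hd => D.not_2048 ((by norm_num : (2048 : ℕ) = 2 ^ (10 + 1)) ▸
      hd.trans (card_subgroup_dvd_card H)))
  refine ⟨c, hc, mem_centralizer_singleton_iff.1 (hRC (hle ⟨i, mem_zpowers i, ?_⟩))⟩
  simp [MulAut.conj_apply]

/-- If the free involutions of the model have their centralisers in `H`, it is the whole group. -/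
theorem eq_top_of_reps (hcent : centralizer ({z} : Set G) ≤ H)
    (hfus : ∀ x ∈ H, IsConj z x → ∃ h ∈ H, h * z * h⁻¹ = x)
    {mask : Nat} (hM : Marks D mask) {F : List Nat}
    (hF : ∀ p ∈ clsL 0, p.1 ∈ F ∨ ∀ m ∈ clsOf 0 p.1, isT mask m = true)
    (hgood : ∀ q ∈ F, CentIn D H q) {k : Nat} (hk : k ∈ F) (hklt : k < 21504)
    (hkT : isT mask k = false) (hk2 : mulN 0 k k = 0) (hk0 : k ≠ 0) : H = ⊤ := by
  refine top_le_iff.1 fun g₀ _ => ?_
  have hzH : z ∈ H := hcent (mem_centralizer_singleton_iff.2 rfl)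
  refine mem_of_move hcent hfus hzH (IsConj.refl z) (show g₀ * z * g₀⁻¹ ∈ H from ?_)
  set y := g₀ * z * g₀⁻¹ with hy
  have hyT : IsConj z y := isConj_iff.2 ⟨g₀, rfl⟩
  by_contra hyH
  have hyy : y * y = 1 := by
    rw [hy, show g₀ * z * g₀⁻¹ * (g₀ * z * g₀⁻¹) = g₀ * (z * z) * g₀⁻¹ by group, D.zz, mul_one,
      mul_inv_cancel]
  have hkk : D.val k * D.val k = 1 := by
    rw [← D.val_mul k k hklt hklt, hk2, D.val_zero]
  rcases Fusion.WholeGroup.mod_dichotomy (J := (⊥ : Subgroup G)) (a := D.val k) (b := y)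
      (fun c hc => by rw [mem_bot.1 hc, mul_one, one_mul])
      (fun c hc => by rw [mem_bot.1 hc, mul_one, one_mul]) (by rw [hkk]; exact one_mem _)
      (by rw [hyy]; exact one_mem _) with
    ⟨g, -, c, hc, hgk⟩ | ⟨i, hi1, hi2, -, ⟨c, hc, hik⟩, ⟨d, hd, hiy⟩⟩
  · rw [mem_bot.1 hc, mul_one] at hgk
    have hc' : IsConj z (D.val k) := hyT.trans (isConj_iff.2 ⟨g, hgk⟩)
    have := (hM k hklt).1 hc'.symm
    rw [hkT] at this
    simp at this
  · rw [mem_bot.1 hc, mul_one] at hik
    rw [mem_bot.1 hd, mul_one] at hiy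
    rw [mem_bot] at hi1 hi2
    have hiH : i ∈ H := hgood k hk (mem_centralizer_singleton_iff.2
      (mul_inv_eq_iff_eq_mul.1 hik).symm)
    have hyi : y ∈ centralizer ({i} : Set G) :=
      mem_centralizer_singleton_iff.2 (mul_inv_eq_iff_eq_mul.1 hiy)
    by_cases hiT : IsConj z i
    · exact hyH (cent_conj_le hcent hfus hiH hiT hyi)
    · obtain ⟨c, hc, hcz⟩ := exists_conj_cent D hcent hiH
        (orderOf_eq_prime (by rw [pow_two, hi2]) hi1)
      have ho : orderOf (c * i * c⁻¹) = 2 :=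
        ((MulAut.conj c).orderOf_eq i).trans (orderOf_eq_prime (by rw [pow_two, hi2]) hi1)
      obtain ⟨m, hm, hmv, p, hp, hmp⟩ := D.invol_val ho hcz
      have hpF : p.1 ∈ F := (hF p hp).resolve_right fun h => hiT (by
        have h' := (hM m hm).2 (h m hmp)
        rw [hmv] at h'
        exact ((isConj_iff.2 ⟨c, rfl⟩ : IsConj i (c * i * c⁻¹)).trans h').symm)
      obtain ⟨n, hn, hnc, hp0, -⟩ := D.cls_conj hmp
      refine hyH (centIn_conj (c := (D.val n)⁻¹ * c)
        (mul_mem (inv_mem (hcent (mem_centralizer_singleton_iff.2 (D.val_comm n hn)))) hc) ?_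
        (hgood _ hpF) hyi)
      calc (D.val n)⁻¹ * c * i * ((D.val n)⁻¹ * c)⁻¹
          = (D.val n)⁻¹ * (c * i * c⁻¹) * D.val n := by group
        _ = D.val p.1 := by rw [← hmv, ← hnc, D.val_cj hn hp0]; group

end CfsgLib.Spor.HeTri.Census
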