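import Cfsg.Agent.Lib.Spor.HeTri.HeTop
import Cfsg.Agent.Lib.Spor.HeTri.Census

/-!
# The Held branch of the trichotomy
-/

set_option autoImplicit false

namespace CfsgLib.Spor.HeTri

open CfsgLib.Spor.HeRecog

universe u

theorem census_he : HeCase.StmtCensusHe.{u} :=
  fun D hP H hcent hfus hu => eq_top_he D hP H hcent hfus hu

/-- **P6**: the fusion pattern of the Held group gives the Held group. -/
theorem he_iso : StmtHe.{u} := HeCase.he_iso_of_census census_he

end CfsgLib.Spor.HeTri
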