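import Cfsg.Agent.Lib.Spor.HeTri.HeOrbitData
import Cfsg.Agent.Lib.Spor.He.Rep

/-!
# The generator `e` has at least 315 conjugates in the centraliser of `a`
-/

set_option autoImplicit false
set_option maxRecDepth 100000

namespace CfsgLib.Spor.HeTri.HeCase

open CfsgLib.PresCert Cfsg.Spor

/-- the letter with a number, `b` left out -/
def letC : Nat → He.Gen
  | 0 => .a
  | 2 => .c
  | 3 => .d
  | 5 => .f
  | 6 => .g
  | _ => .e

/-- the product of the letters of a word -/
def orbEl (w : List Nat) : Cfsg.Spor.He := ((w.map letC).map CfsgLib.Spor.He.gen).prod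

/-- the word of the conjugate of `e` -/
def orbWord (w : List Nat) : List He.Gen := w.map letC ++ [.e] ++ (w.map letC).reverse

/-- the images of the points under the conjugate -/
noncomputable def orbCode (w : List Nat) : List Nat :=
  orbPts.map fun i => CfsgLib.Spor.He.Perm.data.app ((orbWord w).map CfsgLib.Spor.He.idx).reverse i

theorem orb_nodup : (orbWords.map orbCode).Nodup := by decide +kernel

theorem orb_length : orbWords.length = 315 := by decide +kernel

theorem orbPts_lt : ∀ i ∈ orbPts, i < CfsgLib.Spor.He.Perm.data.n := by decide +kernel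

theorem letC_comm : ∀ k, coxLabel He.edges .a (letC k) = 2 ∨ letC k = .a := by
  intro k
  unfold letC
  split <;> first | (left; decide) | (right; rfl)

theorem prod_reverse_eq_inv : ∀ l : List He.Gen,
    ((l.reverse).map CfsgLib.Spor.He.gen).prod = ((l.map CfsgLib.Spor.He.gen).prod)⁻¹
  | [] => by simp
  | x :: l => by
    rw [List.reverse_cons, List.map_append, List.prod_append, prod_reverse_eq_inv l]
    simp [inv_eq_of_mul_eq_one_right (CfsgLib.Spor.He.gen_sq x)]

theorem orbWord_prod (w : List Nat) : ((orbWord w).map CfsgLib.Spor.He.gen).prod =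
    orbEl w * CfsgLib.Spor.He.gen .e * (orbEl w)⁻¹ := by
  rw [orbWord, List.map_append, List.map_append, List.prod_append, List.prod_append,
    prod_reverse_eq_inv]
  simp [orbEl]

/-- different words give different conjugates -/
theorem orb_inj {i j : ℕ} (hi : i < 315) (hj : j < 315)
    (h : orbEl (orbWords.getD i []) * CfsgLib.Spor.He.gen .e * (orbEl (orbWords.getD i []))⁻¹ =
      orbEl (orbWords.getD j []) * CfsgLib.Spor.He.gen .e * (orbEl (orbWords.getD j []))⁻¹) :
    i = j := by
  rw [← orbWord_prod, ← orbWord_prod] at h
  have hcode : orbCode (orbWords.getD i []) = orbCode (orbWords.getD j []) := by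
    refine List.map_congr_left fun p hp => ?_
    have e1 := CfsgLib.Spor.He.π_word (orbWord (orbWords.getD i [])) ⟨p, orbPts_lt p hp⟩
    have e2 := CfsgLib.Spor.He.π_word (orbWord (orbWords.getD j [])) ⟨p, orbPts_lt p hp⟩
    rw [h] at e1
    exact e1.symm.trans e2
  have hi' : i < orbWords.length := by rw [orb_length]; exact hi
  have hj' : j < orbWords.length := by rw [orb_length]; exact hj
  rw [List.getD_eq_getElem _ _ hi', List.getD_eq_getElem _ _ hj'] at hcode
  exact (List.Nodup.getElem_inj_iff orb_nodup (hi := by simpa using hi')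
    (hj := by simpa using hj')).1 (by simpa using hcode)

end CfsgLib.Spor.HeTri.HeCase
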