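import Mathlib.Init

/-!
# Words for the conjugates of `e` in the centraliser of `a`
-/

set_option autoImplicit false

namespace CfsgLib.Spor.HeTri.HeCase

/-- words in the letters other than `b` -/
def orbWords : List (List Nat) :=
  [
    [], [3], [2, 3], [4, 3], [5, 3], [6, 3],
    [3, 2, 3], [4, 2, 3], [5, 2, 3], [6, 2, 3], [5, 4, 3], [6, 4, 3],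
    [6, 5, 3], [5, 6, 3], [2, 3, 2, 3], [4, 3, 2, 3], [5, 3, 2, 3], [6, 3, 2, 3],
    [3, 4, 2, 3], [5, 4, 2, 3], [6, 4, 2, 3], [3, 5, 2, 3], [6, 5, 2, 3], [3, 6, 2, 3],
    [5, 6, 2, 3], [3, 5, 4, 3], [3, 6, 4, 3], [3, 6, 5, 3], [3, 5, 6, 3], [4, 2, 3, 2, 3],
    [5, 2, 3, 2, 3], [6, 2, 3, 2, 3], [3, 4, 3, 2, 3], [5, 4, 3, 2, 3], [6, 4, 3, 2, 3], [3, 5, 3, 2, 3],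
    [6, 5, 3, 2, 3], [3, 6, 3, 2, 3], [5, 6, 3, 2, 3], [2, 3, 4, 2, 3], [5, 3, 4, 2, 3], [6, 3, 4, 2, 3],
    [3, 5, 4, 2, 3], [3, 6, 4, 2, 3], [2, 3, 5, 2, 3], [4, 3, 5, 2, 3], [6, 3, 5, 2, 3], [3, 6, 5, 2, 3],
    [2, 3, 6, 2, 3], [4, 3, 6, 2, 3], [5, 3, 6, 2, 3], [3, 5, 6, 2, 3], [6, 3, 5, 4, 3], [5, 3, 6, 4, 3],
    [2, 3, 6, 5, 3], [4, 3, 6, 5, 3], [5, 3, 6, 5, 3], [2, 3, 5, 6, 3], [4, 3, 5, 6, 3], [6, 3, 5, 6, 3],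
    [3, 4, 2, 3, 2, 3], [5, 4, 2, 3, 2, 3], [6, 4, 2, 3, 2, 3], [3, 5, 2, 3, 2, 3], [6, 5, 2, 3, 2, 3], [3, 6, 2, 3, 2, 3],
    [5, 6, 2, 3, 2, 3], [2, 3, 4, 3, 2, 3], [5, 3, 4, 3, 2, 3], [6, 3, 4, 3, 2, 3], [3, 5, 4, 3, 2, 3], [3, 6, 4, 3, 2, 3],
    [2, 3, 5, 3, 2, 3], [4, 3, 5, 3, 2, 3], [6, 3, 5, 3, 2, 3], [3, 6, 5, 3, 2, 3], [2, 3, 6, 3, 2, 3], [4, 3, 6, 3, 2, 3],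
    [5, 3, 6, 3, 2, 3], [3, 5, 6, 3, 2, 3], [3, 2, 3, 4, 2, 3], [5, 2, 3, 4, 2, 3], [6, 2, 3, 4, 2, 3], [3, 5, 3, 4, 2, 3],
    [6, 5, 3, 4, 2, 3], [3, 6, 3, 4, 2, 3], [5, 6, 3, 4, 2, 3], [2, 3, 5, 4, 2, 3], [4, 3, 5, 4, 2, 3], [6, 3, 5, 4, 2, 3],
    [2, 3, 6, 4, 2, 3], [4, 3, 6, 4, 2, 3], [5, 3, 6, 4, 2, 3], [3, 2, 3, 5, 2, 3], [4, 2, 3, 5, 2, 3], [6, 2, 3, 5, 2, 3],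
    [6, 4, 3, 5, 2, 3], [3, 6, 3, 5, 2, 3], [5, 6, 3, 5, 2, 3], [2, 3, 6, 5, 2, 3], [4, 3, 6, 5, 2, 3], [5, 3, 6, 5, 2, 3],
    [3, 2, 3, 6, 2, 3], [4, 2, 3, 6, 2, 3], [5, 2, 3, 6, 2, 3], [5, 4, 3, 6, 2, 3], [3, 5, 3, 6, 2, 3], [6, 5, 3, 6, 2, 3],
    [2, 3, 5, 6, 2, 3], [4, 3, 5, 6, 2, 3], [6, 3, 5, 6, 2, 3], [3, 2, 3, 6, 5, 3], [4, 2, 3, 6, 5, 3], [5, 2, 3, 6, 5, 3],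
    [5, 4, 3, 6, 5, 3], [3, 2, 3, 5, 6, 3], [4, 2, 3, 5, 6, 3], [6, 2, 3, 5, 6, 3], [6, 4, 3, 5, 6, 3], [6, 3, 5, 2, 3, 2, 3],
    [3, 6, 5, 2, 3, 2, 3], [5, 3, 6, 2, 3, 2, 3], [3, 5, 6, 2, 3, 2, 3], [5, 2, 3, 4, 3, 2, 3], [6, 2, 3, 4, 3, 2, 3], [3, 5, 3, 4, 3, 2, 3],
    [3, 6, 3, 4, 3, 2, 3], [2, 3, 5, 4, 3, 2, 3], [4, 3, 5, 4, 3, 2, 3], [6, 3, 5, 4, 3, 2, 3], [2, 3, 6, 4, 3, 2, 3], [4, 3, 6, 4, 3, 2, 3],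
    [5, 3, 6, 4, 3, 2, 3], [4, 2, 3, 5, 3, 2, 3], [6, 2, 3, 5, 3, 2, 3], [3, 6, 3, 5, 3, 2, 3], [2, 3, 6, 5, 3, 2, 3], [4, 3, 6, 5, 3, 2, 3],
    [5, 3, 6, 5, 3, 2, 3], [4, 2, 3, 6, 3, 2, 3], [5, 2, 3, 6, 3, 2, 3], [3, 5, 3, 6, 3, 2, 3], [2, 3, 5, 6, 3, 2, 3], [4, 3, 5, 6, 3, 2, 3],
    [6, 3, 5, 6, 3, 2, 3], [6, 5, 2, 3, 4, 2, 3], [5, 6, 2, 3, 4, 2, 3], [2, 3, 5, 3, 4, 2, 3], [4, 3, 5, 3, 4, 2, 3], [6, 3, 5, 3, 4, 2, 3],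
    [3, 6, 5, 3, 4, 2, 3], [2, 3, 6, 3, 4, 2, 3], [4, 3, 6, 3, 4, 2, 3], [5, 3, 6, 3, 4, 2, 3], [3, 5, 6, 3, 4, 2, 3], [4, 2, 3, 5, 4, 2, 3],
    [6, 2, 3, 5, 4, 2, 3], [6, 4, 3, 5, 4, 2, 3], [5, 6, 3, 5, 4, 2, 3], [4, 2, 3, 6, 4, 2, 3], [5, 2, 3, 6, 4, 2, 3], [5, 4, 3, 6, 4, 2, 3],
    [6, 5, 3, 6, 4, 2, 3], [6, 3, 2, 3, 5, 2, 3], [6, 4, 2, 3, 5, 2, 3], [3, 6, 2, 3, 5, 2, 3], [5, 6, 2, 3, 5, 2, 3], [3, 6, 4, 3, 5, 2, 3],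
    [2, 3, 6, 3, 5, 2, 3], [4, 3, 6, 3, 5, 2, 3], [5, 3, 6, 3, 5, 2, 3], [3, 5, 6, 3, 5, 2, 3], [3, 2, 3, 6, 5, 2, 3], [4, 2, 3, 6, 5, 2, 3],
    [5, 4, 3, 6, 5, 2, 3], [5, 3, 2, 3, 6, 2, 3], [5, 4, 2, 3, 6, 2, 3], [3, 5, 2, 3, 6, 2, 3], [6, 5, 2, 3, 6, 2, 3], [3, 5, 4, 3, 6, 2, 3],
    [3, 6, 5, 3, 6, 2, 3], [3, 2, 3, 5, 6, 2, 3], [6, 4, 3, 5, 6, 2, 3], [4, 3, 2, 3, 6, 5, 3], [6, 3, 2, 3, 6, 5, 3], [5, 4, 2, 3, 6, 5, 3],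
    [3, 5, 2, 3, 6, 5, 3], [4, 3, 2, 3, 5, 6, 3], [5, 3, 2, 3, 5, 6, 3], [6, 4, 2, 3, 5, 6, 3], [3, 6, 2, 3, 5, 6, 3], [3, 6, 3, 5, 2, 3, 2, 3],
    [2, 3, 6, 5, 2, 3, 2, 3], [4, 3, 6, 5, 2, 3, 2, 3], [3, 5, 3, 6, 2, 3, 2, 3], [2, 3, 5, 6, 2, 3, 2, 3], [4, 3, 5, 6, 2, 3, 2, 3], [3, 5, 2, 3, 4, 3, 2, 3],
    [3, 6, 2, 3, 4, 3, 2, 3], [2, 3, 5, 3, 4, 3, 2, 3], [4, 3, 5, 3, 4, 3, 2, 3], [6, 3, 5, 3, 4, 3, 2, 3], [2, 3, 6, 3, 4, 3, 2, 3], [4, 3, 6, 3, 4, 3, 2, 3],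
    [5, 3, 6, 3, 4, 3, 2, 3], [3, 2, 3, 5, 4, 3, 2, 3], [4, 2, 3, 5, 4, 3, 2, 3], [6, 2, 3, 5, 4, 3, 2, 3], [6, 4, 3, 5, 4, 3, 2, 3], [5, 6, 3, 5, 4, 3, 2, 3],
    [3, 2, 3, 6, 4, 3, 2, 3], [4, 2, 3, 6, 4, 3, 2, 3], [5, 2, 3, 6, 4, 3, 2, 3], [5, 4, 3, 6, 4, 3, 2, 3], [6, 5, 3, 6, 4, 3, 2, 3], [3, 4, 2, 3, 5, 3, 2, 3],
    [4, 3, 6, 3, 5, 3, 2, 3], [3, 2, 3, 6, 5, 3, 2, 3], [4, 2, 3, 6, 5, 3, 2, 3], [5, 2, 3, 6, 5, 3, 2, 3], [5, 4, 3, 6, 5, 3, 2, 3], [6, 5, 3, 6, 5, 3, 2, 3],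
    [3, 4, 2, 3, 6, 3, 2, 3], [4, 3, 5, 3, 6, 3, 2, 3], [3, 2, 3, 5, 6, 3, 2, 3], [3, 6, 5, 2, 3, 4, 2, 3], [3, 5, 6, 2, 3, 4, 2, 3], [3, 2, 3, 5, 3, 4, 2, 3],
    [3, 6, 3, 5, 3, 4, 2, 3], [2, 3, 6, 5, 3, 4, 2, 3], [4, 3, 6, 5, 3, 4, 2, 3], [5, 3, 6, 5, 3, 4, 2, 3], [3, 2, 3, 6, 3, 4, 2, 3], [3, 5, 3, 6, 3, 4, 2, 3],
    [2, 3, 5, 6, 3, 4, 2, 3], [4, 3, 5, 6, 3, 4, 2, 3], [6, 3, 5, 6, 3, 4, 2, 3], [3, 4, 2, 3, 5, 4, 2, 3], [6, 4, 2, 3, 5, 4, 2, 3], [3, 6, 2, 3, 5, 4, 2, 3],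
    [3, 6, 4, 3, 5, 4, 2, 3], [3, 5, 6, 3, 5, 4, 2, 3], [3, 4, 2, 3, 6, 4, 2, 3], [5, 4, 2, 3, 6, 4, 2, 3], [3, 5, 2, 3, 6, 4, 2, 3], [3, 5, 4, 3, 6, 4, 2, 3],
    [3, 6, 5, 3, 6, 4, 2, 3], [3, 6, 3, 2, 3, 5, 2, 3], [4, 3, 6, 2, 3, 5, 2, 3], [4, 3, 6, 4, 3, 5, 2, 3], [3, 2, 3, 6, 3, 5, 2, 3], [3, 5, 3, 6, 3, 5, 2, 3],
    [2, 3, 5, 6, 3, 5, 2, 3], [4, 3, 5, 6, 3, 5, 2, 3], [6, 3, 5, 6, 3, 5, 2, 3], [4, 3, 2, 3, 6, 5, 2, 3], [6, 3, 2, 3, 6, 5, 2, 3], [3, 4, 2, 3, 6, 5, 2, 3],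
    [3, 5, 4, 3, 6, 5, 2, 3], [3, 5, 3, 2, 3, 6, 2, 3], [4, 3, 5, 2, 3, 6, 2, 3], [2, 3, 6, 5, 3, 6, 2, 3], [4, 3, 6, 5, 3, 6, 2, 3], [5, 3, 6, 5, 3, 6, 2, 3],
    [4, 3, 2, 3, 5, 6, 2, 3], [5, 3, 2, 3, 5, 6, 2, 3], [3, 6, 4, 3, 5, 6, 2, 3], [3, 5, 4, 2, 3, 6, 5, 3], [2, 3, 5, 2, 3, 6, 5, 3], [4, 3, 5, 2, 3, 6, 5, 3],
    [3, 6, 4, 2, 3, 5, 6, 3], [2, 3, 6, 2, 3, 5, 6, 3], [4, 3, 6, 2, 3, 5, 6, 3], [4, 3, 6, 3, 5, 2, 3, 2, 3], [4, 2, 3, 6, 5, 2, 3, 2, 3], [4, 3, 5, 3, 6, 2, 3, 2, 3],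
    [4, 2, 3, 5, 6, 2, 3, 2, 3], [6, 3, 5, 2, 3, 4, 3, 2, 3], [5, 3, 6, 2, 3, 4, 3, 2, 3], [6, 4, 2, 3, 5, 4, 3, 2, 3], [3, 5, 6, 3, 5, 4, 3, 2, 3], [5, 4, 2, 3, 6, 4, 3, 2, 3],
    [3, 6, 5, 3, 6, 4, 3, 2, 3], [4, 3, 2, 3, 6, 5, 3, 2, 3], [5, 3, 2, 3, 6, 5, 3, 2, 3], [3, 4, 2, 3, 6, 5, 3, 2, 3], [3, 5, 2, 3, 6, 5, 3, 2, 3], [3, 5, 4, 3, 6, 5, 3, 2, 3],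
    [3, 6, 5, 3, 6, 5, 3, 2, 3], [4, 3, 2, 3, 5, 6, 3, 2, 3], [6, 3, 2, 3, 5, 6, 3, 2, 3], [2, 3, 6, 5, 2, 3, 4, 2, 3], [4, 3, 6, 5, 2, 3, 4, 2, 3], [5, 3, 6, 5, 2, 3, 4, 2, 3],
    [2, 3, 5, 6, 2, 3, 4, 2, 3], [4, 3, 5, 6, 2, 3, 4, 2, 3], [6, 3, 5, 6, 2, 3, 4, 2, 3], [2, 3, 6, 3, 5, 3, 4, 2, 3], [4, 3, 6, 3, 5, 3, 4, 2, 3], [5, 3, 6, 3, 5, 3, 4, 2, 3],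
    [3, 2, 3, 6, 5, 3, 4, 2, 3], [4, 2, 3, 6, 5, 3, 4, 2, 3], [5, 4, 3, 6, 5, 3, 4, 2, 3], [3, 2, 3, 5, 6, 3, 4, 2, 3], [6, 4, 3, 5, 6, 3, 4, 2, 3], [5, 3, 6, 4, 3, 5, 4, 2, 3],
    [4, 3, 5, 6, 3, 5, 4, 2, 3], [6, 3, 5, 4, 3, 6, 4, 2, 3], [4, 3, 6, 5, 3, 6, 4, 2, 3], [6, 3, 5, 3, 6, 3, 5, 2, 3], [5, 6, 3, 2, 3, 6, 5, 2, 3], [5, 3, 4, 2, 3, 6, 5, 2, 3],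
    [6, 5, 3, 2, 3, 5, 6, 2, 3], [4, 3, 5, 4, 2, 3, 6, 5, 3], [4, 3, 6, 4, 2, 3, 5, 6, 3]]

/-- points separating the conjugates -/
def orbPts : List Nat := [8, 152]

end CfsgLib.Spor.HeTri.HeCase
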