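import Cfsg.Agent.Lib.Spor.HeTri.HeGens
import Cfsg.Agent.Lib.Spor.He.Simple
import Cfsg.Agent.Lib.Spor.HeInvol.Centralizer
import Cfsg.Agent.Lib.Spor.HeRecog.BasicFusion
import Cfsg.Agent.Lib.Spor.HeTri.FusRange

/-!
# The range of the embedding of the Held group

It contains the centraliser of `z` and controls the fusion of the conjugates of `z`.
-/

set_option autoImplicit false
set_option maxRecDepth 100000
set_option linter.unusedSectionVars false
set_option linter.style.haveILetI false

namespace CfsgLib.Spor.HeTri.HeCase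

open CfsgLib.Spor.HeRecog Cfsg.Spor

universe u

/-- the centraliser of the generator `e` in the Held group -/
theorem card_cent_e :
    21504 ≤ Nat.card (Subgroup.centralizer ({CfsgLib.Spor.HeInvol.z} : Set Cfsg.Spor.He)) := by
  have hb := CfsgLib.Spor.He.card_all_le
  haveI := HeInvol.finite_of_bound hb
  have hle : HeInvol.joint ≤ (Subgroup.centralizer ({HeInvol.z} : Set Cfsg.Spor.He)).prod ⊤ := by
    rw [HeInvol.joint, Subgroup.closure_le]
    rintro _ ⟨i, rfl⟩
    exact ⟨HeInvol.xGen_mem hb i, Subgroup.mem_top _⟩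
  refine HeInvol.le_card_snd.trans ?_
  have : Finite HeInvol.joint :=
    Finite.of_injective _ (HeInvol.fst_injective hb)
  have h1 : Nat.card (HeInvol.joint.map (MonoidHom.snd Cfsg.Spor.He _)) ≤ Nat.card HeInvol.joint :=
    Nat.card_le_card_of_surjective (fun p => (⟨p.1.2, ⟨p.1, p.2, rfl⟩⟩ :
      HeInvol.joint.map (MonoidHom.snd Cfsg.Spor.He _))) (by
        rintro ⟨_, ⟨p, hp, rfl⟩⟩
        exact ⟨⟨p, hp⟩, rfl⟩)
  refine h1.trans (Nat.card_le_card_of_injective (fun p => ⟨p.1.1, (hle p.2).1⟩) fun a b h =>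
    HeInvol.fst_injective hb (congrArg Subtype.val h))

/-- the classes checked in the fusion inside the range -/
theorem range_cls : (clsOf 0 168).any (Nat.beq 672) = true ∧
    (clsOf 0 1344).any (Nat.beq 5376) = true ∧
    (clsOf 0 21).any (Nat.beq (mulN 0 1777 1680)) = true ∧
    (clsOf 0 21).any (Nat.beq (mulN 0 zN 2971)) = true ∧
    (clsOf 0 190).any (Nat.beq (mulN 0 672 2971)) = true ∧
    (clsOf 0 1366).any (Nat.beq (mulN 0 5376 2971)) = true ∧
    genNum .f = 672 ∧ genNum .g = 5376 := by decide +kernel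

theorem pattern_of_fusT {G : Type u} [Group G] {z : G} {D : Cen 0 z} (h : FusT D) :
    Pattern D heT := by
  intro a ha
  simp only [reps, List.mem_cons, List.not_mem_nil, or_false] at ha
  rcases ha with rfl | rfl | rfl | rfl | rfl | rfl | rfl
  exacts [iff_of_true h.t21 (by decide), iff_of_true h.t168 (by decide),
    iff_of_true h.t190 (by decide), iff_of_true h.t1344 (by decide),
    iff_of_true h.t1366 (by decide), iff_of_false h.u1680 (by decide),
    iff_of_false h.u1777 (by decide)]

theorem braid_conj {K : Type*} [Group K] {x y : K} (hx : x * x = 1) (hy : y * y = 1)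
    (h : (x * y) ^ 3 = 1) : x * y * x * (x * y)⁻¹ = y := by
  have e : x * y * x = y * x * y := by
    have h' : x * y * x * (y * x * y) = 1 := by
      rw [← h]; simp [pow_succ, mul_assoc]
    rw [eq_inv_of_mul_eq_one_left h', mul_inv_rev, mul_inv_rev,
      inv_eq_of_mul_eq_one_right hx, inv_eq_of_mul_eq_one_right hy, mul_assoc]
  rw [e, mul_inv_rev, inv_eq_of_mul_eq_one_right hx, inv_eq_of_mul_eq_one_right hy,
    show y * x * y * (y * x) = y * x * (y * y) * x by simp [mul_assoc], hy, mul_one, mul_assoc, hx,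
    mul_one]

section

variable {G : Type u} [Group G] [Finite G] {z : G} {D : Cen 0 z} (E : HeGens D)
include E

theorem φ_e : E.φ HeInvol.z = z := by
  have h := E.φ_gen .e (by decide)
  rw [show genNum He.Gen.e = zN from rfl, D.val_z] at h
  exact h

/-- the centraliser of `z` lies in the range -/
theorem cent_le_range : Subgroup.centralizer ({z} : Set G) ≤ E.φ.range := by
  have hle : (Subgroup.centralizer ({HeInvol.z} : Set Cfsg.Spor.He)).map E.φ ≤
      Subgroup.centralizer ({z} : Set G) := by
    rintro _ ⟨x, hx, rfl⟩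
    refine Subgroup.mem_centralizer_singleton_iff.2 ?_
    calc E.φ x * z = E.φ (x * HeInvol.z) := by rw [map_mul, φ_e E]
      _ = E.φ (HeInvol.z * x) := by rw [Subgroup.mem_centralizer_singleton_iff.1 hx]
      _ = z * E.φ x := by rw [map_mul, φ_e E]
  have h := Subgroup.eq_of_le_of_card_ge hle (by
    rw [Subgroup.card_map_of_injective E.inj, D.card_cent]; exact card_cent_e)
  intro g hg
  rw [← h] at hg
  obtain ⟨x, -, rfl⟩ := hg
  exact ⟨x, rfl⟩

theorem val_mem_range {m : ℕ} (hm : m < 21504) : D.val m ∈ E.φ.range :=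
  cent_le_range E (Subgroup.mem_centralizer_singleton_iff.2 (D.val_comm m hm))

/-- conjugate to `z` in the range -/
def InT (x : G) : Prop := ∃ h ∈ E.φ.range, h * z * h⁻¹ = x

theorem inT_conj {x h : G} (hx : InT E x) (hh : h ∈ E.φ.range) : InT E (h * x * h⁻¹) := by
  obtain ⟨c, hc, rfl⟩ := hx
  exact ⟨h * c, mul_mem hh hc, by group⟩

/-- membership of a class is decided by one member -/
theorem inT_cls {a m : ℕ} (hm : (clsOf 0 a).any (Nat.beq m) = true) :
    InT E (D.val m) ↔ InT E (D.val a) := by
  obtain ⟨c, hc, e⟩ := List.any_eq_true.1 hm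
  rw [← Nat.eq_of_beq_eq_true e] at hc
  obtain ⟨n, hn, hcj, ha, -⟩ := D.cls_conj hc
  rw [← hcj, D.val_cj hn ha]
  refine ⟨fun h => ?_, fun h => inT_conj E h (val_mem_range E hn)⟩
  have := inT_conj E h (inv_mem (val_mem_range E hn))
  rwa [show (D.val n)⁻¹ * (D.val n * D.val a * (D.val n)⁻¹) * (D.val n)⁻¹⁻¹ = D.val a by group]
    at this

/-- the classes fused in the Held group are fused in the range -/
theorem inT_reps : ∀ a ∈ [21, 168, 190, 1344, 1366], InT E (D.val a) := by
  obtain ⟨c1, c2, c3, c4, c5, c6, n6, n7⟩ := range_cls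
  let p : He.Gen → G := fun x => E.φ (CfsgLib.Spor.He.gen x)
  have hp : ∀ x : He.Gen, x ≠ .d → p x = D.val (genNum x) := E.φ_gen
  have pm : ∀ x, p x ∈ E.φ.range := fun x => ⟨_, rfl⟩
  have psq : ∀ x, p x * p x = 1 := fun x => by
    show E.φ _ * E.φ _ = 1
    rw [← map_mul, CfsgLib.Spor.He.gen_sq, map_one]
  have pcox : ∀ x y : He.Gen, (p x * p y) ^ coxLabel He.edges x y = 1 := fun x y => by
    show (E.φ _ * E.φ _) ^ _ = 1
    rw [← map_mul, ← map_pow, CfsgLib.Spor.He.cox, map_one]
  have pz : p .e = z := φ_e E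
  have p3 : ∀ x y : He.Gen, coxLabel He.edges x y = 3 → p x * p y * p x * (p x * p y)⁻¹ = p y :=
    fun x y h => braid_conj (psq x) (psq y) (h ▸ pcox x y)
  have pcomm : ∀ x y : He.Gen, coxLabel He.edges x y = 2 → p x * p y = p y * p x := fun x y h => by
    have h2 := pcox x y
    rw [h, pow_two] at h2
    rw [eq_inv_of_mul_eq_one_left h2, mul_inv_rev, inv_eq_of_mul_eq_one_right (psq x),
      inv_eq_of_mul_eq_one_right (psq y)]
  have hzT : InT E z := ⟨1, one_mem _, by simp⟩
  have hd : InT E (p .d) := by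
    refine ⟨p .e * p .d, mul_mem (pm _) (pm _), ?_⟩
    conv_lhs => arg 1; arg 2; rw [← pz]
    exact p3 .e .d (by decide)
  -- `e` is moved to `f` and `g` by elements commuting with `b`
  have hmove : ∀ y : He.Gen, coxLabel He.edges .d y = 3 → coxLabel He.edges y .b = 2 →
      ∃ h ∈ E.φ.range, h * z * h⁻¹ = p y ∧ h * p .b = p .b * h := by
    intro y h3 hyb
    refine ⟨p .d * p y * (p .e * p .d), mul_mem (mul_mem (pm _) (pm _)) (mul_mem (pm _) (pm _)),
      ?_, ?_⟩
    · calc p .d * p y * (p .e * p .d) * z * (p .d * p y * (p .e * p .d))⁻¹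
          = p .d * p y * (p .e * p .d * p .e * (p .e * p .d)⁻¹) * (p .d * p y)⁻¹ := by
            rw [pz]; group
        _ = p y := by rw [p3 .e .d (by decide), p3 .d y h3]
    · have c1 : Commute (p .d) (p .b) := pcomm .d .b (by decide)
      have c2 : Commute (p y) (p .b) := pcomm y .b hyb
      have c3 : Commute (p .e) (p .b) := pcomm .e .b (by decide)
      exact ((c1.mul_left c2).mul_left (c3.mul_left c1)).eq
  obtain ⟨hf, hfm, hfz, hfb⟩ := hmove .f (by decide) (by decide)
  obtain ⟨hg, hgm, hgz, hgb⟩ := hmove .g (by decide) (by decide)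
  have eb : p .b = D.val 2971 := hp .b (by decide)
  have ef : p .f = D.val 672 := (hp .f (by decide)).trans (by rw [n6])
  have eg : p .g = D.val 5376 := (hp .g (by decide)).trans (by rw [n7])
  have t168 : InT E (D.val 168) := (inT_cls E c1).1 (ef ▸ ⟨hf, hfm, hfz⟩)
  have t1344 : InT E (D.val 1344) := (inT_cls E c2).1 (eg ▸ ⟨hg, hgm, hgz⟩)
  -- `c a` is a reflection of the dihedral group of `c` and `d`
  have hk : InT E (p .c * p .a) := by
    have ha : p .a = (p .c * p .d) ^ 5 := by
      have h := CfsgLib.Spor.He.word_one [.a, .d, .c, .d, .c, .d, .c, .d, .c, .d, .c] (by decide)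
      have h' := congrArg E.φ h
      simp only [List.map_cons, List.map_nil, List.prod_cons, List.prod_nil, map_mul,
        mul_one, map_one] at h'
      have h'' : p .a = (p .d * (p .c * (p .d * (p .c * (p .d * (p .c * (p .d *
          (p .c * (p .d * p .c)))))))))⁻¹ := eq_inv_of_mul_eq_one_left h'
      rw [h'']
      simp only [mul_inv_rev, inv_eq_of_mul_eq_one_right (psq _), pow_succ, pow_zero, one_mul,
        mul_assoc]
    have h := inT_conj E (h := p .d * p .c * p .d * p .c) hd
      (mul_mem (mul_mem (mul_mem (pm _) (pm _)) (pm _)) (pm _))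
    have hcc : ∀ w, p .c * (p .c * w) = w := fun w => by rw [← mul_assoc, psq, one_mul]
    rw [ha, show p .c * (p .c * p .d) ^ 5 =
      p .d * p .c * p .d * p .c * p .d * (p .d * p .c * p .d * p .c)⁻¹ by
        simp only [mul_inv_rev, inv_eq_of_mul_eq_one_right (psq _), pow_succ, pow_zero, one_mul,
          mul_assoc, hcc]]
    exact h
  have t21 : InT E (D.val 21) := by
    refine (inT_cls E c3).1 ?_
    rw [D.val_mul _ _ (by norm_num) (by norm_num)]
    have e1 : p .c = D.val 1777 := hp .c (by decide)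
    have e2 : p .a = D.val 1680 := hp .a (by decide)
    rwa [← e1, ← e2]
  have tzb : InT E (z * D.val 2971) := by
    have h := (inT_cls E c4).2 t21
    rwa [D.val_mul _ _ Cen.zN_lt (by norm_num), D.val_z] at h
  have hmul : ∀ h : G, h * p .b = p .b * h → ∀ {w : G}, h * z * h⁻¹ = w →
      h * (z * D.val 2971) * h⁻¹ = w * D.val 2971 := fun h hc w e => by
    rw [← eb, ← e, show h * (z * p .b) * h⁻¹ = h * z * h⁻¹ * (h * p .b * h⁻¹) by group, hc,
      mul_inv_cancel_right]
  have t190 : InT E (D.val 190) := by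
    refine (inT_cls E c5).1 ?_
    rw [D.val_mul _ _ (by norm_num) (by norm_num), ← ef, ← hmul hf hfb hfz]
    exact inT_conj E tzb hfm
  have t1366 : InT E (D.val 1366) := by
    refine (inT_cls E c6).1 ?_
    rw [D.val_mul _ _ (by norm_num) (by norm_num), ← eg, ← hmul hg hgb hgz]
    exact inT_conj E tzb hgm
  intro a ha
  simp only [List.mem_cons, List.not_mem_nil, or_false] at ha
  rcases ha with rfl | rfl | rfl | rfl | rfl
  exacts [t21, t168, t190, t1344, t1366]

/-- the range controls the fusion of `z` -/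
theorem range_fusion (hF : FusT D) :
    ∀ x ∈ E.φ.range, IsConj z x → ∃ h ∈ E.φ.range, h * z * h⁻¹ = x :=
  fusion_of_reps D (pattern_of_fusT hF) E.φ.range (cent_le_range E)
    fun a ha => inT_reps E a (by simpa [heT] using ha)

end

end CfsgLib.Spor.HeTri.HeCase
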