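import Cfsg.Agent.Lib.Spor.HeTri.HeTopBasic
import Cfsg.Agent.Lib.Spor.HeTri.HeOrbit

/-!
# The centraliser of an involution of the second class in the range
-/

set_option autoImplicit false
set_option maxRecDepth 100000
set_option linter.unusedSectionVars false
set_option linter.style.haveILetI false

namespace CfsgLib.Spor.HeTri.HeCase

open CfsgLib.Spor.HeRecog Cfsg.Spor

universe u

variable {G : Type u} [Group G] [Finite G] {z : G} {D : Cen 0 z} (E : HeGens D)
include E

theorem orbEl_comm (w : List ℕ) :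
    E.φ (orbEl w) * D.val uN = D.val uN * E.φ (orbEl w) := by
  have ha : E.φ (CfsgLib.Spor.He.gen .a) = D.val uN := E.φ_gen .a (by decide)
  rw [← ha, ← map_mul, ← map_mul]
  refine congrArg E.φ ?_
  have : ∀ x ∈ (w.map letC).map CfsgLib.Spor.He.gen, Commute (CfsgLib.Spor.He.gen .a) x := by
    intro x hx
    simp only [List.map_map, List.mem_map, Function.comp_apply] at hx
    obtain ⟨k, -, rfl⟩ := hx
    rcases letC_comm k with h | h
    · have h2 := CfsgLib.Spor.He.cox (x := He.Gen.a) (y := letC k)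
      rw [h, pow_two] at h2
      show _ * _ = _ * _
      rw [eq_inv_of_mul_eq_one_left h2, mul_inv_rev,
        inv_eq_of_mul_eq_one_right (CfsgLib.Spor.He.gen_sq (letC k)),
        inv_eq_of_mul_eq_one_right (CfsgLib.Spor.He.gen_sq .a)]
    · rw [h]
  exact (Commute.list_prod_right _ _ this).eq.symm

/-- The range contains the centraliser of `val 1680`, given the bound for its order. -/
theorem cent_u_le_range
    (hb : Nat.card (Subgroup.centralizer ({D.val uN} : Set G)) ≤ 161280) :
    Subgroup.centralizer ({D.val uN} : Set G) ≤ E.φ.range := by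
  have hz : E.φ (CfsgLib.Spor.He.gen .e) = z := φ_e E
  let T : Subgroup G := Subgroup.centralizer ({D.val uN} : Set G) ⊓ E.φ.range
  have hCC : ∀ k ∈ D.CC 1680, k ∈ T := fun k hk => Subgroup.mem_inf.2
    ⟨Subgroup.mem_centralizer_singleton_iff.2 (D.mem_CC.1 hk).2,
      cent_le_range E (Subgroup.mem_centralizer_singleton_iff.2 (D.mem_CC.1 hk).1)⟩
  let y : Fin 315 → G := fun i => E.φ (orbEl (orbWords.getD i []))
  have hy : ∀ i, y i ∈ T := fun i => Subgroup.mem_inf.2
    ⟨Subgroup.mem_centralizer_singleton_iff.2 (orbEl_comm E _), ⟨_, rfl⟩⟩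
  let f : Fin 315 × D.CC 1680 → T := fun p =>
    ⟨y p.1 * p.2, mul_mem (hy p.1) (hCC _ p.2.2)⟩
  have hf : Function.Injective f := by
    rintro ⟨i, k⟩ ⟨j, l⟩ h
    have h1 : y i * k = y j * l := congrArg Subtype.val h
    have hconj : ∀ (i : Fin 315) (k : D.CC 1680),
        y i * (k : G) * z * (y i * (k : G))⁻¹ = y i * z * (y i)⁻¹ := fun i k => by
      rw [mul_assoc (y i), (D.mem_CC.1 k.2).1]
      group
    have h2 : y i * z * (y i)⁻¹ = y j * z * (y j)⁻¹ := by rw [← hconj i k, h1, hconj]
    have h3 : i = j := by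
      refine Fin.ext (orb_inj i.2 j.2 (E.inj ?_))
      simp only [y, ← hz, ← map_mul, ← map_inv] at h2
      exact h2
    subst h3
    exact Prod.ext rfl (Subtype.ext (mul_left_cancel h1))
  have h512 : Nat.card (D.CC 1680) = 512 := D.card_CC_u
  have hge : 161280 ≤ Nat.card T := by
    refine le_trans ?_ (Nat.card_le_card_of_injective f hf)
    rw [Nat.card_prod, Nat.card_fin, h512]
  exact (Subgroup.eq_of_le_of_card_ge (inf_le_left : T ≤ _) (hb.trans hge)).symm.le.trans inf_le_right

end CfsgLib.Spor.HeTri.HeCase
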