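import Cfsg.Agent.Lib.Spor.HeTri.Interface

/-!
# The elementary abelian group of order sixteen of the model

`aN v` for `v < 16` are the sixteen elements of the group `A` spanned by `z` and the class `168`.
-/

set_option autoImplicit false
set_option linter.unusedSectionVars false
set_option maxRecDepth 100000

namespace CfsgLib.Spor.HeTri

open CfsgLib.Spor.HeRecog

universe u

/-- the sixteen elements of the elementary abelian group -/
def aN (v : Nat) : Nat :=
  Nat.mul 168 (Nat.add (Nat.div v 2) (Nat.shiftLeft (Nat.mod v 2) 6))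

/-- the code of an element of the group -/
def vOfN (m : Nat) : Nat :=
  Nat.add (Nat.mul 2 (Nat.mod (Nat.div m 168) 8)) (Nat.mod (Nat.shiftRight (Nat.div m 168) 6) 2)

/-- is an element in the group -/
def inA (m : Nat) : Bool :=
  Nat.beq (aN (vOfN m)) m && Nat.ble (Nat.add (vOfN m) 1) 16

theorem inA_spec {m : ℕ} (h : inA m = true) : aN (vOfN m) = m ∧ vOfN m < 16 := by
  rw [inA, Bool.and_eq_true] at h
  exact ⟨Nat.eq_of_beq_eq_true h.1, Nat.le_of_ble_eq_true h.2⟩

theorem aN_basic : ∀ v ∈ List.range 16, aN v < 21504 ∧ inA (aN v) = true ∧ vOfN (aN v) = v ∧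
    (v ≠ 0 → aN v = zN ∨ aN v ∈ clsOf 0 168) := by decide +kernel

theorem aN_mul : ∀ v ∈ List.range 16, ∀ w ∈ List.range 16,
    Nat.xor v w < 16 ∧ mulN 0 (aN v) (aN w) = aN (Nat.xor v w) := by decide +kernel

theorem cls_inA : inA zN = true ∧ ∀ m ∈ clsOf 0 168, inA m = true ∧ vOfN m ≠ 1 ∧ vOfN m ≠ 0 := by
  decide +kernel

/-- the generators of the centraliser outside the group -/
def gL : List Nat := [fN, hN, tN, 1344]

theorem gL_conj : ∀ g ∈ gL, g < 21504 ∧ ∀ v ∈ List.range 16, inA (cjN 0 g (aN v)) = true := by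
  decide +kernel

/-- the second and third conjugate of `1344` -/
def e1N : Nat := cjN 0 hN 1344

/-- the third conjugate of `1344` -/
def e2N : Nat := cjN 0 hN e1N

/-- the product of powers of the three conjugates -/
def eP (w : Nat) : Nat :=
  mulN 0 (mulN 0 (powN 0 1344 (Nat.mod w 2)) (powN 0 e1N (Nat.mod (Nat.div w 2) 2)))
    (powN 0 e2N (Nat.div w 4))

/-- the lift of an element of the quotient as a word -/
def kW (k : Nat) : Nat :=
  mulN 0 (mulN 0 (powN 0 fN (Nat.div (Nat.mod k 21) 3)) (powN 0 hN (Nat.mod k 3)))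
    (bif Nat.blt k 21 then 0 else mulN 0 tN (powN 0 fN (Nat.sub (Nat.div k 21) 1)))

theorem q_word : ∀ q ∈ List.range 128,
    mulN 0 (aN (Nat.add (Nat.mul 2 (Nat.mod q 8)) (Nat.div q 64))) (eP (Nat.mod (Nat.div q 8) 8))
      = 168 * q := by decide +kernel

theorem k_word : ∀ k ∈ List.range 168, kW k = k := by decide +kernel

theorem qk_check : allEls (fun m =>
    Nat.beq (mulN 0 (Nat.mul 168 (Nat.div m 168)) (Nat.mod m 168)) m) = true := by decide +kernel

theorem cent_check : allEls (fun m =>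
    !(Nat.beq (mulN 0 m (aN 2)) (mulN 0 (aN 2) m) && Nat.beq (mulN 0 m (aN 4)) (mulN 0 (aN 4) m) &&
      Nat.beq (mulN 0 m (aN 8)) (mulN 0 (aN 8) m)) || inA m) = true := by decide +kernel

/-- elements moving the code `2` onto the others different from `0` and `1` -/
def wA : List Nat := [0, 1, 2, 4, 5, 8, 11, 1344, 1348, 1352, 1355, 2689, 2693, 5378]

/-- elements fixing the code `2` and moving the code `4` -/
def wB : List Nat := [0, 14, 19, 22, 33, 41, 2688, 2702, 2721, 2729, 5395, 5398]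

/-- elements fixing the codes `2` and `4` and moving the code `8` -/
def wC : List Nat := [0, 60, 134, 151, 5376, 5436, 5510, 5527]

/-- the code of the image of an element of the group under conjugation -/
def actN (m v : Nat) : Nat := vOfN (cjN 0 m (aN v))

theorem chain_check :
    (∀ v ∈ List.range 16, 2 ≤ v → ∃ m ∈ wA, m < 21504 ∧ actN m 2 = v) ∧
    (∀ v ∈ List.range 16, 4 ≤ v → ∃ m ∈ wB, m < 21504 ∧ actN m 2 = 2 ∧ actN m 4 = v) ∧
    (∀ v ∈ List.range 16, 8 ≤ v → ∃ m ∈ wC, m < 21504 ∧ actN m 2 = 2 ∧ actN m 4 = 4 ∧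
      actN m 8 = v) := by decide +kernel

/-- The group spanned by `z` and the class `168`. -/
def grpA {G : Type u} [Group G] {z : G} (D : Cen 0 z) : Subgroup G :=
  Subgroup.closure (D.val '' {m | m = zN ∨ m ∈ clsOf 0 168})

section

variable {G : Type u} [Group G] {z : G} (D : Cen 0 z)

/-- the element of the group with a given code -/
def aG (v : ℕ) : G := D.val (aN v)

theorem aN_lt {v : ℕ} (hv : v < 16) : aN v < 21504 := (aN_basic v (List.mem_range.2 hv)).1

theorem xor_lt16 {v w : ℕ} (hv : v < 16) (hw : w < 16) : v ^^^ w < 16 :=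
  (aN_mul v (List.mem_range.2 hv) w (List.mem_range.2 hw)).1

theorem aG_mul {v w : ℕ} (hv : v < 16) (hw : w < 16) : aG D v * aG D w = aG D (v ^^^ w) := by
  rw [aG, aG, ← D.val_mul _ _ (aN_lt hv) (aN_lt hw),
    (aN_mul v (List.mem_range.2 hv) w (List.mem_range.2 hw)).2]
  rfl

theorem aG_zero : aG D 0 = 1 := by
  rw [aG, show aN 0 = 0 from rfl, D.val_zero]

theorem aG_one : aG D 1 = z := by
  rw [aG, show aN 1 = zN from rfl, D.val_z]

theorem aG_sq {v : ℕ} (hv : v < 16) : aG D v * aG D v = 1 := by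
  rw [aG_mul D hv hv, Nat.xor_self, aG_zero]

theorem aG_inj {v w : ℕ} (hv : v < 16) (hw : w < 16) (h : aG D v = aG D w) : v = w := by
  have h' := D.val_inj _ _ (aN_lt hv) (aN_lt hw) h
  rw [← (aN_basic v (List.mem_range.2 hv)).2.2.1, h',
    (aN_basic w (List.mem_range.2 hw)).2.2.1]

theorem mem_grpA {x : G} : x ∈ grpA D ↔ ∃ v < 16, aG D v = x := by
  constructor
  · intro hx
    induction hx using Subgroup.closure_induction with
    | mem y hy =>
      obtain ⟨m, hm, rfl⟩ := hy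
      have h : inA m = true := hm.elim (fun e => e ▸ cls_inA.1) fun h => (cls_inA.2 m h).1
      exact ⟨vOfN m, (inA_spec h).2, by rw [aG, (inA_spec h).1]⟩
    | one => exact ⟨0, by norm_num, aG_zero D⟩
    | mul a b _ _ ha hb =>
      obtain ⟨v, hv, rfl⟩ := ha
      obtain ⟨w, hw, rfl⟩ := hb
      exact ⟨_, xor_lt16 hv hw, (aG_mul D hv hw).symm⟩
    | inv a _ ha =>
      obtain ⟨v, hv, rfl⟩ := ha
      exact ⟨v, hv, (inv_eq_of_mul_eq_one_right (aG_sq D hv)).symm⟩
  · rintro ⟨v, hv, rfl⟩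
    rcases eq_or_ne v 0 with rfl | h0
    · rw [aG_zero]; exact one_mem _
    · exact Subgroup.subset_closure ⟨aN v, (aN_basic v (List.mem_range.2 hv)).2.2.2 h0, rfl⟩

theorem aG_mem {v : ℕ} (hv : v < 16) : aG D v ∈ grpA D := (mem_grpA D).2 ⟨v, hv, rfl⟩

theorem grpA_comm {a b : G} (ha : a ∈ grpA D) (hb : b ∈ grpA D) : a * b = b * a := by
  obtain ⟨v, hv, rfl⟩ := (mem_grpA D).1 ha
  obtain ⟨w, hw, rfl⟩ := (mem_grpA D).1 hb
  rw [aG_mul D hv hw, aG_mul D hw hv, Nat.xor_comm]

theorem card_grpA : Nat.card (grpA D) = 16 := by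
  rw [← Nat.card_fin 16]
  refine Nat.card_congr (Equiv.ofBijective (fun v : Fin 16 => ⟨aG D v, aG_mem D v.2⟩)
    ⟨fun v w h => Fin.ext (aG_inj D v.2 w.2 (congrArg Subtype.val h)), fun a => ?_⟩).symm
  obtain ⟨v, hv, e⟩ := (mem_grpA D).1 a.2
  exact ⟨⟨v, hv⟩, Subtype.ext e⟩

/-- A subgroup containing the group and the four further generators contains the centraliser. -/
theorem mem_of_gens {H : Subgroup G} (hA : grpA D ≤ H) (hg : ∀ g ∈ gL, D.val g ∈ H) {m : ℕ}
    (hm : m < 21504) : D.val m ∈ H := by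
  have hpow : ∀ {a : ℕ}, a < 21504 → D.val a ∈ H → ∀ i, D.val (powN 0 a i) ∈ H := fun ha h i => by
    rw [D.val_pow ha]; exact H.pow_mem h i
  have hmul : ∀ {a b : ℕ}, a < 21504 → b < 21504 → D.val a ∈ H → D.val b ∈ H →
      D.val (mulN 0 a b) ∈ H := fun ha hb h1 h2 => by
    rw [D.val_mul _ _ ha hb]; exact H.mul_mem h1 h2
  have hf : fN < 21504 := by norm_num [fN]
  have hh : hN < 21504 := by norm_num [hN]
  have ht : tN < 21504 := by norm_num [tN]
  have hF : D.val fN ∈ H := hg _ (by simp [gL])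
  have hH : D.val hN ∈ H := hg _ (by simp [gL])
  have hT : D.val tN ∈ H := hg _ (by simp [gL])
  have hE : D.val 1344 ∈ H := hg _ (by simp [gL])
  have he : ∀ {a : ℕ}, a < 21504 → D.val a ∈ H → D.val (cjN 0 hN a) ∈ H := fun ha h => by
    rw [D.val_cj hh ha]; exact H.mul_mem (H.mul_mem hH h) (H.inv_mem hH)
  have h1344 : (1344 : ℕ) < 21504 := by norm_num
  have h1 : e1N < 21504 := cjN_lt hh _ _
  have h2 : e2N < 21504 := cjN_lt hh _ _
  have he1 : D.val e1N ∈ H := he h1344 hE
  have he2 : D.val e2N ∈ H := he h1 he1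
  have hq : m / 168 < 128 := by omega
  have hk : m % 168 < 168 := Nat.mod_lt _ (by norm_num)
  have e : mulN 0 (168 * (m / 168)) (m % 168) = m :=
    Nat.eq_of_beq_eq_true (allEls_spec qk_check m hm)
  rw [← e]
  refine hmul (by omega) (by omega) ?_ ?_
  · have eq := q_word _ (List.mem_range.2 hq)
    have hv : Nat.add (Nat.mul 2 (Nat.mod (m / 168) 8)) (Nat.div (m / 168) 64) < 16 := by
      show 2 * (m / 168 % 8) + m / 168 / 64 < 16
      omega
    rw [← eq]
    have hP : eP (Nat.mod (Nat.div (m / 168) 8) 8) < 21504 :=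
      mulN_lt (mulN_lt (powN_lt 0 h1344 _) _ _) _ _
    refine hmul (aN_lt hv) hP (hA (aG_mem D hv)) ?_
    exact hmul (mulN_lt (powN_lt 0 h1344 _) _ _) (powN_lt 0 h2 _)
      (hmul (powN_lt 0 h1344 _) (powN_lt 0 h1 _) (hpow h1344 hE _) (hpow h1 he1 _)) (hpow h2 he2 _)
  · rw [← k_word _ (List.mem_range.2 hk)]
    refine hmul (mulN_lt (powN_lt 0 hf _) _ _) ?_ (hmul (powN_lt 0 hf _) (powN_lt 0 hh _)
      (hpow hf hF _) (hpow hh hH _)) ?_
    · cases Nat.blt (m % 168) 21 with
      | true => norm_num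
      | false => exact mulN_lt ht _ _
    · cases Nat.blt (m % 168) 21 with
      | true => simp only [cond_true, D.val_zero, one_mem]
      | false => exact hmul ht (powN_lt 0 hf _) hT (hpow hf hF _)

/-- The centraliser of `z` normalises the group. -/
theorem val_mem_normalizer {m : ℕ} (hm : m < 21504) :
    D.val m ∈ Subgroup.normalizer (grpA D : Set G) := by
  refine mem_of_gens D Subgroup.le_normalizer (fun g hg => ?_) hm
  obtain ⟨hg', hc⟩ := gL_conj g hg
  have hmap : ∀ x ∈ grpA D, D.val g * x * (D.val g)⁻¹ ∈ grpA D := by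
    intro x hx
    obtain ⟨v, hv, rfl⟩ := (mem_grpA D).1 hx
    have h := hc v (List.mem_range.2 hv)
    rw [aG, ← D.val_cj hg' (aN_lt hv), ← (inA_spec h).1]
    exact aG_mem D (inA_spec h).2
  rw [Subgroup.mem_normalizer_iff]
  intro x
  refine ⟨hmap x, fun hx => ?_⟩
  let f : grpA D → grpA D := fun y => ⟨D.val g * y * (D.val g)⁻¹, hmap y y.2⟩
  haveI : Finite (grpA D) := Nat.finite_of_card_ne_zero (by rw [card_grpA D]; norm_num)
  have hf : Function.Injective f := fun a b h =>
    Subtype.ext (mul_left_cancel (mul_right_cancel (congrArg Subtype.val h)))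
  obtain ⟨y, hy⟩ := Finite.surjective_of_injective hf ⟨_, hx⟩
  rw [show x = (y : G) from (mul_left_cancel (mul_right_cancel (congrArg Subtype.val hy))).symm]
  exact y.2

theorem actN_spec {m v : ℕ} (hm : m < 21504) (hv : v < 16) :
    actN m v < 16 ∧ D.val m * aG D v * (D.val m)⁻¹ = aG D (actN m v) := by
  have h : D.val m * aG D v * (D.val m)⁻¹ ∈ grpA D :=
    (Subgroup.mem_normalizer_iff.1 (val_mem_normalizer D hm) _).1 (aG_mem D hv)
  obtain ⟨w, hw, e⟩ := (mem_grpA D).1 h
  rw [aG, aG, ← D.val_cj hm (aN_lt hv)] at e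
  have e' := D.val_inj _ _ (aN_lt hw) (cjN_lt hm _ _) e
  have hv' : actN m v = w := by rw [actN, ← e']; exact (aN_basic w (List.mem_range.2 hw)).2.2.1
  rw [hv']
  refine ⟨hw, ?_⟩
  rw [aG, aG, ← D.val_cj hm (aN_lt hv), e']

/-- The group is its own centraliser. -/
theorem cent_grpA {x : G} (hx : ∀ a ∈ grpA D, x * a = a * x) : x ∈ grpA D := by
  have hxz : x * z = z * x := hx z (by have h1 := aG_mem D (show 1 < 16 by norm_num); rwa [aG_one] at h1)
  obtain ⟨m, hm, rfl⟩ := D.val_surj x hxz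
  have h : ∀ v < 16, Nat.beq (mulN 0 m (aN v)) (mulN 0 (aN v) m) = true := fun v hv => by
    rw [D.mul_val_eq hm (aN_lt hv) (hx _ (aG_mem D hv))]; exact Nat.beq_refl _
  have hc := allEls_spec cent_check m hm
  simp only [h 2 (by norm_num), h 4 (by norm_num), h 8 (by norm_num), Bool.and_self,
    Bool.not_true, Bool.false_or] at hc
  exact (mem_grpA D).2 ⟨vOfN m, (inA_spec hc).2, by rw [aG, (inA_spec hc).1]⟩

end

end CfsgLib.Spor.HeTri
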