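import Cfsg.Agent.Lib.Spor.HeTri.Interface
import Cfsg.Agent.Lib.Spor.HeTri.SplitCheck
import Cfsg.Agent.Lib.Spor.HeTri.NormalABasic

/-!
# The kernel checks of the meets of extraspecial groups
-/

set_option autoImplicit false
set_option maxRecDepth 100000
set_option Elab.async false

namespace CfsgLib.Spor.HeTri

open CfsgLib.Spor.HeRecog

/-- one or a fused element -/
def goodN (T : List Nat) (v : Nat) : Bool :=
  Nat.beq v 0 || (zN :: T).any fun t => (clsOf 0 t).any (Nat.beq v)

/-- the element `c` shows that `m` spans no fused group with `z`, `a` and its conjugates -/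
def witN (T : List Nat) (a m c : Nat) : Bool :=
  Nat.beq (mulN 0 c a) (mulN 0 a c) && (
    !(Nat.beq (mulN 0 (cjN 0 c m) m) (mulN 0 m (cjN 0 c m))) ||
    [0, zN, a, mulN 0 zN a].any fun u => !(goodN T (mulN 0 (mulN 0 (cjN 0 c m) m) u)))

/-- every fused element commuting with `a` is in the extraspecial group or has a witness -/
def pureOK (T : List Nat) (a : Nat) (W : List Nat) : Bool :=
  (zN :: T).all fun t => (clsOf 0 t).all fun m =>
    Nat.beq (Nat.mod m 168) 0 || !(Nat.beq (mulN 0 m a) (mulN 0 a m)) ||
      W.any fun c => Nat.blt c 21504 && witN T a m c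

/-- the cases with their witnesses -/
def pureCases : List (List Nat × Nat × List Nat) :=
  [(vecT, 168, []), (l5T, 168, [14]), (l5T, 1344, [4]), (m24T, 168, [33, 14])]

theorem pure_check : (pureCases.all fun p => pureOK p.1 p.2.1 p.2.2) = true := by decide +kernel

theorem out_check : ([21, 190, 1366].all fun a =>
    (clsOf 0 a).all fun m => !(Nat.beq (Nat.mod m 168) 0)) = true := by decide +kernel

theorem aN_mod : ∀ v ∈ List.range 16, aN v % 168 = 0 := by decide +kernel

/-- commutators in the extraspecial group -/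
theorem comm_check : allN 128 (fun q => allN 128 fun r =>
    Nat.beq (cjN 0 (Nat.mul 168 q) (Nat.mul 168 r)) (Nat.mul 168 r) ||
      Nat.beq (cjN 0 (Nat.mul 168 q) (Nat.mul 168 r)) (mulN 0 zN (Nat.mul 168 r))) = true := by
  decide +kernel

theorem m24_count : ∀ rx ∈ splitTab, ∀ ry ∈ splitTab, rx.1 = 168 → ry.1 = 1344 →
    cnt m24T rx.2.2 false false false ≠ cnt m24T ry.2.2 false false false := by decide +kernel

theorem pMul_checks : pMul 0 0 = 0 ∧ pInv 0 = 0 ∧
    ∀ a ∈ List.range 168, pMul (pMul a 0) (pInv a) = 0 := by decide +kernel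

theorem cl3_length : (clsOf 3 168).length = 14 := by decide +kernel

end CfsgLib.Spor.HeTri
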