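import Cfsg.Agent.Lib.Spor.HeTri.MeetType
import Cfsg.Agent.Lib.Spor.HeTri.MeetCheck
import Cfsg.Agent.Lib.Spor.HeTri.Split
import Cfsg.Agent.Lib.Spor.HeRecog.Frame
import Cfsg.Agent.Lib.Spor.HeRecog.FrameModel
import Cfsg.Agent.Lib.Spor.HeRecog.ModelZero
import Cfsg.Agent.Lib.Components.FStar

/-!
# Held type with unfused meets is the Held group

The fusion patterns of the vector stabiliser, of `SL₅(2)` and of `M₂₄` make every meet of
extraspecial groups contain, hence equal, an elementary abelian group all whose involutions are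
conjugate to `z`.
-/

set_option autoImplicit false
set_option maxRecDepth 100000

namespace CfsgLib.Spor.HeTri

open CfsgLib.Spor.HeRecog

universe u

theorem mulN_mod (k m n : ℕ) : mulN k m n % 168 = pMul (m % 168) (n % 168) := by
  have := pMul_lt (m % 168) (n % 168)
  show (Nat.xor (qMul (m / 168) (qAct k (m % 168) (n / 168)))
    (Nat.shiftLeft (coc k (m % 168) (n % 168)) 6) * 168 + pMul (m % 168) (n % 168)) % 168 = _
  omega

theorem invN_mod (k m : ℕ) : invN k m % 168 = pInv (m % 168) := by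
  have := pInv_lt (m % 168)
  show (Nat.xor (qAct k (pInv (m % 168)) (qInv (m / 168)))
    (Nat.shiftLeft (coc k (m % 168) (pInv (m % 168))) 6) * 168 + pInv (m % 168)) % 168 = _
  omega

theorem cjN_mod (k n : ℕ) {m : ℕ} (hm : m % 168 = 0) : cjN k n m % 168 = 0 := by
  rw [cjN, mulN_mod, mulN_mod, invN_mod, hm]
  exact pMul_checks.2.2 _ (List.mem_range.2 (Nat.mod_lt _ (by norm_num)))

section

variable {G : Type u} [Group G] [Finite G] {z : G}

/-- The extraspecial group is that of the model. -/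
theorem mem_core_iff {k : ℕ} (D : Cen k z) {R : Subgroup (Subgroup.centralizer ({z} : Set G))}
    [R.Normal] (hset : Cfsg.IsExtraspecialCentralizerSetting z R 3) {m : ℕ} (hm : m < 21504) :
    D.val m ∈ R.map (Subgroup.subtype _) ↔ m % 168 = 0 := by
  classical
  have : Fact (Nat.Prime 2) := ⟨Nat.prime_two⟩
  let N : Subgroup (Subgroup.centralizer ({z} : Set G)) :=
    { carrier := {x | ∃ m < 21504, m % 168 = 0 ∧ D.val m = x}
      one_mem' := ⟨0, by norm_num, rfl, D.val_zero⟩
      mul_mem' := by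
        rintro a b ⟨m, hm, hm0, ha⟩ ⟨n, hn, hn0, hb⟩
        exact ⟨mulN k m n, mulN_lt hm _ _, by rw [mulN_mod, hm0, hn0]; exact pMul_checks.1,
          by rw [D.val_mul m n hm hn, ha, hb]; rfl⟩
      inv_mem' := by
        rintro a ⟨m, hm, hm0, ha⟩
        exact ⟨invN k m, invN_lt k m, by rw [invN_mod, hm0]; exact pMul_checks.2.1,
          by rw [D.val_inv hm, ha]; rfl⟩ }
  have hNn : N.Normal := ⟨by
    rintro a ⟨m, hm, hm0, ha⟩ c
    obtain ⟨n, hn, hc⟩ := D.mem_cent_iff.1 c.2
    exact ⟨cjN k n m, cjN_lt hn _ _, cjN_mod k n hm0,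
      by rw [D.val_cj hn hm, ha, hc]; rfl⟩⟩
  have hN : Nat.card N = 128 := by
    have h := D.card_image (l := (List.range 128).map (168 * ·))
      (fun a ha => by
        obtain ⟨q, hq, rfl⟩ := List.mem_map.1 ha
        rw [List.mem_range] at hq
        show 168 * q < 21504
        omega)
      (List.nodup_range.map (fun a b h => by
        have h' : 168 * a = 168 * b := h
        omega))
    rw [List.length_map, List.length_range] at h
    rw [← h]
    refine Nat.card_congr ⟨fun x => ⟨(x.1 : G), ?_⟩, fun g => ⟨⟨g.1, ?_⟩, ?_⟩,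
      fun x => rfl, fun g => rfl⟩
    · obtain ⟨m, hm, hm0, e⟩ := x.2
      exact ⟨m, List.mem_map.2 ⟨m / 168, List.mem_range.2 (by omega), by
        show 168 * (m / 168) = m
        omega⟩, e⟩
    · obtain ⟨m, hm, e⟩ := g.2
      obtain ⟨q, hq, rfl⟩ := List.mem_map.1 hm
      rw [← e]
      exact D.mem_cent_iff.2 ⟨_, by rw [List.mem_range] at hq; show 168 * q < 21504; omega, rfl⟩
    · obtain ⟨m, hm, e⟩ := g.2
      obtain ⟨q, hq, rfl⟩ := List.mem_map.1 hm
      rw [List.mem_range] at hq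
      exact ⟨168 * q, by omega, Nat.mul_mod_right 168 q, e⟩
  have hp : IsPGroup 2 N := IsPGroup.iff_card.2 ⟨7, hN⟩
  have hNR : N = R := by
    refine Subgroup.eq_of_le_of_card_ge ?_ (by rw [hset.2.2.2.1, hN]; norm_num)
    refine (CfsgLib.Base.le_fittingSubgroup
      (CfsgLib.Base.isNilpotent_of_isPGroup hp)).trans (le_trans ?_ hset.2.1.le)
    rw [Cfsg.generalizedFittingSubgroup]
    exact le_sup_right
  rw [← hNR]
  refine ⟨?_, fun h0 => ⟨⟨D.val m, D.mem_cent_iff.2 ⟨m, hm, rfl⟩⟩, ⟨m, hm, h0, rfl⟩, rfl⟩⟩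
  rintro ⟨x, ⟨n, hn, hn0, e⟩, hx⟩
  rwa [← D.val_inj n m hn hm (e.trans hx)]

omit [Finite G] in
/-- Only the split untwisted model has enough fused elements in the extraspecial group. -/
theorem model_eq_zero {k : ℕ} (D : Cen k z) {R : Subgroup (Subgroup.centralizer ({z} : Set G))}
    [R.Normal] (_hset : Cfsg.IsExtraspecialCentralizerSetting z R 3)
    (hcount : Set.ncard {x : Subgroup.centralizer ({z} : Set G) | x ∈ R ∧ IsConj z (x : G)} = 29) :
    k = 0 := by
  classical
  by_contra hk0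
  have hk : k = 1 ∨ k = 2 ∨ k = 3 := by
    have := D.hk
    omega
  let l : List ℕ := zN :: clsOf 3 168
  have hsub : Subtype.val '' {x : Subgroup.centralizer ({z} : Set G) | x ∈ R ∧ IsConj z (x : G)} ⊆
      ((l.toFinset.image D.val : Finset G) : Set G) := by
    rintro _ ⟨x, ⟨-, hx⟩, rfl⟩
    have ho : orderOf (x : G) = 2 := by
      obtain ⟨c, hc⟩ := isConj_iff.1 hx
      rw [← hc]
      exact ((MulAut.conj c).orderOf_eq z).trans D.ord
    obtain ⟨m, hm, e, p, hp, hmp⟩ :=
      D.invol_val ho (Subgroup.mem_centralizer_singleton_iff.1 x.2)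
    rw [Finset.coe_image]
    refine ⟨m, ?_, e⟩
    rw [Finset.mem_coe, List.mem_toFinset]
    by_cases hpz : p.1 = zN
    · rw [hpz, clsOf_zN k D.hkr, List.mem_singleton] at hmp
      rw [hmp]
      exact List.mem_cons_self
    · obtain ⟨rfl, h168⟩ := D.partner hk hp hpz ((D.cls_isConj hmp).trans (e ▸ hx.symm))
      exact List.mem_cons_of_mem _ (h168 ▸ hmp)
  have h1 := Set.ncard_le_ncard hsub (Finset.finite_toSet _)
  rw [Set.ncard_image_of_injective _ Subtype.val_injective, hcount, Set.ncard_coe_finset] at h1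
  have h2 : (l.toFinset.image D.val).card ≤ l.length :=
    Finset.card_image_le.trans (List.toFinset_card_le _)
  rw [show l.length = 15 by rw [List.length_cons, cl3_length]] at h2
  omega

omit [Finite G] in
/-- A fused element of the centraliser lies in a fused class. -/
theorem fused_cls (D : Cen 0 z) {T : List ℕ} (hP : Pattern D T) {m : ℕ} (hm : m < 21504)
    (hc : IsConj (D.val m) z) : ∃ t ∈ zN :: T, m ∈ clsOf 0 t := by
  have ho : orderOf (D.val m) = 2 := by
    obtain ⟨c, hc⟩ := isConj_iff.1 hc.symm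
    rw [← hc]
    exact ((MulAut.conj c).orderOf_eq z).trans D.ord
  obtain ⟨n, hn, e, p, hp, hnp⟩ := D.invol_val ho (D.val_comm m hm)
  obtain rfl := D.val_inj n m hn hm e
  refine ⟨p.1, ?_, hnp⟩
  have hpc : IsConj (D.val p.1) z := (D.cls_isConj hnp).trans hc
  rcases class_reps p hp with h | h | h | h
  · rw [h]; exact List.mem_cons_self
  all_goals refine List.mem_cons_of_mem _ ((hP p.1 ?_).1 hpc)
  · simp only [reps5, List.mem_cons, List.not_mem_nil, or_false] at h
    rcases h with h | h | h | h | h <;> rw [h] <;> simp [reps]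
  · rw [h]; simp [reps]
  · rw [h]; simp [reps]

omit [Finite G] in
open Classical in
theorem fusedList_eq (D : Cen 0 z) {T : List ℕ} (hP : Pattern D T) :
    fusedList D = reps5.filter fun a => decide (a ∈ T) := by
  refine List.filter_congr fun a ha => ?_
  have : a ∈ reps := by
    simp only [reps5, List.mem_cons, List.not_mem_nil, or_false] at ha
    rcases ha with rfl | rfl | rfl | rfl | rfl <;> simp [reps]
  exact decide_eq_decide.2 (hP a this)

omit [Finite G] in
/-- The pure elementary abelian group of one pair lands in the extraspecial group. -/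
theorem conj_mem_core (D : Cen 0 z) {T : List ℕ} (hP : Pattern D T) (h168 : 168 ∈ T) {a : ℕ}
    {W : List ℕ} (hW : pureOK T a W = true) (ha : a < 21504) {g : G}
    (hg : g * z * g⁻¹ = D.val 168) (hga : g⁻¹ * z * g = D.val a) {x : G} (hx : x ∈ grpA D) :
    ∃ m < 21504, m % 168 = 0 ∧ D.val m = g⁻¹ * x * g := by
  rcases eq_or_ne x 1 with rfl | hx1
  · exact ⟨0, by norm_num, rfl, by rw [D.val_zero, mul_one, inv_mul_cancel]⟩
  have hpure : ∀ w ∈ grpA D, w = 1 ∨ IsConj w z := by
    intro w hw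
    obtain ⟨v, hv, rfl⟩ := (mem_grpA D).1 hw
    rcases eq_or_ne v 0 with rfl | h0
    · exact Or.inl (aG_zero D)
    · refine Or.inr ?_
      rcases (aN_basic v (List.mem_range.2 hv)).2.2.2 h0 with e | e
      · rw [aG, e, D.val_z]
      · exact (D.cls_isConj e).symm.trans ((hP 168 (by simp [reps])).2 h168)
  have hzA : z ∈ grpA D := by
    have h1 := aG_mem D (show 1 < 16 by norm_num)
    rwa [aG_one] at h1
  have hsA : D.val 168 ∈ grpA D :=
    Subgroup.subset_closure ⟨168, Or.inr (by decide +kernel : (168 : ℕ) ∈ clsOf 0 168), rfl⟩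
  have hgz : g⁻¹ * D.val 168 * g = z := by rw [← hg]; group
  have hcj : ∀ w : G, w = 1 ∨ IsConj w z → g⁻¹ * w * g = 1 ∨ IsConj (g⁻¹ * w * g) z := by
    rintro w (rfl | hw)
    · exact Or.inl (by group)
    · exact Or.inr ((isConj_iff.2 ⟨g⁻¹, by rw [inv_inv]⟩ : IsConj w (g⁻¹ * w * g)).symm.trans hw)
  have hxz : g⁻¹ * x * g * z = z * (g⁻¹ * x * g) := by
    rw [← hgz, show g⁻¹ * x * g * (g⁻¹ * D.val 168 * g) = g⁻¹ * (x * D.val 168) * g by group,
      grpA_comm D hx hsA]
    group
  obtain ⟨m, hm, hmx⟩ := D.val_surj _ hxz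
  refine ⟨m, hm, ?_, hmx⟩
  have hxm : D.val m * D.val a = D.val a * D.val m := by
    rw [hmx, ← hga, show g⁻¹ * x * g * (g⁻¹ * z * g) = g⁻¹ * (x * z) * g by group,
      grpA_comm D hx hzA]
    group
  have hmc : IsConj (D.val m) z :=
    hmx ▸ (hcj x (hpure x hx)).resolve_left (fun e => hx1 (by
      calc x = g * (g⁻¹ * x * g) * g⁻¹ := by group
        _ = 1 := by rw [e, mul_one, mul_inv_cancel]))
  obtain ⟨t, ht, hmt⟩ := fused_cls D hP hm hmc
  have h := List.all_eq_true.1 (List.all_eq_true.1 hW t ht) m hmt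
  rw [beq_true_iff.2 (D.mul_val_eq hm ha hxm), Bool.not_true, Bool.or_false] at h
  rcases Bool.or_eq_true_iff.1 h with h0 | hw
  · exact beq_true_iff.1 h0
  exfalso
  obtain ⟨c, -, hc⟩ := List.any_eq_true.1 hw
  simp only [witN, Bool.and_eq_true, Nat.blt_eq, beq_true_iff, Bool.or_eq_true,
    Bool.not_eq_true', List.any_eq_true] at hc
  obtain ⟨hlt, hca, hbad⟩ := hc
  -- the conjugate inside the group
  set c' := g * D.val c * g⁻¹ with hc'
  have hc'z : c' * z = z * c' := by
    have h2 := D.val_commute hlt ha hca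
    rw [← hga] at h2
    calc c' * z = g * (D.val c * (g⁻¹ * z * g)) * g⁻¹ := by rw [hc']; group
      _ = g * ((g⁻¹ * z * g) * D.val c) * g⁻¹ := by rw [h2]
      _ = z * c' := by rw [hc']; group
  obtain ⟨n, hn, hnc⟩ := D.val_surj c' hc'z
  have hx' : c' * x * c'⁻¹ ∈ grpA D := hnc ▸
    (Subgroup.mem_normalizer_iff.1 (val_mem_normalizer D hn) x).1 hx
  have hy : D.val (cjN 0 c m) = g⁻¹ * (c' * x * c'⁻¹) * g := by
    rw [D.val_cj hlt hm, hmx, hc']; group
  have hylt : cjN 0 c m < 21504 := cjN_lt hlt _ _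
  have hprod : D.val (mulN 0 (cjN 0 c m) m) = g⁻¹ * (c' * x * c'⁻¹ * x) * g := by
    rw [D.val_mul _ _ hylt hm, hy, hmx]; group
  rcases hbad with hne | ⟨u, hu, hgood⟩
  · rw [Bool.eq_false_iff] at hne
    refine hne (beq_true_iff.2 (D.mul_val_eq hylt hm ?_))
    rw [hy, hmx, show g⁻¹ * (c' * x * c'⁻¹) * g * (g⁻¹ * x * g) =
      g⁻¹ * (c' * x * c'⁻¹ * x) * g by group, grpA_comm D hx' hx]
    group
  · obtain ⟨w, hwA, hlu, hwu⟩ : ∃ w ∈ grpA D, u < 21504 ∧ D.val u = g⁻¹ * w * g := by
      have hzlt : zN < 21504 := Cen.zN_lt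
      simp only [List.mem_cons, List.not_mem_nil, or_false] at hu
      rcases hu with rfl | rfl | rfl | rfl
      · exact ⟨1, one_mem _, by norm_num, by rw [D.val_zero, mul_one, inv_mul_cancel]⟩
      · exact ⟨D.val 168, hsA, hzlt, by rw [D.val_z, hgz]⟩
      · exact ⟨z, hzA, ha, hga.symm⟩
      · refine ⟨D.val 168 * z, mul_mem hsA hzA, mulN_lt hzlt _ _, ?_⟩
        rw [D.val_mul _ _ hzlt ha, D.val_z, ← hga]
        nth_rewrite 1 [← hgz]
        group
    have hlt3 : mulN 0 (mulN 0 (cjN 0 c m) m) u < 21504 := mulN_lt (mulN_lt hylt _ _) _ _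
    have hval : D.val (mulN 0 (mulN 0 (cjN 0 c m) m) u) =
        g⁻¹ * (c' * x * c'⁻¹ * x * w) * g := by
      rw [D.val_mul _ _ (mulN_lt hylt _ _) hlu, hprod, hwu]; group
    have hg1 : goodN T (mulN 0 (mulN 0 (cjN 0 c m) m) u) = true := by
      simp only [goodN, Bool.or_eq_true, beq_true_iff, List.any_eq_true]
      rcases hcj _ (hpure _ (mul_mem (mul_mem hx' hx) hwA)) with e | e <;> rw [← hval] at e
      · exact Or.inl (D.val_eq_one hlt3 e)
      · obtain ⟨t', ht', hm'⟩ := fused_cls D hP hlt3 e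
        exact Or.inr ⟨t', ht', _, hm', rfl⟩
    rw [hg1] at hgood
    exact absurd hgood (by decide)

/-- The three other patterns have fused meets. -/
theorem false_of_meet (D : Cen 0 z) {R : Subgroup (Subgroup.centralizer ({z} : Set G))}
    [R.Normal] (hset : Cfsg.IsExtraspecialCentralizerSetting z R 3)
    (hmeet : Meet z (R.map (Subgroup.subtype _))) {T : List ℕ}
    (hT : T = vecT ∨ T = l5T ∨ T = m24T) (hP : Pattern D T) : False := by
  classical
  have h168T : 168 ∈ T := by rcases hT with rfl | rfl | rfl <;> decide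
  have h168 : IsConj (D.val 168) z := (hP 168 (by simp [reps])).2 h168T
  have hlt168 : (168 : ℕ) < 21504 := by norm_num
  have hs : D.val 168 ∈ R.map (Subgroup.subtype _) := (mem_core_iff D hset hlt168).2 rfl
  have hsz : D.val 168 ≠ z := fun e => by
    have := D.val_inj 168 zN hlt168 Cen.zN_lt (e.trans D.val_z.symm)
    norm_num [zN] at this
  obtain ⟨g, hg⟩ := isConj_iff.1 h168.symm
  obtain ⟨hw, -⟩ := hmeet g (hg ▸ hs) (hg ▸ hsz)
  obtain ⟨⟨w, hwC⟩, -, hwe⟩ := hw
  simp only [Subgroup.coe_subtype] at hwe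
  subst hwe
  obtain ⟨m, hm, hmw⟩ := D.val_surj _ (Subgroup.mem_centralizer_singleton_iff.1 hwC)
  have hm0 : m % 168 = 0 := (mem_core_iff D hset hm).1 (hmw ▸ (hmeet g (hg ▸ hs) (hg ▸ hsz)).1)
  have hmc : IsConj (D.val m) z := by
    rw [hmw]
    exact (isConj_iff.2 ⟨g⁻¹, by rw [inv_inv]⟩ : IsConj z (g⁻¹ * z * g)).symm
  obtain ⟨t, ht, hmt⟩ := fused_cls D hP hm hmc
  obtain ⟨n, hn, hc, ht', -⟩ := D.cls_conj hmt
  have htz : t ≠ zN := by
    intro e
    have hmz : m = zN := clsOf_zN_mem (e ▸ hmt)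
    rw [hmz, D.val_z] at hmw
    refine hsz ?_
    rw [← hg]
    calc g * z * g⁻¹ = g * (g⁻¹ * z * g) * g⁻¹ := by rw [← hmw]
      _ = z := by group
  have htT : t ∈ T := (List.mem_cons.1 ht).resolve_left htz
  have hta : t = 168 ∨ t = 1344 := by
    by_contra hno
    push Not at hno
    have hmem : t ∈ [21, 190, 1366] := by
      rcases hT with rfl | rfl | rfl <;>
        simp only [vecT, l5T, m24T, List.mem_cons, List.not_mem_nil, or_false] at htT ⊢ <;> omega
    have h := List.all_eq_true.1 (List.all_eq_true.1 out_check t hmem) m hmt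
    rw [show Nat.mod m 168 = 0 from hm0] at h
    exact absurd h (by decide)
  -- move the partner to the representative
  obtain ⟨g', hg', hga⟩ : ∃ g' : G, g' * z * g'⁻¹ = D.val 168 ∧ g'⁻¹ * z * g' = D.val t := by
    refine ⟨g * D.val n, ?_, ?_⟩
    · rw [← hg, show g * D.val n * z * (g * D.val n)⁻¹ = g * (D.val n * z * (D.val n)⁻¹) * g⁻¹ by
        group, D.val_comm n hn, mul_inv_cancel_right]
    · rw [← hc, D.val_cj hn ht'] at hmw
      rw [show (g * D.val n)⁻¹ * z * (g * D.val n) = (D.val n)⁻¹ * (g⁻¹ * z * g) * D.val n by group,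
        ← hmw]
      group
  have hcase : ∃ W, pureOK T t W = true := by
    have hpc := List.all_eq_true.1 pure_check
    rcases hT with rfl | rfl | rfl <;> rcases hta with rfl | rfl
    · exact ⟨_, hpc (vecT, 168, []) (by simp [pureCases])⟩
    · simp [vecT] at htT
    · exact ⟨_, hpc (l5T, 168, [14]) (by simp [pureCases])⟩
    · exact ⟨_, hpc (l5T, 1344, [4]) (by simp [pureCases])⟩
    · exact ⟨_, hpc (m24T, 168, [33, 14]) (by simp [pureCases])⟩
    · exfalso
      obtain ⟨rx, hrx, ex⟩ := List.mem_map.1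
        (show 168 ∈ splitTab.map Prod.fst by rw [splitTab_reps]; decide)
      obtain ⟨ry, hry, ey⟩ := List.mem_map.1
        (show 1344 ∈ splitTab.map Prod.fst by rw [splitTab_reps]; decide)
      have hT' : fusedList D = m24T := (fusedList_eq D hP).trans (by decide)
      refine m24_count rx hrx ry hry ex ey ?_
      rw [← hT', ← card_pair_row D hrx, ← card_pair_row D hry, ex, ey,
        card_pair_conj g'⁻¹ z (D.val 168) false false false, inv_inv, hga,
        show g'⁻¹ * D.val 168 * g' = z by rw [← hg']; group]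
      exact card_pair_symm (D.val_comm 1344 (by norm_num)) false false false
  obtain ⟨W, hW⟩ := hcase
  obtain ⟨-, y, hyR, hy', hy1, hyz⟩ := hmeet g' (hg' ▸ hs) (hg' ▸ hsz)
  -- the meet centralises, hence lies in, the group
  have hyA : y ∈ grpA D := by
    refine cent_grpA D fun x hx => ?_
    obtain ⟨k, hk, hk0, hkx⟩ := conj_mem_core D hP h168T hW ht' hg' hga hx
    obtain ⟨v, hv, rfl⟩ := (mem_grpA D).1 hx
    have hxm : aN v % 168 = 0 := aN_mod v (List.mem_range.2 hv)
    have key : ∀ {a b : ℕ}, a < 21504 → b < 21504 → a % 168 = 0 → b % 168 = 0 →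
        D.val a * D.val b * (D.val a)⁻¹ = D.val b ∨
          D.val a * D.val b * (D.val a)⁻¹ = z * D.val b := by
      intro a b ha hb ha0 hb0
      have h := allN_spec (allN_spec comm_check (a / 168) (by omega)) (b / 168) (by omega)
      simp only [Bool.or_eq_true, beq_true_iff] at h
      have ea : Nat.mul 168 (a / 168) = a := by show 168 * (a / 168) = a; omega
      have eb : Nat.mul 168 (b / 168) = b := by show 168 * (b / 168) = b; omega
      rw [ea, eb] at h
      rw [← D.val_cj ha hb]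
      rcases h with h | h <;> rw [h]
      · exact Or.inl rfl
      · exact Or.inr (by rw [D.val_mul _ _ Cen.zN_lt hb, D.val_z])
    have hyC : y * z = z * y := by
      obtain ⟨d, -, rfl⟩ := hyR
      exact Subgroup.mem_centralizer_singleton_iff.1 d.2
    have hy'C : g'⁻¹ * y * g' * z = z * (g'⁻¹ * y * g') := by
      obtain ⟨d, -, hd⟩ := hy'
      rw [← hd]
      exact Subgroup.mem_centralizer_singleton_iff.1 d.2
    obtain ⟨p, hp, hpy⟩ := D.val_surj y hyC
    obtain ⟨q, hq, hqy⟩ := D.val_surj _ hy'C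
    have h1 := key hp (aN_lt hv) ((mem_core_iff D hset hp).1 (hpy ▸ hyR)) hxm
    have h2 := key hq hk ((mem_core_iff D hset hq).1 (hqy ▸ hy')) hk0
    rw [hpy] at h1
    rw [hqy, hkx] at h2
    change y * aG D v * y⁻¹ = aG D v ∨ y * aG D v * y⁻¹ = z * aG D v at h1
    rcases h1 with h1 | h1
    · exact mul_inv_eq_iff_eq_mul.1 h1
    have e : g'⁻¹ * y * g' * (g'⁻¹ * aG D v * g') * (g'⁻¹ * y * g')⁻¹ =
        g'⁻¹ * (y * aG D v * y⁻¹) * g' := by group
    rw [e, h1] at h2
    rcases h2 with h2 | h2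
    · have h3 : z * aG D v = 1 * aG D v := by
        rw [one_mul]
        exact mul_left_cancel (mul_right_cancel h2)
      have hz1 : z = 1 := mul_right_cancel h3
      have ho := D.ord
      rw [hz1, orderOf_one] at ho
      exact absurd ho (by norm_num)
    · have h3 : z * aG D v = D.val 168 * aG D v := by
        calc z * aG D v = g' * (g'⁻¹ * (z * aG D v) * g') * g'⁻¹ := by group
          _ = g' * (z * (g'⁻¹ * aG D v * g')) * g'⁻¹ := by rw [h2]
          _ = g' * z * g'⁻¹ * aG D v := by group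
          _ = D.val 168 * aG D v := by rw [hg']
      exact absurd (mul_right_cancel h3).symm hsz
  obtain ⟨v, hv, rfl⟩ := (mem_grpA D).1 hyA
  rcases eq_or_ne v 0 with rfl | h0
  · exact hy1 (aG_zero D)
  refine hyz ?_
  rcases (aN_basic v (List.mem_range.2 hv)).2.2.2 h0 with e | e
  · rw [aG, e, D.val_z]
  · exact (D.cls_isConj e).symm.trans h168

end

/-- **Held type with unfused meets is He.** -/
theorem isoHe_of_meetType (hHe : StmtHe.{u}) {X : Type u} [Group X] [Finite X] {z : X}
    (h : MeetType z) : Cfsg.Spor.IsoHe X := by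
  obtain ⟨R, hR, hset, ⟨e⟩, hplus, hcount, hmeet⟩ := h
  have hcent : Subgroup.centralizer (R : Set (Subgroup.centralizer ({z} : Set X))) ≤ R := by
    rw [← hset.2.1]
    exact CfsgLib.Components.centralizer_fstar_le
  obtain ⟨j, t, ⟨Fr⟩⟩ :=
    exists_frame z hset.1 R hset.2.2.1 hset.2.2.2.1 hplus hcent e
  obtain ⟨D⟩ := exists_cen_of_frame z j t Fr
  have hk := model_eq_zero D hset hcount
  generalize 2 * j + t = k at D hk
  subst hk
  rcases split z D with hiso | ⟨D', hP⟩
  · obtain ⟨g, ⟨hq, hqR⟩, hne⟩ := hset.2.2.2.2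
    exact absurd (hiso g (Subgroup.mem_centralizer_singleton_iff.1 hq)) hne
  rcases hP with h | h | h | h
  · exact (false_of_meet D' hset hmeet (Or.inl rfl) h).elim
  · exact (false_of_meet D' hset hmeet (Or.inr (Or.inl rfl)) h).elim
  · exact (false_of_meet D' hset hmeet (Or.inr (Or.inr rfl)) h).elim
  · exact hHe D' h

end CfsgLib.Spor.HeTri
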