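import Cfsg.Agent.Lib.Spor.HeTri.L5Pair
import Cfsg.Agent.Lib.Spor.HeTri.FusRange

/-!
# Recognition of SL(5, 2) from the two stabilisers

The two embedded stabilisers give an embedding of SL(5, 2) whose image contains the centraliser
and controls the fusion.
-/

set_option autoImplicit false
set_option maxRecDepth 100000

namespace CfsgLib.Spor.HeTri

open CfsgLib.Spor.HeRecog

universe u

/-- The image of SL(5, 2) satisfies the hypotheses of the census. -/
theorem exists_sl5_subgroup (hM : StmtMat) {G : Type u} [Group G] [Finite G] {z : G}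
    {D : Cen 0 z} (hP : Pattern D l5T) (N : NormalA D) (φ : SL5 →* G)
    (hinj : Function.Injective φ)
    (hφ : ∀ a : ↥Aff, ((a : SL5) : M5) * Matrix.transvection 0 1 1 =
      Matrix.transvection 0 1 1 * ((a : SL5) : M5) → φ (a : SL5) = N.ψ a) :
    ∃ H : Subgroup G, Nonempty (H ≃* SL5) ∧ Subgroup.centralizer ({z} : Set G) ≤ H ∧
      ∀ x, x ∈ H → IsConj z x → ∃ h ∈ H, h * z * h⁻¹ = x :=
  ⟨φ.range, ⟨(MonoidHom.ofInjective hinj).symm⟩, centralizer_le_range hM N φ hφ,
    fusion_of_reps D hP φ.range (centralizer_le_range hM N φ hφ) (fused_in_range hM N φ hφ)⟩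

/-- A group in which that subgroup is everything is the linear group. -/
theorem l5_of_subgroup {G : Type u} [Group G] {H : Subgroup G} (hH : Nonempty (H ≃* SL5))
    (htop : H = ⊤) : Nonempty (G ≃* SL5) := by
  obtain ⟨e⟩ := hH
  subst htop
  exact ⟨Subgroup.topEquiv.symm.trans e⟩

/-- The mirrored centraliser has a normaliser of the second elementary abelian group. -/
theorem exists_normalA_mirror (hN : StmtNormalA.{u}) {G : Type u} [Group G] [Finite G] {z : G}
    {D : Cen 0 z} (hP : Pattern D l5T) : Nonempty (NormalA D.mirror) :=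
  hN D.mirror l5T (List.mem_cons_of_mem _ (List.mem_cons_self ..)) (pattern_mirror_l5 hP)

end CfsgLib.Spor.HeTri
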