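import Cfsg.Agent.Lib.Spor.HeTri.Interface
import Cfsg.Agent.Lib.StSL.Enum

/-!
# A map of `SL(5, 2)` from two embedded stabilisers

Embeddings of the stabiliser of the vector `e₀` and of the functional `x₁` that agree on their
intersection and see the whole centraliser of `1 + E₀₁` extend to an embedding of `SL(5, 2)`.
-/

set_option autoImplicit false
set_option maxRecDepth 10000

namespace CfsgLib.Spor.HeTri

open Matrix
open scoped commutatorElement

universe u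

theorem row1_mul {M N : M5} (h : ∀ j, M 1 j = if j = 1 then 1 else 0) (j : Fin 5) :
    (M * N) 1 j = N 1 j := by
  simp [Matrix.mul_apply, h, ite_mul]

theorem row1_inv {a b : SL5} (h : a * b = 1) (ha : ∀ j, a.1 1 j = if j = 1 then 1 else 0)
    (j : Fin 5) : b.1 1 j = if j = 1 then 1 else 0 := by
  have e : a.1 * b.1 = 1 := congrArg Subtype.val h
  have h' := row1_mul (N := b.1) ha j
  rw [e] at h'
  rw [← h', Matrix.one_apply]
  simp only [eq_comm]

/-- the stabiliser of the coordinate functional `x₁` -/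
def Row1 : Subgroup SL5 where
  carrier := {M | ∀ j, M.1 1 j = if j = 1 then 1 else 0}
  one_mem' j := by
    show (1 : M5) 1 j = _
    simp [Matrix.one_apply, eq_comm]
  mul_mem' {a b} ha hb j := (row1_mul (N := b.1) ha j).trans (hb j)
  inv_mem' {a} ha := row1_inv (mul_inv_cancel a) ha

namespace L5

/-- the first column is that of the identity -/
def InA (M : SL5) : Prop := ∀ i, M.1 i 0 = if i = 0 then 1 else 0

/-- the second row is that of the identity -/
def InB (M : SL5) : Prop := ∀ j, M.1 1 j = if j = 1 then 1 else 0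

instance (M : SL5) : Decidable (InA M) := by unfold InA; infer_instance
instance (M : SL5) : Decidable (InB M) := by unfold InB; infer_instance

theorem mem_aff {M : SL5} : M ∈ Aff ↔ InA M := by
  rw [MulAction.mem_stabilizer_iff]
  show M.1 *ᵥ e0 = e0 ↔ InA M
  rw [funext_iff, InA]
  simp [e0, Pi.single_apply]

theorem mem_row1 {M : SL5} : M ∈ Row1 ↔ InB M := Iff.rfl

theorem inA_mul {a b : SL5} (ha : InA a) (hb : InA b) : InA (a * b) :=
  mem_aff.1 (Aff.mul_mem (mem_aff.2 ha) (mem_aff.2 hb))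

theorem inB_mul {a b : SL5} (ha : InB a) (hb : InB b) : InB (a * b) :=
  mem_row1.1 (Row1.mul_mem (mem_row1.2 ha) (mem_row1.2 hb))

/-- transvections -/
abbrev t (i j : Fin 5) : SL5 := StSL.tv i j 1

/-- the reflection of the last node -/
def w4 : SL5 := t 4 1 * t 1 4 * t 4 1

/-- the reflection of the first node -/
def w1 : SL5 := t 0 2 * t 2 0 * t 0 2

/-- the candidates for `(w1 w4)²` -/
def U (p q r s : ZMod 2) : SL5 :=
  StSL.tv 0 1 p * StSL.tv 0 4 q * StSL.tv 2 1 r * StSL.tv 2 4 s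

theorem U_entries : ∀ p q r s : ZMod 2, (U p q r s).1 = Matrix.of fun i j : Fin 5 =>
    if i = 0 ∧ j = 1 then p else if i = 0 ∧ j = 4 then q else if i = 2 ∧ j = 1 then r
      else if i = 2 ∧ j = 4 then s else if i = j then 1 else 0 := by
  decide +kernel

theorem U_mem : ∀ p q r s : ZMod 2, InA (U p q r s) ∧ InB (U p q r s) ∧
    InA (w1 * U p q r s * w1) ∧ InB (w1 * U p q r s * w1) := by
  decide +kernel

theorem U_fix : ∀ p q r s : ZMod 2, w4 * U p q r s * w4 * U p q r s = 1 →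
    w1 * U p q r s * w1 * U p q r s = 1 → U p q r s = 1 ∨ U p q r s = U 1 1 1 1 := by
  decide +kernel

/-- two embeddings of stabilisers -/
structure Amal (G : Type u) [Group G] where
  ψA : ↥Aff →* G
  ψB : ↥Row1 →* G
  inj : Function.Injective ψA
  agree : ∀ (a : ↥Aff) (b : ↥Row1), (a : SL5) = b → ψA a = ψB b
  cent : ∀ (h : t 0 1 ∈ Aff) (g : G), g * ψA ⟨t 0 1, h⟩ = ψA ⟨t 0 1, h⟩ * g →
    ∃ a : ↥Aff, (a : SL5) * t 0 1 = t 0 1 * a ∧ ψA a = g

namespace Amal

variable {G : Type u} [Group G] (S : Amal G)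

/-- the first embedding as a function on all matrices -/
def fA (M : SL5) : G := if h : InA M then S.ψA ⟨M, mem_aff.2 h⟩ else 1

/-- the second embedding as a function on all matrices -/
def fB (M : SL5) : G := if h : InB M then S.ψB ⟨M, mem_row1.2 h⟩ else 1

theorem fA_eq {M : SL5} (h : InA M) : S.fA M = S.ψA ⟨M, mem_aff.2 h⟩ := dif_pos h

theorem fB_eq {M : SL5} (h : InB M) : S.fB M = S.ψB ⟨M, mem_row1.2 h⟩ := dif_pos h

theorem fA_mul {a b : SL5} (ha : InA a) (hb : InA b) : S.fA (a * b) = S.fA a * S.fA b := by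
  rw [S.fA_eq ha, S.fA_eq hb, S.fA_eq (inA_mul ha hb), ← map_mul]; rfl

theorem fB_mul {a b : SL5} (ha : InB a) (hb : InB b) : S.fB (a * b) = S.fB a * S.fB b := by
  rw [S.fB_eq ha, S.fB_eq hb, S.fB_eq (inB_mul ha hb), ← map_mul]; rfl

theorem fA_one : S.fA 1 = 1 := by
  rw [S.fA_eq (by decide +kernel : InA (1 : SL5))]; exact map_one S.ψA

theorem fB_one : S.fB 1 = 1 := by
  rw [S.fB_eq (by decide +kernel : InB (1 : SL5))]; exact map_one S.ψB

theorem fA_inj {a b : SL5} (ha : InA a) (hb : InA b) (h : S.fA a = S.fA b) : a = b := by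
  rw [S.fA_eq ha, S.fA_eq hb] at h
  exact congrArg Subtype.val (S.inj h)

theorem fAB {a : SL5} (ha : InA a) (hb : InB a) : S.fA a = S.fB a := by
  rw [S.fA_eq ha, S.fB_eq hb]; exact S.agree _ _ rfl

theorem cA {g x y : SL5} (hg : InA g) (hx : InA x) (hy : InA y) (h : g * x = y * g) :
    S.fA g * S.fA x * (S.fA g)⁻¹ = S.fA y := by
  rw [mul_inv_eq_iff_eq_mul, ← S.fA_mul hg hx, ← S.fA_mul hy hg, h]

theorem cB {g x y : SL5} (hg : InB g) (hx : InB x) (hy : InB y) (h : g * x = y * g) :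
    S.fB g * S.fB x * (S.fB g)⁻¹ = S.fB y := by
  rw [mul_inv_eq_iff_eq_mul, ← S.fB_mul hg hx, ← S.fB_mul hy hg, h]

/-- the image of `w4` -/
def W4 : G := S.fA w4

/-- the image of `w1` -/
def W1 : G := S.fB w1

theorem W4_sq : S.W4 * S.W4 = 1 := by
  rw [W4, ← S.fA_mul (by decide +kernel) (by decide +kernel),
    show w4 * w4 = 1 by decide +kernel, fA_one]

theorem W1_sq : S.W1 * S.W1 = 1 := by
  rw [W1, ← S.fB_mul (by decide +kernel) (by decide +kernel),
    show w1 * w1 = 1 by decide +kernel, fB_one]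

theorem W4_inv : S.W4⁻¹ = S.W4 := inv_eq_of_mul_eq_one_right S.W4_sq

theorem W1_inv : S.W1⁻¹ = S.W1 := inv_eq_of_mul_eq_one_right S.W1_sq

theorem w4A : InA w4 := by decide +kernel

theorem w1B : InB w1 := by decide +kernel

/-- one step across the last node -/
theorem step4 {x y : SL5} (h : InA x ∧ InA y ∧ w4 * x = y * w4) :
    S.W4 * S.fA x * S.W4 = S.fA y := by
  have := S.cA w4A h.1 h.2.1 h.2.2
  rwa [← W4, W4_inv] at this

/-- one step across the first node -/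
theorem step1 {x y : SL5} (h : InB x ∧ InB y ∧ w1 * x = y * w1) :
    S.W1 * S.fB x * S.W1 = S.fB y := by
  have := S.cB w1B h.1 h.2.1 h.2.2
  rwa [← W1, W1_inv] at this

/-- the square of the product of the two end reflections -/
def c : G := S.W1 * S.W4 * S.W1 * S.W4

theorem c_inv : S.c⁻¹ = S.W4 * S.W1 * S.W4 * S.W1 := by
  simp only [c, _root_.mul_inv_rev, W1_inv, W4_inv, mul_assoc]

/-- a path through both nodes twice -/
def Path (x x1 x2 x3 x4 : SL5) : Prop :=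
  (InA x ∧ InA x1 ∧ w4 * x = x1 * w4) ∧ (InB x1 ∧ InB x2 ∧ w1 * x1 = x2 * w1) ∧
    (InA x2 ∧ InA x3 ∧ w4 * x2 = x3 * w4) ∧ (InB x3 ∧ InB x4 ∧ w1 * x3 = x4 * w1)

instance (x x1 x2 x3 x4 : SL5) : Decidable (Path x x1 x2 x3 x4) := by unfold Path; infer_instance

theorem four {x x1 x2 x3 x4 : SL5} (h : Path x x1 x2 x3 x4) :
    S.c * S.fA x * S.c⁻¹ = S.fB x4 := by
  obtain ⟨ha, hb, hc, hd⟩ := h
  have e : S.c * S.fA x * S.c⁻¹ =
      S.W1 * (S.W4 * (S.W1 * (S.W4 * S.fA x * S.W4) * S.W1) * S.W4) * S.W1 := by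
    rw [c_inv, c]; simp only [mul_assoc]
  rw [e, S.step4 ha, S.fAB ha.2.1 hb.1, S.step1 hb, ← S.fAB hc.1 hb.2.1, S.step4 hc,
    S.fAB hc.2.1 hd.1, S.step1 hd]

theorem c_root {M x : SL5} (hM : InA M) (hc : S.fA M = S.c)
    (h : ∃ x1 x2 x3 : SL5, Path x x1 x2 x3 x) : M * x = x * M := by
  obtain ⟨x1, x2, x3, h⟩ := h
  have e := S.four h
  rw [← hc, ← S.fAB h.1.1 h.2.2.2.2.1, mul_inv_eq_iff_eq_mul] at e
  refine S.fA_inj (inA_mul hM h.1.1) (inA_mul h.1.1 hM) ?_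
  rw [S.fA_mul hM h.1.1, S.fA_mul h.1.1 hM, e]

theorem comm_entries {M : SL5} {i j : Fin 5} (hij : i ≠ j) (h : M * t i j = t i j * M)
    (k l : Fin 5) : (if l = j then M.1 k i else 0) = if k = i then M.1 j l else 0 := by
  have hv : M.1 * (StSL.tv i j (1 : ZMod 2)).1 = (StSL.tv i j (1 : ZMod 2)).1 * M.1 :=
    congrArg Subtype.val h
  rw [StSL.tv_coe hij, Matrix.transvection] at hv
  rw [mul_add, add_mul, mul_one, one_mul] at hv
  have e := congrFun (congrFun hv k) l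
  rw [Matrix.add_apply, Matrix.add_apply, add_right_inj] at e
  by_cases hl : l = j <;> by_cases hk : k = i <;> simp_all

set_option maxHeartbeats 1000000 in
/-- `(w1 w4)²` is one of sixteen matrices -/
theorem exists_U : ∃ p q r s, S.fA (U p q r s) = S.c := by
  have hz : InA (t 0 1) := by decide +kernel
  have hzc : S.c * S.fA (t 0 1) * S.c⁻¹ = S.fA (t 0 1) := by
    rw [S.four (x1 := t 0 4) (x2 := t 2 4) (x3 := t 2 1) (x4 := t 0 1) (by decide +kernel),
      S.fAB hz (by decide +kernel)]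
  rw [mul_inv_eq_iff_eq_mul, S.fA_eq hz] at hzc
  obtain ⟨a, ha, hac⟩ := S.cent (mem_aff.2 hz) S.c hzc
  have hA := mem_aff.1 a.2
  set M : SL5 := (a : SL5)
  have hfM : S.fA M = S.c := by rw [S.fA_eq hA, ← hac]
  have h01 := comm_entries (by decide) ha
  have h03 := comm_entries (by decide) (S.c_root hA hfM (x := t 0 3)
    ⟨t 0 3, t 2 3, t 2 3, by decide +kernel⟩)
  have h04 := comm_entries (by decide) (S.c_root hA hfM (x := t 0 4)
    ⟨t 0 1, t 2 1, t 2 4, by decide +kernel⟩)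
  have h21 := comm_entries (by decide) (S.c_root hA hfM (x := t 2 1)
    ⟨t 2 4, t 0 4, t 0 1, by decide +kernel⟩)
  have h31 := comm_entries (by decide) (S.c_root hA hfM (x := t 3 1)
    ⟨t 3 4, t 3 4, t 3 1, by decide +kernel⟩)
  refine ⟨M.1 0 1, M.1 0 4, M.1 2 1, M.1 2 4, ?_⟩
  rw [show U (M.1 0 1) (M.1 0 4) (M.1 2 1) (M.1 2 4) = M from ?_, hfM]
  refine Subtype.ext ((U_entries _ _ _ _).trans (Matrix.ext fun i j => ?_))
  have d1 := h01 0 1
  have d3 := h03 0 3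
  have d4 := h04 0 4
  have d2 := h21 2 1
  have a0 : M.1 0 0 = 1 := hA 0
  simp only [a0] at d1 d3 d4 d2
  have r1 : ∀ l, l ≠ 1 → M.1 1 l = 0 := fun l hl => by
    have e := h01 0 l
    rw [if_neg hl, if_pos rfl] at e
    exact e.symm
  have r3 : ∀ l, l ≠ 3 → M.1 3 l = 0 := fun l hl => by
    have e := h03 0 l
    rw [if_neg hl, if_pos rfl] at e
    exact e.symm
  have r4 : ∀ l, l ≠ 4 → M.1 4 l = 0 := fun l hl => by
    have e := h04 0 l
    rw [if_neg hl, if_pos rfl] at e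
    exact e.symm
  have k0 : ∀ k, k ≠ 0 → M.1 k 0 = 0 := fun k hk => by rw [hA k, if_neg hk]
  have k2 : ∀ k, k ≠ 2 → M.1 k 2 = 0 := fun k hk => by
    have e := h21 k 1
    rw [if_pos rfl, if_neg hk] at e
    exact e
  have k3 : ∀ k, k ≠ 3 → M.1 k 3 = 0 := fun k hk => by
    have e := h31 k 1
    rw [if_pos rfl, if_neg hk] at e
    exact e
  fin_cases i <;> fin_cases j <;> simp_all

/-- `(w1 w4)²` is trivial or one exceptional matrix -/
theorem c_cases : S.c = 1 ∨ S.fA (U 1 1 1 1) = S.c := by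
  obtain ⟨p, q, r, s, hU⟩ := S.exists_U
  obtain ⟨hA, hB, hA1, hB1⟩ := U_mem p q r s
  have hA4 : InA (w4 * U p q r s * w4) := inA_mul (inA_mul w4A hA) w4A
  have e4 : w4 * U p q r s * w4 * U p q r s = 1 := by
    refine S.fA_inj (inA_mul hA4 hA) (by decide +kernel) ?_
    rw [S.fA_mul hA4 hA, S.fA_mul (inA_mul w4A hA) w4A, S.fA_mul w4A hA, fA_one, hU, ← W4, c]
    simp only [mul_assoc]
    simp only [← mul_assoc S.W4 S.W4, ← mul_assoc S.W1 S.W1, W4_sq, W1_sq, one_mul]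
  have e1 : w1 * U p q r s * w1 * U p q r s = 1 := by
    refine S.fA_inj (inA_mul hA1 hA) (by decide +kernel) ?_
    rw [S.fA_mul hA1 hA, S.fAB hA1 hB1, S.fB_mul (inB_mul w1B hB) w1B, S.fB_mul w1B hB,
      ← S.fAB hA hB, fA_one, hU, ← W1, c]
    simp only [mul_assoc]
    simp only [← mul_assoc S.W4 S.W4, ← mul_assoc S.W1 S.W1, W4_sq, W1_sq, one_mul]
  rcases U_fix p q r s e4 e1 with h | h
  · left; rw [← hU, h, fA_one]
  · right; rw [← h]; exact hU

theorem both_comm {M : SL5} (hA : InA M) (hB : InB M) : t 0 1 * M = M * t 0 1 := by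
  refine Subtype.ext ?_
  show (StSL.tv (0 : Fin 5) 1 (1 : ZMod 2)).1 * M.1 = M.1 * (StSL.tv (0 : Fin 5) 1 (1 : ZMod 2)).1
  rw [StSL.tv_coe (by decide), Matrix.transvection, mul_add, add_mul, mul_one, one_mul]
  congr 1
  ext k l
  by_cases hl : l = 1 <;> by_cases hk : k = 0 <;> simp_all [InA, InB]

/-- `1 + E₀₁` in the stabiliser -/
def zA : ↥Aff := ⟨t 0 1, mem_aff.2 (by decide +kernel)⟩

omit S in
theorem comp_inj {H : Type} [Group H] {ψ : H →* G} (h : Function.Injective ψ) (z : H) :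
    Function.Injective (ψ.comp (MulAut.conj z).toMonoidHom) :=
  fun _ _ e => (MulAut.conj z).injective (h e)

omit S in
theorem comp_apply_comm {H : Type} [Group H] (ψ : H →* G) {z a : H} (h : z * a = a * z) :
    ψ.comp (MulAut.conj z).toMonoidHom a = ψ a := by
  rw [MonoidHom.comp_apply, MulEquiv.coe_toMonoidHom, MulAut.conj_apply, h, mul_inv_cancel_right]

theorem zA_comm {a : ↥Aff} (h : (a : SL5) * t 0 1 = t 0 1 * a) : zA * a = a * zA :=
  Subtype.ext h.symm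

/-- the first embedding composed with conjugation by `1 + E₀₁` -/
def twist : Amal G where
  ψA := S.ψA.comp (MulAut.conj zA).toMonoidHom
  ψB := S.ψB
  inj := comp_inj S.inj zA
  agree a b h :=
    (comp_apply_comm S.ψA
      (zA_comm (both_comm (mem_aff.1 a.2) (h ▸ mem_row1.1 b.2)).symm)).trans (S.agree a b h)
  cent hz g hg := by
    rw [comp_apply_comm S.ψA (zA_comm (a := ⟨t 0 1, hz⟩) rfl)] at hg
    obtain ⟨a, ha, hag⟩ := S.cent hz g hg
    exact ⟨a, ha, (comp_apply_comm S.ψA (zA_comm ha)).trans hag⟩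

theorem z_sq : S.fA (t 0 1) * S.fA (t 0 1) = 1 := by
  rw [← S.fA_mul (by decide +kernel) (by decide +kernel),
    show t 0 1 * t 0 1 = 1 by decide +kernel, fA_one]

theorem twist_fA {M : SL5} (h : InA M) :
    S.twist.fA M = S.ψA zA * S.fA M * (S.ψA zA)⁻¹ := by
  rw [S.twist.fA_eq h, S.fA_eq h, ← map_inv, ← map_mul, ← map_mul]
  rfl

theorem twist_fB (M : SL5) : S.twist.fB M = S.fB M := by
  by_cases h : InB M
  · rw [S.twist.fB_eq h, S.fB_eq h]; rfl
  · rw [fB, fB, dif_neg h, dif_neg h]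

theorem ψA_zA {hz : InA (t 0 1)} : S.ψA zA = S.fA (t 0 1) := by
  rw [S.fA_eq hz]; rfl

theorem twist_W4 : S.twist.W4 = S.fA (t 0 1) * S.W4 * S.fA (t 0 1) := by
  have hz : InA (t 0 1) := by decide +kernel
  unfold W4
  rw [S.twist_fA w4A, S.ψA_zA (hz := hz), inv_eq_of_mul_eq_one_right S.z_sq]

theorem twist_W1 : S.twist.W1 = S.W1 := by
  unfold W1
  exact S.twist_fB w1

theorem twist_c (h : S.fA (U 1 1 1 1) = S.c) : S.twist.c = 1 := by
  have hz : InA (t 0 1) := by decide +kernel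
  have hzB : InB (t 0 1) := by decide +kernel
  have a04 : InA (t 0 4) ∧ InB (t 0 4) := by decide +kernel
  have a21 : InA (t 2 1) ∧ InB (t 2 1) := by decide +kernel
  have a24 : InA (t 2 4) ∧ InB (t 2 4) := by decide +kernel
  have m1 : S.W4 * S.fA (t 0 1) = S.fA (t 0 4) * S.W4 := by
    rw [W4, ← S.fA_mul w4A hz, ← S.fA_mul a04.1 w4A,
      show w4 * t 0 1 = t 0 4 * w4 by decide +kernel]
  have m2 : S.W1 * S.fA (t 0 4) = S.fA (t 2 4) * S.W1 := by
    rw [W1, S.fAB a04.1 a04.2, S.fAB a24.1 a24.2, ← S.fB_mul w1B a04.2, ← S.fB_mul a24.2 w1B,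
      show w1 * t 0 4 = t 2 4 * w1 by decide +kernel]
  have m3 : S.W1 * S.fA (t 0 1) = S.fA (t 2 1) * S.W1 := by
    rw [W1, S.fAB hz hzB, S.fAB a21.1 a21.2, ← S.fB_mul w1B hzB, ← S.fB_mul a21.2 w1B,
      show w1 * t 0 1 = t 2 1 * w1 by decide +kernel]
  have m4 : S.W4 * S.fA (t 2 1) = S.fA (t 2 4) * S.W4 := by
    rw [W4, ← S.fA_mul w4A a21.1, ← S.fA_mul a24.1 w4A,
      show w4 * t 2 1 = t 2 4 * w4 by decide +kernel]
  have m5 : S.W1 * S.fA (t 2 4) = S.fA (t 0 4) * S.W1 := by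
    rw [W1, S.fAB a04.1 a04.2, S.fAB a24.1 a24.2, ← S.fB_mul w1B a24.2, ← S.fB_mul a04.2 w1B,
      show w1 * t 2 4 = t 0 4 * w1 by decide +kernel]
  rw [c, twist_W4, twist_W1]
  calc S.W1 * (S.fA (t 0 1) * S.W4 * S.fA (t 0 1)) * S.W1 * (S.fA (t 0 1) * S.W4 * S.fA (t 0 1))
        = (S.W1 * S.fA (t 0 1)) * (S.W4 * S.fA (t 0 1)) * (S.W1 * S.fA (t 0 1)) *
            (S.W4 * S.fA (t 0 1)) := by simp only [mul_assoc]
    _ = S.fA (t 2 1) * (S.W1 * S.fA (t 0 4)) * (S.W4 * S.fA (t 2 1)) * (S.W1 * S.W4 * S.fA (t 0 1)) := by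
          conv_lhs => rw [m3, m1]
          simp only [mul_assoc]
          rw [← m1]
    _ = S.fA (t 2 1) * S.fA (t 2 4) * (S.W1 * S.fA (t 2 4)) * (S.W4 * S.W1 * S.W4 * S.fA (t 0 1)) := by
          rw [m2, m4]; simp only [mul_assoc]
    _ = S.fA (t 2 1) * S.fA (t 2 4) * S.fA (t 0 4) * S.fA (U 1 1 1 1) * S.fA (t 0 1) := by
          rw [m5, h, c]; simp only [mul_assoc]
    _ = 1 := by
          rw [← S.fA_mul a21.1 a24.1, ← S.fA_mul (inA_mul a21.1 a24.1) a04.1,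
            ← S.fA_mul (by decide +kernel) (by decide +kernel),
            ← S.fA_mul (by decide +kernel) hz,
            show t 2 1 * t 2 4 * t 0 4 * U 1 1 1 1 * t 0 1 = 1 by decide +kernel, fA_one]

variable (hc : S.c = 1)
include hc

/-- the two end reflections commute -/
theorem w_comm : S.W4 * S.W1 = S.W1 * S.W4 := by
  have e : S.W1 * S.W4 * (S.W1 * S.W4) = 1 := by rw [← mul_assoc]; exact hc
  calc S.W4 * S.W1 = (S.W1 * S.W4)⁻¹ := by rw [_root_.mul_inv_rev, W1_inv, W4_inv]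
    _ = S.W1 * S.W4 := inv_eq_of_mul_eq_one_right e

/-- `t 2 0` commutes with the last reflection -/
theorem W4_x20 : S.W4 * S.fB (t 2 0) * S.W4 = S.fB (t 2 0) := by
  rw [← S.step1 (x := t 0 2) (y := t 2 0) (by decide +kernel)]
  have e : S.W4 * S.fB (t 0 2) * S.W4 = S.fB (t 0 2) := by
    rw [← S.fAB (a := t 0 2) (by decide +kernel) (by decide +kernel)]
    exact S.step4 (by decide +kernel)
  calc S.W4 * (S.W1 * S.fB (t 0 2) * S.W1) * S.W4
        = (S.W4 * S.W1) * S.fB (t 0 2) * (S.W1 * S.W4) := by simp only [mul_assoc]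
    _ = (S.W1 * S.W4) * S.fB (t 0 2) * (S.W4 * S.W1) := by rw [(S.w_comm hc)]
    _ = S.W1 * (S.W4 * S.fB (t 0 2) * S.W4) * S.W1 := by simp only [mul_assoc]
    _ = S.W1 * S.fB (t 0 2) * S.W1 := by rw [e]

/-- `t 1 4` commutes with the first reflection -/
theorem W1_x14 : S.W1 * S.fA (t 1 4) * S.W1 = S.fA (t 1 4) := by
  rw [← S.step4 (x := t 4 1) (y := t 1 4) (by decide +kernel)]
  have e : S.W1 * S.fA (t 4 1) * S.W1 = S.fA (t 4 1) := by
    rw [S.fAB (a := t 4 1) (by decide +kernel) (by decide +kernel)]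
    exact S.step1 (by decide +kernel)
  calc S.W1 * (S.W4 * S.fA (t 4 1) * S.W4) * S.W1
        = (S.W1 * S.W4) * S.fA (t 4 1) * (S.W4 * S.W1) := by simp only [mul_assoc]
    _ = (S.W4 * S.W1) * S.fA (t 4 1) * (S.W1 * S.W4) := by rw [(S.w_comm hc)]
    _ = S.W4 * (S.W1 * S.fA (t 4 1) * S.W1) * S.W4 := by simp only [mul_assoc]
    _ = S.W4 * S.fA (t 4 1) * S.W4 := by rw [e]

/-- the only non-local relation -/
theorem special : Commute (S.fB (t 2 0)) (S.fA (t 1 4)) := by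
  have h1 : Commute (S.fB (t 0 2)) (S.fA (t 1 4)) := by
    rw [← S.fAB (a := t 0 2) (by decide +kernel) (by decide +kernel), Commute, SemiconjBy,
      ← S.fA_mul (by decide +kernel) (by decide +kernel),
      ← S.fA_mul (by decide +kernel) (by decide +kernel),
      show t 0 2 * t 1 4 = t 1 4 * t 0 2 by decide +kernel]
  have h2 := h1.map (MulAut.conj S.W1)
  simp only [MulAut.conj_apply, W1_inv] at h2
  rwa [S.step1 (y := t 2 0) (by decide +kernel), (S.W1_x14 hc)] at h2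

/-- the relation obtained from it by exchanging the indices 2 and 4 -/
theorem special' : Commute (S.fB (t 4 0)) (S.fA (t 1 2)) := by
  have hg : InA (t 2 4 * t 4 2 * t 2 4) := by decide +kernel
  have hgB : InB (t 2 4 * t 4 2 * t 2 4) := by decide +kernel
  have h := (S.special hc).map (MulAut.conj (S.fA (t 2 4 * t 4 2 * t 2 4)))
  simp only [MulAut.conj_apply] at h
  rwa [S.cA (y := t 1 2) hg (by decide +kernel) (by decide +kernel) (by decide +kernel),
    S.fAB hg hgB,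
    S.cB (y := t 4 0) hgB (by decide +kernel) (by decide +kernel) (by decide +kernel)] at h

omit hc in
/-- the images of the transvections -/
def X (i j : Fin 5) : G :=
  if i = 1 ∧ j = 0 then S.W4 * S.fB (t 4 0) * S.W4 else if j ≠ 0 then S.fA (t i j) else S.fB (t i j)

omit hc in
theorem tv_mem : ∀ i j : Fin 5, i ≠ j → (j ≠ 0 → InA (t i j)) ∧ (i ≠ 1 → InB (t i j)) := by
  decide +kernel

omit hc in
theorem X_A {i j : Fin 5} (hj : j ≠ 0) : S.X i j = S.fA (t i j) := by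
  rw [X, if_neg (fun h => hj h.2), if_pos hj]

omit hc in
theorem X_B {i j : Fin 5} (hij : i ≠ j) (hi : i ≠ 1) : S.X i j = S.fB (t i j) := by
  rw [X, if_neg (fun h => hi h.1)]
  by_cases hj : j = 0
  · rw [if_neg (not_not.2 hj)]
  · rw [if_pos hj, S.fAB ((tv_mem i j hij).1 hj) ((tv_mem i j hij).2 hi)]

omit hc in
theorem X_ten : S.X 1 0 = S.W4 * S.fB (t 4 0) * S.W4 := if_pos ⟨rfl, rfl⟩

theorem X_ten' : S.X 1 0 = S.W1 * S.fA (t 1 2) * S.W1 := by
  rw [X_ten, ← S.step1 (x := t 4 2) (y := t 4 0) (by decide +kernel),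
    ← S.step4 (x := t 4 2) (y := t 1 2) (by decide +kernel),
    S.fAB (a := t 4 2) (by decide +kernel) (by decide +kernel)]
  calc S.W4 * (S.W1 * S.fB (t 4 2) * S.W1) * S.W4
        = (S.W4 * S.W1) * S.fB (t 4 2) * (S.W1 * S.W4) := by simp only [mul_assoc]
    _ = (S.W1 * S.W4) * S.fB (t 4 2) * (S.W4 * S.W1) := by rw [(S.w_comm hc)]
    _ = S.W1 * (S.W4 * S.fB (t 4 2) * S.W4) * S.W1 := by simp only [mul_assoc]

omit hc in
/-- conjugation by the element permutes the images -/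
def Eqv (w : G) (σ : Equiv.Perm (Fin 5)) : Prop :=
  ∀ i j, i ≠ j → MulAut.conj w (S.X i j) = S.X (σ i) (σ j)

omit hc in
theorem eqv_one : S.Eqv 1 1 := fun i j _ => by simp

omit hc in
theorem eqv_mul {w w' : G} {σ σ' : Equiv.Perm (Fin 5)} (h : S.Eqv w σ) (h' : S.Eqv w' σ') :
    S.Eqv (w * w') (σ * σ') := fun i j hij => by
  rw [map_mul, MulAut.mul_apply, h' i j hij, h _ _ (σ'.injective.ne hij)]; rfl

theorem eqv_W4 : S.Eqv S.W4 (Equiv.swap 4 1) := by
  intro i j hij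
  rw [MulAut.conj_apply, W4_inv]
  by_cases hj : j = 0
  · subst hj
    have e32 : S.W4 * S.fB (t 3 2) * S.W4 = S.fB (t 3 2) := by
      rw [← S.fAB (a := t 3 2) (by decide +kernel) (by decide +kernel)]
      exact S.step4 (by decide +kernel)
    fin_cases i
    · exact absurd rfl hij
    · show S.W4 * S.X 1 0 * S.W4 = S.X 4 0
      rw [X_ten, S.X_B (by decide) (by decide)]
      simp only [mul_assoc, W4_sq, mul_one]
      rw [← mul_assoc, W4_sq, one_mul]
    · show S.W4 * S.X 2 0 * S.W4 = S.X 2 0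
      rw [S.X_B (by decide) (by decide)]
      exact (S.W4_x20 hc)
    · show S.W4 * S.X 3 0 * S.W4 = S.X 3 0
      have h : S.fB (t 3 0) = ⁅S.fB (t 3 2), S.fB (t 2 0)⁆ := by
        rw [commutatorElement_def, ← S.fB_mul (by decide +kernel) (by decide +kernel),
          mul_assoc, ← _root_.mul_inv_rev, ← S.fB_mul (by decide +kernel) (by decide +kernel),
          eq_mul_inv_iff_mul_eq, ← S.fB_mul (by decide +kernel) (by decide +kernel),
          show t 3 0 * (t 2 0 * t 3 2) = t 3 2 * t 2 0 by decide +kernel]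
      rw [S.X_B (by decide) (by decide), h]
      have h' := map_commutatorElement (MulAut.conj S.W4).toMonoidHom (S.fB (t 3 2)) (S.fB (t 2 0))
      simp only [MulEquiv.coe_toMonoidHom, MulAut.conj_apply, W4_inv, e32, S.W4_x20 hc] at h'
      exact h'
    · show S.W4 * S.X 4 0 * S.W4 = S.X 1 0
      rw [X_ten, S.X_B (by decide) (by decide)]
  · have key : ∀ i j : Fin 5, i ≠ j → j ≠ 0 → Equiv.swap 4 1 j ≠ 0 ∧ InA (t i j) ∧
        InA (t (Equiv.swap 4 1 i) (Equiv.swap 4 1 j)) ∧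
        w4 * t i j = t (Equiv.swap 4 1 i) (Equiv.swap 4 1 j) * w4 := by decide +kernel
    obtain ⟨h0, h1⟩ := key i j hij hj
    rw [S.X_A hj, S.X_A h0]
    exact S.step4 h1

theorem eqv_W1 : S.Eqv S.W1 (Equiv.swap 0 2) := by
  intro i j hij
  rw [MulAut.conj_apply, W1_inv]
  by_cases hi : i = 1
  · subst hi
    have e43 : S.W1 * S.fA (t 4 3) * S.W1 = S.fA (t 4 3) := by
      rw [S.fAB (a := t 4 3) (by decide +kernel) (by decide +kernel)]
      exact S.step1 (by decide +kernel)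
    fin_cases j
    · show S.W1 * S.X 1 0 * S.W1 = S.X 1 2
      rw [S.X_ten' hc, S.X_A (by decide)]
      simp only [mul_assoc, W1_sq, mul_one]
      rw [← mul_assoc, W1_sq, one_mul]
    · exact absurd rfl hij
    · show S.W1 * S.X 1 2 * S.W1 = S.X 1 0
      rw [S.X_ten' hc, S.X_A (by decide)]
    · show S.W1 * S.X 1 3 * S.W1 = S.X 1 3
      have h : S.fA (t 1 3) = ⁅S.fA (t 1 4), S.fA (t 4 3)⁆ := by
        rw [commutatorElement_def, ← S.fA_mul (by decide +kernel) (by decide +kernel),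
          mul_assoc, ← _root_.mul_inv_rev, ← S.fA_mul (by decide +kernel) (by decide +kernel),
          eq_mul_inv_iff_mul_eq, ← S.fA_mul (by decide +kernel) (by decide +kernel),
          show t 1 3 * (t 4 3 * t 1 4) = t 1 4 * t 4 3 by decide +kernel]
      rw [S.X_A (by decide), h]
      have h' := map_commutatorElement (MulAut.conj S.W1).toMonoidHom (S.fA (t 1 4)) (S.fA (t 4 3))
      simp only [MulEquiv.coe_toMonoidHom, MulAut.conj_apply, W1_inv, e43, S.W1_x14 hc] at h'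
      exact h'
    · show S.W1 * S.X 1 4 * S.W1 = S.X 1 4
      rw [S.X_A (by decide)]
      exact (S.W1_x14 hc)
  · have key : ∀ i j : Fin 5, i ≠ j → i ≠ 1 → Equiv.swap 0 2 i ≠ 1 ∧ InB (t i j) ∧
        InB (t (Equiv.swap 0 2 i) (Equiv.swap 0 2 j)) ∧
        w1 * t i j = t (Equiv.swap 0 2 i) (Equiv.swap 0 2 j) * w1 := by decide +kernel
    obtain ⟨h0, h1⟩ := key i j hij hi
    rw [S.X_B hij hi, S.X_B ((Equiv.swap 0 2).injective.ne hij) h0]
    exact S.step1 h1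

omit hc in
/-- the four symmetries -/
def syms : List (Equiv.Perm (Fin 5)) :=
  [1, Equiv.swap 4 1, Equiv.swap 0 2, Equiv.swap 0 2 * Equiv.swap 4 1]

theorem exists_eqv {σ : Equiv.Perm (Fin 5)} (h : σ ∈ syms) : ∃ w, S.Eqv w σ := by
  simp only [syms, List.mem_cons, List.not_mem_nil, or_false] at h
  rcases h with rfl | rfl | rfl | rfl
  exacts [⟨_, S.eqv_one⟩, ⟨_, (S.eqv_W4 hc)⟩, ⟨_, (S.eqv_W1 hc)⟩, ⟨_, S.eqv_mul (S.eqv_W1 hc) (S.eqv_W4 hc)⟩]

omit hc in
theorem comm_cover : ∀ i j k l : Fin 5, i ≠ j → k ≠ l → i ≠ l → j ≠ k → ∃ σ ∈ syms,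
    (σ j ≠ 0 ∧ σ l ≠ 0) ∨ (σ i ≠ 1 ∧ σ k ≠ 1) ∨ (σ i = 2 ∧ σ j = 0 ∧ σ k = 1 ∧ σ l = 4) ∨
      (σ i = 1 ∧ σ j = 4 ∧ σ k = 2 ∧ σ l = 0) ∨ (σ i = 4 ∧ σ j = 0 ∧ σ k = 1 ∧ σ l = 2) ∨
      (σ i = 1 ∧ σ j = 2 ∧ σ k = 4 ∧ σ l = 0) := by
  decide +kernel

omit hc in
theorem prod_cover : ∀ i j l : Fin 5, i ≠ j → j ≠ l → i ≠ l → ∃ σ ∈ syms,
    (σ j ≠ 0 ∧ σ l ≠ 0) ∨ (σ i ≠ 1 ∧ σ j ≠ 1) := by
  decide +kernel

theorem X_comm {i j k l : Fin 5} (h : i ≠ j) (h' : k ≠ l) (hil : i ≠ l) (hjk : j ≠ k) :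
    Commute (S.X i j) (S.X k l) := by
  obtain ⟨σ, hσ, hcv⟩ := comm_cover i j k l h h' hil hjk
  obtain ⟨w, hw⟩ := (S.exists_eqv hc) hσ
  suffices H : Commute (S.X (σ i) (σ j)) (S.X (σ k) (σ l)) by
    rw [← hw i j h, ← hw k l h'] at H
    have := H.map (MulAut.conj w).symm
    rwa [MulEquiv.symm_apply_apply, MulEquiv.symm_apply_apply] at this
  have n1 := σ.injective.ne h
  have n2 := σ.injective.ne h'
  have hcm := StSL.rel_tv.comm (K := ZMod 2) n1 n2 (σ.injective.ne hil) (σ.injective.ne hjk) 1 1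
  rcases hcv with ⟨hj, hl⟩ | ⟨hi, hk⟩ | ⟨e1, e2, e3, e4⟩ | ⟨e1, e2, e3, e4⟩ | ⟨e1, e2, e3, e4⟩ |
    ⟨e1, e2, e3, e4⟩
  · rw [S.X_A hj, S.X_A hl, Commute, SemiconjBy, ← S.fA_mul ((tv_mem _ _ n1).1 hj)
      ((tv_mem _ _ n2).1 hl), ← S.fA_mul ((tv_mem _ _ n2).1 hl) ((tv_mem _ _ n1).1 hj)]
    exact congrArg _ hcm.eq
  · rw [S.X_B n1 hi, S.X_B n2 hk, Commute, SemiconjBy, ← S.fB_mul ((tv_mem _ _ n1).2 hi)
      ((tv_mem _ _ n2).2 hk), ← S.fB_mul ((tv_mem _ _ n2).2 hk) ((tv_mem _ _ n1).2 hi)]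
    exact congrArg _ hcm.eq
  · rw [e1, e2, e3, e4, S.X_B (by decide) (by decide), S.X_A (by decide)]
    exact (S.special hc)
  · rw [e1, e2, e3, e4, S.X_A (by decide), S.X_B (by decide) (by decide)]
    exact (S.special hc).symm
  · rw [e1, e2, e3, e4, S.X_B (by decide) (by decide), S.X_A (by decide)]
    exact (S.special' hc)
  · rw [e1, e2, e3, e4, S.X_A (by decide), S.X_B (by decide) (by decide)]
    exact (S.special' hc).symm

theorem X_prod {i j l : Fin 5} (h : i ≠ j) (h' : j ≠ l) (hil : i ≠ l) :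
    ⁅S.X i j, S.X j l⁆ = S.X i l := by
  obtain ⟨σ, hσ, hcv⟩ := prod_cover i j l h h' hil
  obtain ⟨w, hw⟩ := (S.exists_eqv hc) hσ
  apply (MulAut.conj w).injective
  rw [map_commutatorElement, hw i j h, hw j l h', hw i l hil]
  have n1 := σ.injective.ne h
  have n2 := σ.injective.ne h'
  have n3 := σ.injective.ne hil
  have hp := StSL.rel_tv.prod (K := ZMod 2) n1 n2 n3 1 1
  rw [mul_one, commutatorElement_def, mul_inv_eq_iff_eq_mul, mul_inv_eq_iff_eq_mul] at hp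
  rw [commutatorElement_def, mul_inv_eq_iff_eq_mul, mul_inv_eq_iff_eq_mul]
  rcases hcv with ⟨hj, hl⟩ | ⟨hi, hj⟩
  · have a1 := (tv_mem _ _ n1).1 hj
    have a2 := (tv_mem _ _ n2).1 hl
    have a3 := (tv_mem _ _ n3).1 hl
    rw [S.X_A hj, S.X_A hl, S.X_A hl, ← S.fA_mul a1 a2, ← S.fA_mul a3 a2,
      ← S.fA_mul (inA_mul a3 a2) a1]
    exact congrArg _ hp
  · have a1 := (tv_mem _ _ n1).2 hi
    have a2 := (tv_mem _ _ n2).2 hj
    have a3 := (tv_mem _ _ n3).2 hi
    rw [S.X_B n1 hi, S.X_B n2 hj, S.X_B n3 hi, ← S.fB_mul a1 a2, ← S.fB_mul a3 a2,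
      ← S.fB_mul (inB_mul a3 a2) a1]
    exact congrArg _ hp

omit hc in
theorem tv_sq : ∀ i j : Fin 5, i ≠ j → t i j * t i j = 1 := by decide +kernel

omit hc in
theorem X_sq {i j : Fin 5} (h : i ≠ j) : S.X i j * S.X i j = 1 := by
  by_cases hj : j = 0
  · by_cases hi : i = 1
    · subst hi hj
      have e : S.fB (t 4 0) * S.fB (t 4 0) = 1 := by
        rw [← S.fB_mul (by decide +kernel) (by decide +kernel), tv_sq 4 0 (by decide), fB_one]
      calc S.X 1 0 * S.X 1 0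
            = S.W4 * (S.fB (t 4 0) * (S.W4 * S.W4) * S.fB (t 4 0)) * S.W4 := by
              rw [X_ten]; simp only [mul_assoc]
        _ = 1 := by rw [W4_sq, mul_one, e, mul_one, W4_sq]
    · rw [S.X_B h hi, ← S.fB_mul ((tv_mem i j h).2 hi) ((tv_mem i j h).2 hi), tv_sq i j h, fB_one]
  · rw [S.X_A hj, ← S.fA_mul ((tv_mem i j h).1 hj) ((tv_mem i j h).1 hj), tv_sq i j h, fA_one]

omit hc in
/-- the images of all elementary transvections -/
def x (i j : Fin 5) (c : ZMod 2) : G := if c = 0 then 1 else S.X i j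

theorem rel_x : StSL.Rel S.x where
  add {i j} h c d := by
    rcases (show ∀ c : ZMod 2, c = 0 ∨ c = 1 by decide) c with rfl | rfl <;>
      rcases (show ∀ c : ZMod 2, c = 0 ∨ c = 1 by decide) d with rfl | rfl <;>
      simp [x, S.X_sq h, show (1 : ZMod 2) + 1 = 0 by decide]
  comm {i j k l} h h' hil hjk c d := by
    unfold x
    split_ifs <;> first | exact Commute.one_left _ | exact Commute.one_right _ |
      exact (S.X_comm hc) h h' hil hjk
  prod {i j l} h h' hil c d := by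
    rcases (show ∀ c : ZMod 2, c = 0 ∨ c = 1 by decide) c with rfl | rfl <;>
      rcases (show ∀ c : ZMod 2, c = 0 ∨ c = 1 by decide) d with rfl | rfl <;>
      simp [x, (S.X_prod hc) h h' hil]

/-- the straight amalgam maps from `SL(5, 2)` -/
theorem straight_hom : ∃ φ : SL5 →* G,
    (∀ i j, i ≠ j → φ (t i j) = S.X i j) ∧ ∀ M, InA M → φ M = S.fA M := by
  obtain ⟨φ, hφ⟩ := StSL.exists_hom (n := 5) (by norm_num) (S.rel_x hc)
  have hX : ∀ i j : Fin 5, i ≠ j → φ (t i j) = S.X i j := fun i j h => by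
    rw [hφ i j h 1, x, if_neg (by decide)]
  refine ⟨φ, hX, ?_⟩
  have hs : ∀ {i j : Fin 4}, i ≠ j → i.succ ≠ j.succ := fun h e => h (Fin.succ_injective _ e)
  have hr : StSL.Rel (fun (i j : Fin 4) (u : ZMod 2) => StSL.tv i.succ j.succ u) :=
    ⟨fun h u w => StSL.rel_tv.add (hs h) u w,
      fun h h' a b u w => StSL.rel_tv.comm (hs h) (hs h') (hs a) (hs b) u w,
      fun h h' a u w => StSL.rel_tv.prod (hs h) (hs h') (hs a) u w⟩
  obtain ⟨ψ, hψ⟩ := StSL.exists_hom (by norm_num) hr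
  let T : StSL.Setup (ZMod 2) 4 SL5 :=
    ⟨StSL.tv, StSL.rel_tv, by norm_num, MonoidHom.id _, fun _ _ _ _ => rfl, ψ, hψ⟩
  let P : SL5 → Prop := fun M => InA M ∧ φ M = S.fA M
  have h1 : P 1 := ⟨by decide +kernel, by rw [map_one, fA_one]⟩
  have hmul : ∀ a b, P a → P b → P (a * b) := fun a b ha hb =>
    ⟨inA_mul ha.1 hb.1, by rw [map_mul, ha.2, hb.2, S.fA_mul ha.1 hb.1]⟩
  have htv : ∀ (i j : Fin 5), i ≠ j → j ≠ 0 → ∀ u, P (StSL.tv i j u) := by
    intro i j h hj u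
    rcases (show ∀ c : ZMod 2, c = 0 ∨ c = 1 by decide) u with rfl | rfl
    · rw [StSL.rel_tv.zero h]; exact h1
    · exact ⟨(tv_mem i j h).1 hj, (hX i j h).trans (S.X_A hj)⟩
  have hg : ∀ g, P (ψ g) := fun g => by
    induction g using StSL.sl_induction with
    | htv i j h u => rw [hψ i j h]; exact htv _ _ (hs h) (Fin.succ_ne_zero j) u
    | hmul a b ha hb => rw [map_mul]; exact hmul _ _ ha hb
  have hR : ∀ r, P (T.rR r) := StSL.pi_induction (by rw [T.rR_zero]; exact h1)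
    (fun a b ha hb => by rw [T.rR_add]; exact hmul _ _ ha hb)
    (fun j u => by
      rw [T.rR_single]
      exact htv _ _ (Fin.succ_ne_zero j).symm (Fin.succ_ne_zero j) u)
  intro M hM
  let a : Fin 4 → ZMod 2 := fun j => M.1 0 j.succ
  let N : Matrix (Fin 4) (Fin 4) (ZMod 2) := M.1.submatrix Fin.succ Fin.succ
  have hN : N.det = 1 := by
    have h := M.2
    rw [Matrix.det_succ_column_zero] at h
    rw [Fin.sum_univ_succ] at h
    simp [show M.1 0 0 = 1 from hM 0, fun k : Fin 4 => hM k.succ, Fin.succ_ne_zero] at h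
    exact h
  obtain ⟨g, hgN⟩ : ∃ g : Matrix.SpecialLinearGroup (Fin 4) (ZMod 2), g.1 = N := ⟨⟨N, hN⟩, rfl⟩
  obtain ⟨g', hg'⟩ : ∃ g', g' * g = 1 := ⟨g⁻¹, inv_mul_cancel g⟩
  have e : g'.1 * g.1 = 1 := congrArg Subtype.val hg'
  suffices hd : M = T.rR (a ᵥ* g'.1) * ψ g by
    rw [hd]; exact (hmul _ _ (hR _) (hg g)).2
  refine StSL.sl_ext fun v => ?_
  rw [StSL.mul_mulVec']
  have e1 := T.π_ψ g v
  have e2 := T.π_rR (a ᵥ* g'.1)
  simp only [T, MonoidHom.id_apply] at e1 e2 ⊢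
  rw [e1, e2, Fin.tail_cons, dotProduct_mulVec, vecMul_vecMul, e, vecMul_one, hgN]
  funext k
  induction k using Fin.cases with
  | zero =>
    simp [Matrix.mulVec, dotProduct, Fin.sum_univ_succ, show M.1 0 0 = 1 from hM 0, a, Fin.tail]
  | succ k =>
    simp [Matrix.mulVec, dotProduct, Fin.sum_univ_succ (n := 4), fun k : Fin 4 => hM k.succ,
      Fin.succ_ne_zero, N, Fin.tail]

omit hc

theorem inj_of_aff {φ : SL5 →* G} (h : ∀ M, InA M → φ M = S.fA M) : Function.Injective φ := by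
  refine (injective_iff_map_eq_one φ).2 fun g hg => ?_
  have hker : ∀ M, InA M → φ M = 1 → M = 1 := fun M hM e => by
    refine S.fA_inj hM (by decide +kernel) ?_
    rw [fA_one, ← h M hM, e]
  refine hker g ?_ hg
  obtain ⟨g', hg'⟩ : ∃ g', g' * g = 1 := ⟨g⁻¹, inv_mul_cancel g⟩
  have hgg : g * g' = 1 := mul_eq_one_comm.1 hg'
  have hcomm : ∀ t₀ : SL5, InA t₀ → t₀.1 *ᵥ (g'.1 *ᵥ e0) = g'.1 *ᵥ e0 → g * t₀ = t₀ * g := by
    intro t₀ ht hu
    have hA' : InA (g * t₀ * g') := by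
      refine mem_aff.1 (MulAction.mem_stabilizer_iff.2 ?_)
      show (g * t₀ * g').1 *ᵥ e0 = e0
      rw [StSL.mul_mulVec', StSL.mul_mulVec', hu, ← StSL.mul_mulVec', hgg]
      exact Matrix.one_mulVec e0
    have hk : g * t₀ * g' = t₀ := by
      refine S.fA_inj hA' ht ?_
      have e' : φ g' = 1 := by rw [← one_mul (φ g'), ← hg, ← map_mul, hgg, map_one, hg]
      rw [← h _ hA', ← h _ ht, map_mul, map_mul, hg, e', one_mul, mul_one]
    calc g * t₀ = g * t₀ * (g' * g) := by rw [hg', mul_one]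
      _ = g * t₀ * g' * g := by group
      _ = t₀ * g := by rw [hk]
  obtain ⟨u, hu⟩ : ∃ u, u = g'.1 *ᵥ e0 := ⟨_, rfl⟩
  rw [← hu] at hcomm
  have hfix : ∀ u : Fin 5 → ZMod 2, (t 0 2).1 *ᵥ u = u ∨ (t 0 3).1 *ᵥ u = u ∨
      (t 0 2 * t 0 3).1 *ᵥ u = u := by decide +kernel
  have col : ∀ k, k ≠ 0 → g.1 k 0 = 0 := by
    intro k hk
    rcases hfix u with e | e | e
    · have h2 := comm_entries (by decide) (hcomm _ ((tv_mem 0 2 (by decide)).1 (by decide)) e) k 2
      simpa [hk] using h2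
    · have h2 := comm_entries (by decide) (hcomm _ ((tv_mem 0 3 (by decide)).1 (by decide)) e) k 3
      simpa [hk] using h2
    · have hv : (g * (t 0 2 * t 0 3)).1 *ᵥ Pi.single 2 1 = ((t 0 2 * t 0 3) * g).1 *ᵥ Pi.single 2 1 :=
        by rw [hcomm _ (by decide +kernel) e]
      simp only [StSL.mul_mulVec', t, StSL.tv_mulVec (show (0 : Fin 5) ≠ 2 by decide),
        StSL.tv_mulVec (show (0 : Fin 5) ≠ 3 by decide)] at hv
      simpa [hk, Matrix.mulVec_add] using congrFun hv k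
  intro k
  by_cases hk : k = 0
  · subst hk
    rw [if_pos rfl]
    rcases (show ∀ c : ZMod 2, c = 0 ∨ c = 1 by decide) (g.1 0 0) with e | e
    · exfalso
      refine one_ne_zero (α := ZMod 2) ?_
      rw [← g.2]
      exact Matrix.det_eq_zero_of_column_eq_zero 0 fun i => by
        by_cases hi : i = 0
        · rw [hi]; exact e
        · exact col i hi
    · exact e
  · rw [if_neg hk]; exact col k hk

end Amal

end L5

open L5 in
/-- Two embeddings of stabilisers that agree on the centraliser of `1 + E₀₁` and see all of it give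
an embedding of `SL(5, 2)` extending the first one on that centraliser. -/
theorem l5_hom {G : Type u} [Group G] (S : L5.Amal G) :
    ∃ φ : SL5 →* G, Function.Injective φ ∧ S.ψA.range ≤ φ.range ∧
      (∀ a : ↥Aff, (a : SL5) * t 0 1 = t 0 1 * a → φ a = S.ψA a) ∧
      (∀ i j, i ≠ j → i ≠ 1 → φ (t i j) = S.fB (t i j)) ∧
      ∀ g, g * φ (t 0 1) = φ (t 0 1) * g → g ∈ φ.range := by
  have main : ∀ T : L5.Amal G, T.c = 1 → ∃ φ : SL5 →* G, Function.Injective φ ∧
      (∀ a : ↥Aff, φ a = T.ψA a) ∧ ∀ i j, i ≠ j → i ≠ 1 → φ (t i j) = T.fB (t i j) := by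
    intro T hT
    obtain ⟨φ, hX, hA⟩ := T.straight_hom hT
    refine ⟨φ, T.inj_of_aff hA, fun a => ?_, fun i j h hi => (hX i j h).trans (T.X_B h hi)⟩
    rw [hA _ (mem_aff.1 a.2), T.fA_eq (mem_aff.1 a.2)]
  have key : ∃ φ : SL5 →* G, Function.Injective φ ∧ S.ψA.range ≤ φ.range ∧
      (∀ a : ↥Aff, (a : SL5) * t 0 1 = t 0 1 * a → φ a = S.ψA a) ∧
      ∀ i j, i ≠ j → i ≠ 1 → φ (t i j) = S.fB (t i j) := by
    rcases S.c_cases with hc | hc
    · obtain ⟨φ, hi, hA, hB⟩ := main S hc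
      exact ⟨φ, hi, by rintro _ ⟨a, rfl⟩; exact ⟨a, hA a⟩, fun a _ => hA a, hB⟩
    · obtain ⟨φ, hi, hA, hB⟩ := main S.twist (S.twist_c hc)
      refine ⟨φ, hi, ?_, fun a ha => (hA a).trans (Amal.comp_apply_comm S.ψA (Amal.zA_comm ha)),
        fun i j h h1 => (hB i j h h1).trans (S.twist_fB _)⟩
      rintro _ ⟨a, rfl⟩
      obtain ⟨b, hb⟩ := (MulAut.conj Amal.zA).surjective a
      refine ⟨b, (hA b).trans ?_⟩
      show S.ψA (MulAut.conj Amal.zA b) = S.ψA a
      rw [hb]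
  obtain ⟨φ, hi, hrange, hA, hB⟩ := key
  refine ⟨φ, hi, hrange, hA, hB, fun g hg => ?_⟩
  have hz : t 0 1 ∈ Aff := mem_aff.2 (by decide +kernel)
  rw [hA ⟨t 0 1, hz⟩ rfl] at hg
  obtain ⟨a, -, rfl⟩ := S.cent hz g hg
  exact hrange ⟨a, rfl⟩

end CfsgLib.Spor.HeTri
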