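import Cfsg.Agent.Lib.Spor.HeTri.L5Hom

/-!
# The map of `SL(5, 2)` as an extension of the first embedding
-/

set_option autoImplicit false
set_option maxHeartbeats 400000

namespace CfsgLib.Spor.HeTri

universe u

namespace L5

theorem zA_sq : Amal.zA * Amal.zA = 1 := by
  refine Subtype.ext ?_
  show t 0 1 * t 0 1 = (1 : SL5)
  decide +kernel

theorem untwist {G' G : Type*} [Group G'] [Group G] {K : Subgroup G'} (φ : G' →* G)
    (ψ : ↥K →* G) (z : ↥K) (hz : z * z = 1)
    (h : ∀ a : ↥K, φ a = ψ.comp (MulAut.conj z).toMonoidHom a) (a : ↥K) :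
    φ.comp (MulAut.conj (z : G')).toMonoidHom a = ψ a := by
  have e : φ ((MulAut.conj z a : ↥K) : G') = ψ a := by
    rw [h, MonoidHom.comp_apply, MulEquiv.coe_toMonoidHom, MulAut.conj_apply, MulAut.conj_apply,
      inv_eq_of_mul_eq_one_right hz]
    congr 1
    simp only [mul_assoc, hz, mul_one]
    rw [← mul_assoc, hz, one_mul]
  exact e

end L5

open L5 in
/-- An embedding of `SL(5, 2)` that extends the first embedding on the whole stabiliser. -/
theorem l5_hom_extends {G : Type u} [Group G] (S : L5.Amal G) :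
    ∃ φ : SL5 →* G, Function.Injective φ ∧ ∀ a : ↥Aff, φ a = S.ψA a := by
  have main : ∀ T : L5.Amal G, T.c = 1 →
      ∃ φ : SL5 →* G, Function.Injective φ ∧ ∀ a : ↥Aff, φ a = T.ψA a := by
    intro T hT
    obtain ⟨φ, -, hA⟩ := T.straight_hom hT
    refine ⟨φ, T.inj_of_aff hA, fun a => ?_⟩
    rw [hA _ (mem_aff.1 a.2), T.fA_eq (mem_aff.1 a.2)]
  rcases S.c_cases with hc | hc
  · exact main S hc
  · obtain ⟨φ, hi, hA⟩ := main S.twist (S.twist_c hc)
    refine ⟨φ.comp (MulAut.conj (Amal.zA : SL5)).toMonoidHom, Amal.comp_inj hi _,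
      untwist φ S.ψA Amal.zA zA_sq hA⟩

end CfsgLib.Spor.HeTri
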