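import Cfsg.Agent.Lib.Spor.HeTri.L5Sub

/-!
# The recognition of SL(5, 2), from the census and the normalisers
-/

set_option autoImplicit false

namespace CfsgLib.Spor.HeTri

open CfsgLib.Spor.HeRecog

universe u

/-- the statement of the census in the linear pattern -/
def StmtEqTopL5 : Prop :=
  ∀ {G : Type u} [Group G] [Finite G] {z : G} (D : Cen 0 z), Pattern D l5T →
    ∀ H : Subgroup G, Subgroup.centralizer ({z} : Set G) ≤ H →
      (∀ x, x ∈ H → IsConj z x → ∃ h ∈ H, h * z * h⁻¹ = x) → H = ⊤

/-- P4: the linear group, given the census and the normalisers. -/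
theorem l5_iso_of (hN : StmtNormalA.{u}) (hTop : StmtEqTopL5.{u}) : StmtL5.{u} := by
  intro G _ _ z D hP N
  obtain ⟨H, hH, hcent, hfus⟩ := l5_subgroup hN hP N
  exact l5_of_subgroup hH (hTop D hP H hcent hfus)

end CfsgLib.Spor.HeTri
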