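import Cfsg.Agent.Lib.Spor.HeTri.L5Range

/-!
# The two embedded stabilisers

The embedding of the vector stabiliser belonging to the mirrored centraliser, composed with the
duality, is an embedding of the hyperplane stabiliser agreeing with that of the vector stabiliser.
-/

set_option autoImplicit false
set_option maxRecDepth 100000

namespace CfsgLib.Spor.HeTri

open CfsgLib.Spor.HeRecog Matrix

universe u

variable {G : Type u} [Group G] {z : G} {D : Cen 0 z}

theorem col_zero {g : SL5} (h : g ∈ Aff) (i : Fin 5) :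
    (g : M5) i 0 = if i = 0 then 1 else 0 := by
  have h1 := congrFun (show (g : M5) *ᵥ e0 = e0 from h) i
  rw [e0, Matrix.mulVec_single_one] at h1
  simpa [Pi.single_apply] using h1

theorem comm_of_row {g : SL5} (h : g ∈ Aff) (h1 : ∀ j, (g : M5) 1 j = if j = 1 then 1 else 0) :
    (g : M5) * Matrix.transvection 0 1 1 = Matrix.transvection 0 1 1 * (g : M5) := by
  rw [Matrix.transvection, mul_add, add_mul, mul_one, one_mul]
  congr 1
  ext i j
  simp [Matrix.mul_apply, Matrix.single_apply, col_zero h, h1, eq_comm, ite_and]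
  split_ifs <;> rfl

/-- The embedding of a subgroup of the hyperplane stabiliser. -/
theorem exists_psiB (hM : StmtMat) (N : NormalA D) (N' : NormalA D.mirror) (H : Subgroup SL5)
    (hH : ∀ g ∈ H, ∀ j, (g : M5) 1 j = if j = 1 then 1 else 0) :
    ∃ ψB : H →* G, Function.Injective ψB ∧
      ∀ (a : ↥Aff) (b : H), (a : SL5) = (b : SL5) → N.ψ a = ψB b := by
  obtain ⟨θ, hθ⟩ : ∃ θ : H →* ↥Aff, ∀ g : H, (θ g : SL5) = tw (g : SL5) :=
    ⟨(tw.comp H.subtype).codRestrict Aff fun g => tw_mem_aff (hH g g.2), fun _ => rfl⟩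
  refine ⟨N'.ψ.comp θ, ?_, ?_⟩
  · intro a b h
    rw [MonoidHom.comp_apply, MonoidHom.comp_apply] at h
    have h0 : θ a = θ b := N'.inj h
    have h1 : tw (a : SL5) = tw (b : SL5) := by rw [← hθ a, ← hθ b, h0]
    have h2 : ((((a : SL5)⁻¹ : SL5) : M5))ᵀ = ((((b : SL5)⁻¹ : SL5) : M5))ᵀ := by
      ext i j
      obtain ⟨i, rfl⟩ := sw.surjective i
      obtain ⟨j, rfl⟩ := sw.surjective j
      exact congrFun (congrFun (congrArg (fun g : SL5 => (g : M5)) h1) i) j
    exact Subtype.ext (inv_injective (Subtype.ext (Matrix.transpose_injective h2)))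
  · intro a b hab
    rw [MonoidHom.comp_apply]
    exact psi_agree hM N N' (by rw [hθ, hab])
      (comm_of_row a.2 (fun j => by rw [hab]; exact hH b b.2 j))

/-- Elements commuting with `z` come from the vector stabiliser and fix the transvection. -/
theorem exists_preimage (hM : StmtMat) (N : NormalA D) {g : G} (hg : g * z = z * g) :
    ∃ a : ↥Aff, ((a : SL5) : M5) * Matrix.transvection 0 1 1 =
      Matrix.transvection 0 1 1 * ((a : SL5) : M5) ∧ N.ψ a = g := by
  obtain ⟨a, m, hm, he, -, ha⟩ := exists_mat_eq hM N hg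
  exact ⟨a, by rw [he]; exact (hM.1 m hm).2.2, ha⟩

end CfsgLib.Spor.HeTri
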