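import Cfsg.Agent.Lib.Spor.HeTri.L5Twist

/-!
# The image of SL(5, 2): the centraliser and the fusion

A homomorphism agreeing with the embedding of the vector stabiliser on the centraliser covers the centraliser, and the
classes of transvections are fused to `z` inside its image.
-/

set_option autoImplicit false
set_option maxRecDepth 100000

namespace CfsgLib.Spor.HeTri

open CfsgLib.Spor.HeRecog Matrix

universe u

variable {G : Type u} [Group G] {z : G} {D : Cen 0 z}

/-- The image contains the centraliser. -/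
theorem centralizer_le_range (hM : StmtMat) (N : NormalA D) (φ : SL5 →* G)
    (hφ : ∀ a : ↥Aff, ((a : SL5) : M5) * Matrix.transvection 0 1 1 =
      Matrix.transvection 0 1 1 * ((a : SL5) : M5) → φ (a : SL5) = N.ψ a) :
    Subgroup.centralizer ({z} : Set G) ≤ φ.range := by
  intro g hg
  obtain ⟨a, m, hm, he, -, ha⟩ :=
    exists_mat_eq hM N (Subgroup.mem_centralizer_singleton_iff.1 hg)
  exact ⟨a, (hφ a (he ▸ (hM.1 m hm).2.2)).trans ha⟩

/-- Explicit conjugations of the transvection onto the representatives. -/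
theorem conj_check : ∀ p ∈ [(21, 27094738), (168, 9243037), (1344, 29707352)],
    (decode p.2).det = 1 ∧ decode p.2 * Matrix.transvection 0 1 1 = mat p.1 * decode p.2 := by
  decide +kernel

/-- The classes of the pattern are fused to `z` inside the image. -/
theorem fused_in_range (hM : StmtMat) (N : NormalA D) (φ : SL5 →* G)
    (hφ : ∀ a : ↥Aff, ((a : SL5) : M5) * Matrix.transvection 0 1 1 =
      Matrix.transvection 0 1 1 * ((a : SL5) : M5) → φ (a : SL5) = N.ψ a) :
    ∀ a ∈ l5T, ∃ h ∈ φ.range, h * z * h⁻¹ = D.val a := by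
  intro a ha
  obtain ⟨c, hc⟩ : ∃ c, (a, c) ∈ [(21, 27094738), (168, 9243037), (1344, 29707352)] := by
    simp only [l5T, List.mem_cons, List.not_mem_nil, or_false] at ha
    rcases ha with rfl | rfl | rfl
    exacts [⟨27094738, by simp⟩, ⟨9243037, by simp⟩, ⟨29707352, by simp⟩]
  obtain ⟨hd, he⟩ := conj_check _ hc
  have ha' : a < 21504 := by
    simp only [l5T, List.mem_cons, List.not_mem_nil, or_false] at ha
    omega
  obtain ⟨hd1, he1, hc1⟩ := hM.1 zN (by decide)
  obtain ⟨hd2, he2, hc2⟩ := hM.1 a ha'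
  obtain ⟨g, hgd⟩ : ∃ g : SL5, (g : M5) = decode c := ⟨⟨decode c, hd⟩, rfl⟩
  obtain ⟨t, htd⟩ : ∃ t : SL5, (t : M5) = mat zN := ⟨⟨mat zN, hd1⟩, rfl⟩
  obtain ⟨b, hbd⟩ : ∃ b : SL5, (b : M5) = mat a := ⟨⟨mat a, hd2⟩, rfl⟩
  have key : g * t * g⁻¹ = b := by
    rw [mul_inv_eq_iff_eq_mul]
    apply Subtype.ext
    rw [Matrix.SpecialLinearGroup.coe_mul, Matrix.SpecialLinearGroup.coe_mul, hgd, htd, hbd,
      hM.2.2.2]
    exact he
  have ht : t ∈ Aff := show (t : M5) *ᵥ e0 = e0 by rw [htd]; exact he1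
  have hb : b ∈ Aff := show (b : M5) *ᵥ e0 = e0 by rw [hbd]; exact he2
  have hz : φ t = z := (hφ ⟨t, ht⟩ (show (t : M5) * _ = _ * (t : M5) by rw [htd]; exact hc1)).trans ((N.val_eq ⟨t, ht⟩ zN (by decide) htd).trans D.val_z)
  have ha2 : φ b = D.val a := (hφ ⟨b, hb⟩ (show (b : M5) * _ = _ * (b : M5) by rw [hbd]; exact hc2)).trans (N.val_eq ⟨b, hb⟩ a ha' hbd)
  refine ⟨φ g, ⟨g, rfl⟩, ?_⟩
  calc φ g * z * (φ g)⁻¹ = φ g * φ t * (φ g)⁻¹ :=
        congrArg (fun w => φ g * w * (φ g)⁻¹) hz.symm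
    _ = φ (g * t * g⁻¹) := by simp only [map_mul, map_inv]
    _ = D.val a := by rw [key, ha2]

end CfsgLib.Spor.HeTri
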