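import Cfsg.Agent.Lib.Spor.HeTri.L5Assemble
import Cfsg.Agent.Lib.Spor.HeTri.L5Hom
import Cfsg.Agent.Lib.Spor.HeTri.Mat

/-!
# The subgroup SL(5, 2)

The two stabilisers are amalgamated, so the group has a subgroup isomorphic to SL(5, 2) containing
the centraliser and controlling the fusion of the involution.
-/

set_option autoImplicit false
set_option maxRecDepth 100000

namespace CfsgLib.Spor.HeTri

open CfsgLib.Spor.HeRecog

universe u

theorem t01_val : ((L5.t 0 1 : SL5) : M5) = Matrix.transvection 0 1 1 := by decide +kernel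

theorem comm_t01_iff {a : SL5} : a * L5.t 0 1 = L5.t 0 1 * a ↔
    (a : M5) * Matrix.transvection 0 1 1 = Matrix.transvection 0 1 1 * (a : M5) := by
  constructor
  · intro h
    have := congrArg (fun g : SL5 => (g : M5)) h
    simpa only [Matrix.SpecialLinearGroup.coe_mul, t01_val] using this
  · intro h
    apply Subtype.ext
    rw [Matrix.SpecialLinearGroup.coe_mul, Matrix.SpecialLinearGroup.coe_mul, t01_val]
    exact h

/-- The linear pattern gives the subgroup. -/
theorem l5_subgroup (hN : StmtNormalA.{u}) {G : Type u} [Group G] [Finite G] {z : G}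
    {D : Cen 0 z} (hP : Pattern D l5T) (N : NormalA D) :
    ∃ H : Subgroup G, Nonempty (H ≃* SL5) ∧ Subgroup.centralizer ({z} : Set G) ≤ H ∧
      ∀ x, x ∈ H → IsConj z x → ∃ h ∈ H, h * z * h⁻¹ = x := by
  obtain ⟨N'⟩ := exists_normalA_mirror hN hP
  obtain ⟨ψB, -, hψB⟩ := exists_psiB mat_spec N N' Row1 (fun g hg => hg)
  let S : L5.Amal G :=
    { ψA := N.ψ
      ψB := ψB
      inj := N.inj
      agree := hψB
      cent := fun h g hg => by
        rw [psi_t01 mat_spec N (t := ⟨L5.t 0 1, h⟩) t01_val] at hg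
        obtain ⟨a, ha, e⟩ := exists_preimage mat_spec N hg
        exact ⟨a, comm_t01_iff.2 ha, e⟩ }
  obtain ⟨φ, hinj, -, hφ, -⟩ := l5_hom S
  exact exists_sl5_subgroup mat_spec hP N φ hinj fun a ha => hφ a (comm_t01_iff.2 ha)

end CfsgLib.Spor.HeTri
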