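import Cfsg.Agent.Lib.Spor.HeTri.Interface
import Cfsg.Agent.Lib.Spor.HeRecog.Mirror

/-!
# The duality of SL(5, 2) on the centraliser of a transvection

The inverse transpose followed by the exchange of the first two coordinates induces the outer
automorphism `mirN` of the model. It carries the hyperplane stabiliser to the vector stabiliser.
-/

set_option autoImplicit false
set_option maxRecDepth 100000

namespace CfsgLib.Spor.HeTri

open CfsgLib.Spor.HeRecog Matrix

universe u

/-- the exchange of the first two coordinates -/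
def sw : Fin 5 ≃ Fin 5 := Equiv.swap 0 1

/-- the inverse transpose followed by the exchange of the first two coordinates -/
def tw : SL5 →* SL5 where
  toFun g := ⟨(((g⁻¹ : SL5) : M5)ᵀ).submatrix sw sw, by
    rw [Matrix.det_submatrix_equiv_self, Matrix.det_transpose]
    exact (g⁻¹).2⟩
  map_one' := Subtype.ext (by simp)
  map_mul' g h := Subtype.ext (by
    show (((g * h)⁻¹ : SL5) : M5)ᵀ.submatrix sw sw = _
    rw [_root_.mul_inv_rev, Matrix.SpecialLinearGroup.coe_mul, Matrix.transpose_mul,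
      ← Matrix.submatrix_mul_equiv _ _ _ sw _]
    rfl)

theorem tw_coe (g : SL5) : (tw g : M5) = (((g⁻¹ : SL5) : M5)ᵀ).submatrix sw sw := rfl

/-- the check on one factor -/
def TwRel (X Y : M5) : Prop := Xᵀ * Y.submatrix sw sw = 1

instance (X Y : M5) : Decidable (TwRel X Y) := inferInstanceAs (Decidable (_ = _))

theorem qTw_check : ∀ q : Fin 128, TwRel (qMat q) (qMat (qSwap q)) := by decide +kernel

theorem kTw_check : ∀ k : Fin 168, TwRel (kMat k) (kMat (pMir k)) := by decide +kernel

theorem twRel_mat {m : ℕ} (hm : m < 21504) : TwRel (mat m) (mat (mirN m)) := by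
  have hq := qTw_check ⟨m / 168, by omega⟩
  have hk := kTw_check ⟨m % 168, by omega⟩
  unfold mat
  rw [mirN_div.1, mirN_div.2]
  unfold TwRel at hq hk ⊢
  rw [Matrix.transpose_mul, ← Matrix.submatrix_mul_equiv _ _ _ sw _, Matrix.mul_assoc,
    ← Matrix.mul_assoc ((qMat (m / 168))ᵀ), hq, Matrix.one_mul, hk]

/-- The duality induces the outer automorphism of the model. -/
theorem tw_mat {a : SL5} {m : ℕ} (hm : m < 21504) (ha : (a : M5) = mat m) :
    (tw a : M5) = mat (mirN m) := by
  have h1 := twRel_mat hm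
  rw [TwRel, ← ha] at h1
  have h2 : ((a⁻¹ : SL5) : M5)ᵀ * (a : M5)ᵀ = 1 := by
    rw [← Matrix.transpose_mul, ← Matrix.SpecialLinearGroup.coe_mul, mul_inv_cancel,
      Matrix.SpecialLinearGroup.coe_one, Matrix.transpose_one]
  have h3 : (mat (mirN m)).submatrix sw sw = ((a⁻¹ : SL5) : M5)ᵀ := by
    conv_lhs => rw [← Matrix.one_mul ((mat (mirN m)).submatrix sw sw), ← h2, Matrix.mul_assoc, h1,
      Matrix.mul_one]
  rw [tw_coe, ← h3, Matrix.submatrix_submatrix]
  have hs : (sw : Fin 5 → Fin 5) ∘ sw = id := funext fun i => Equiv.swap_apply_self 0 1 i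
  rw [hs, Matrix.submatrix_id_id]

/-- The matrices with second row the second basis vector go to the vector stabiliser. -/
theorem tw_mem_aff {g : SL5} (h : ∀ j, (g : M5) 1 j = if j = 1 then 1 else 0) : tw g ∈ Aff := by
  show (tw g : M5) *ᵥ e0 = e0
  funext i
  have h1 : ∀ j, ((g⁻¹ : SL5) : M5) 1 j = if j = 1 then 1 else 0 := by
    intro j
    have h2 := congrFun (congrFun (congrArg (fun x : SL5 => (x : M5)) (mul_inv_cancel g)) 1) j
    rw [Matrix.SpecialLinearGroup.coe_mul, Matrix.mul_apply, Finset.sum_eq_single 1] at h2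
    · rw [h 1] at h2
      simpa [Matrix.one_apply, eq_comm] using h2
    · intro k _ hk
      rw [h k, if_neg hk, zero_mul]
    · simp
  rw [tw_coe, e0, Matrix.mulVec_single_one]
  show ((g⁻¹ : SL5) : M5) (sw 0) (sw i) = (Pi.single 0 1 : Fin 5 → ZMod 2) i
  rw [show sw 0 = 1 from Equiv.swap_apply_left 0 1, h1]
  revert i
  decide +kernel

theorem mirN_reps : mirN 21 = 21 ∧ mirN 168 = 1344 ∧ mirN 1344 = 168 ∧ mirN 190 = 1366 ∧
    mirN 1366 = 190 ∧ (clsOf 0 1680).any (Nat.beq (mirN 1680)) = true ∧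
    (clsOf 0 1777).any (Nat.beq (mirN 1777)) = true := by decide +kernel

/-- The linear pattern is preserved by the outer automorphism. -/
theorem pattern_mirror_l5 {G : Type u} [Group G] {z : G} {D : Cen 0 z} (h : Pattern D l5T) :
    Pattern D.mirror l5T := by
  obtain ⟨e21, e168, e1344, e190, e1366, h5, h7⟩ := mirN_reps
  have hcls : ∀ a : ℕ, (clsOf 0 a).any (Nat.beq (mirN a)) = true →
      (IsConj (D.val (mirN a)) z ↔ IsConj (D.val a) z) := by
    intro a ha
    obtain ⟨x, hx, hxb⟩ := List.any_eq_true.1 ha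
    rw [← Nat.eq_of_beq_eq_true hxb] at hx
    exact ⟨(D.cls_isConj hx).trans, (D.cls_isConj hx).symm.trans⟩
  intro a ha
  show IsConj (D.val (mirN a)) z ↔ _
  simp only [reps, List.mem_cons, List.not_mem_nil, or_false] at ha
  rcases ha with rfl | rfl | rfl | rfl | rfl | rfl | rfl
  · rw [e21, h 21 (by decide)]
  · rw [e168, h 1344 (by decide)]; decide
  · rw [e190, h 1366 (by decide)]; decide
  · rw [e1344, h 168 (by decide)]; decide
  · rw [e1366, h 190 (by decide)]; decide
  · rw [hcls _ h5, h 1680 (by decide)]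
  · rw [hcls _ h7, h 1777 (by decide)]

/-- The elements of the vector stabiliser fixing `z` are those of the model. -/
theorem exists_mat_eq (hM : StmtMat) {G : Type u} [Group G] {z : G} {D : Cen 0 z}
    (N : NormalA D) {g : G} (hg : g * z = z * g) :
    ∃ a : ↥Aff, ∃ m < 21504, ((a : SL5) : M5) = mat m ∧ D.val m = g ∧ N.ψ a = g := by
  obtain ⟨m, hm, rfl⟩ := D.val_surj g hg
  obtain ⟨hd, he, -⟩ := hM.1 m hm
  exact ⟨⟨⟨mat m, hd⟩, he⟩, m, hm, rfl, rfl, N.val_eq _ m hm rfl⟩

/-- the transvection in the vector stabiliser -/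
theorem psi_t01 (hM : StmtMat) {G : Type u} [Group G] {z : G} {D : Cen 0 z} (N : NormalA D)
    {t : ↥Aff} (ht : ((t : SL5) : M5) = Matrix.transvection 0 1 1) : N.ψ t = z := by
  rw [N.val_eq t zN (by decide) (ht.trans hM.2.2.2.symm), D.val_z]

/-- Elements commuting with the transvection map into the centraliser. -/
theorem exists_of_comm (hM : StmtMat) {G : Type u} [Group G] {z : G} {D : Cen 0 z}
    (N : NormalA D) {a : ↥Aff}
    (ha : ((a : SL5) : M5) * Matrix.transvection 0 1 1 =
      Matrix.transvection 0 1 1 * ((a : SL5) : M5)) :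
    ∃ m < 21504, ((a : SL5) : M5) = mat m := by
  obtain ⟨hd, he, -⟩ := hM.1 zN (by decide)
  obtain ⟨t, ht⟩ : ∃ t : ↥Aff, ((t : SL5) : M5) = Matrix.transvection 0 1 1 :=
    ⟨⟨⟨mat zN, hd⟩, he⟩, hM.2.2.2⟩
  have h1 : a * t = t * a := Subtype.ext (Subtype.ext (by
    simp only [Subgroup.coe_mul, Matrix.SpecialLinearGroup.coe_mul, ht]
    exact ha))
  have h2 := congrArg N.ψ h1
  rw [map_mul, map_mul, psi_t01 hM N ht] at h2
  obtain ⟨b, m, hm, hb, -, hbg⟩ := exists_mat_eq hM N h2
  exact ⟨m, hm, by rw [← N.inj hbg, hb]⟩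

/-- The two stabilisers agree on the centraliser. -/
theorem psi_agree (hM : StmtMat) {G : Type u} [Group G] {z : G} {D : Cen 0 z} (N : NormalA D)
    (N' : NormalA D.mirror) {a b : ↥Aff} (hb : (b : SL5) = tw a)
    (ha : ((a : SL5) : M5) * Matrix.transvection 0 1 1 =
      Matrix.transvection 0 1 1 * ((a : SL5) : M5)) : N.ψ a = N'.ψ b := by
  obtain ⟨m, hm, e⟩ := exists_of_comm hM N ha
  rw [N.val_eq a m hm e, N'.val_eq b (mirN m) (mirN_lt hm) (by rw [hb]; exact tw_mat hm e)]
  show D.val m = D.val (mirN (mirN m))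
  rw [mirN_mirN hm]

end CfsgLib.Spor.HeTri
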