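import Cfsg.Agent.Lib.Spor.HeRecog.Setup

/-!
# Generators and relations of the Mathieu group `M₂₄` over the centraliser of an involution

`v` is a map of the model of the centraliser of `z = v 10752`, the element `n` normalises the
elementary abelian group of order 16 of the class `168` and moves `z`, the element `g` exchanges
`z` and `v 1344`.
-/

set_option autoImplicit false

namespace CfsgLib.Spor.HeTri.MTF

open CfsgLib.Spor.HeRecog

universe u

/-- the action of `g` on generators of the centraliser of `1344` in the model -/
def gPairs : List (ℕ × ℕ) :=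
  [(4, 411), (22, 13166), (336, 97), (1344, 10752), (2688, 15536)]

/-- the action of `n` on generators of the elements it maps into the model -/
def nPairs : List (ℕ × ℕ) := [(5, 6981), (21, 861), (168, 168), (1344, 97)]

/-- The relations. -/
structure Rels {P : Type u} [Group P] (v : ℕ → P) (g n : P) : Prop where
  mul : ∀ a < 21504, ∀ b < 21504, v (mulN 0 a b) = v a * v b
  gg : g * g = 1
  nn : n * n = 1
  gn : g * n = n * g
  g_x : ∀ p ∈ gPairs, g * v p.1 = v p.2 * g
  n_x : ∀ p ∈ nPairs, n * v p.1 = v p.2 * n
  line : g * v 168 * g * v 168 * g * v 168 = 1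
  six : g * v 7 * g * v 7 * g * v 7 * g * v 7 * (v 6724 * n * v 16811) = 1
  ncn : n * v 1 * n * v 10775 * n * v 2 = 1
  ncn' : n * v 2688 * n * v 3360 * n * v 2688 = 1

/-- the generated subgroup -/
abbrev gens {P : Type u} [Group P] (v : ℕ → P) (g n : P) : Subgroup P :=
  Subgroup.closure (v '' {m | m < 21504} ∪ {g, n})

/-- The relations bound the order by that of `M₂₄`. -/
def StmtCard : Prop :=
  ∀ {P : Type u} [Group P] [Finite P] (v : ℕ → P) (g n : P),
    Rels v g n → Nat.card ↥(gens v g n) ≤ 244823040

end CfsgLib.Spor.HeTri.MTF
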