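import Cfsg.Agent.Lib.Spor.HeTri.M24Swap
import Cfsg.Agent.Lib.Spor.HeTri.M24Rels
import Cfsg.Agent.Lib.Spor.HeTri.M24AutoData

/-!
# The action of the exchanging element is determined

An element exchanging `z` and `val 1344` can be changed in `C(z, val 1344)` so that it acts by the
given table and has square one.
-/

set_option autoImplicit false
set_option maxRecDepth 100000
set_option maxHeartbeats 1000000
set_option Elab.async false

namespace CfsgLib.Spor.HeTri.MTF

open CfsgLib.Spor.HeRecog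

universe u

/-- the value of a word -/
def wordN (env : List Nat) (w : List Nat) : Nat :=
  w.foldl (fun p i => mulN 0 p (env.getD i 0)) 0

/-- commuting with `1344` -/
def inCx (m : Nat) : Bool := Nat.beq (mulN 0 m 1344) (mulN 0 1344 m)

/-- the kind of an element: trivial, fused involution, other involution, other -/
def kindN (m : Nat) : Nat :=
  bif Nat.beq m 0 then 0 else bif !(Nat.beq (mulN 0 m m) 0) then 3 else
    bif auTX.any (Nat.beq m) then 1 else 2

/-- the words keep their kind at the given values -/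
def sameKind (env : List Nat) (ws : List (List Nat)) : Bool :=
  ws.all fun w => Nat.beq (kindN (wordN env w)) (kindN (wordN auSrc w))

/-- the image of the third generator -/
def tgA : Nat := auTgt.getD 2 0

theorem tx_sub : ∀ m ∈ auTX, m < 21504 ∧ inCx m = true ∧
    (m = zN ∨ m24T.any (fun a => (clsOf 0 a).any (Nat.beq m)) = true) := by decide +kernel

theorem tx_cover : ∀ a ∈ zN :: m24T, ∀ m ∈ clsOf 0 a, inCx m = true → m ∈ auTX := by decide +kernel

theorem l1_spec : allEls (fun m => !(inCx m) || !(sameKind [1344, zN, m] auW1) ||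
    auL1.any (fun p => Nat.beq p.1 m)) = true := by decide +kernel

theorem l1_wit : ∀ p ∈ auL1, p.2 < 21504 ∧ inCx p.2 = true ∧ cjN 0 p.2 tgA = p.1 := by
  decide +kernel

theorem l2_spec : allEls (fun m => !(inCx m) || !(sameKind [1344, zN, tgA, m] auW2) ||
    auL2.any (Nat.beq m)) = true := by decide +kernel

theorem l3_spec : allEls (fun m => !(inCx m) || !(sameKind [1344, zN, tgA, 0, m] auW3) ||
    auL3.any (Nat.beq m)) = true := by decide +kernel

/-- the relations hold at the given values -/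
def sameRel (env : List Nat) : Bool :=
  (auEq.all fun r => Nat.beq (wordN env r.1) (wordN env r.2)) && sameKind env auCode

theorem pair_spec : (auL2.all fun b => auL3.all fun c => !(sameRel [1344, zN, tgA, b, c]) ||
    auGood.any (fun p => Nat.beq p.1 b && Nat.beq p.2.1 c)) = true := by decide +kernel

theorem good_wit : ∀ p ∈ auGood, p.2.2 < 21504 ∧ inCx p.2.2 = true ∧
    cjN 0 p.2.2 tgA = tgA ∧ cjN 0 p.2.2 (auTgt.getD 3 0) = p.1 ∧
    cjN 0 p.2.2 (auTgt.getD 4 0) = p.2.1 := by decide +kernel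

theorem data_spec : (∀ r ∈ auEq, wordN auSrc r.1 = wordN auSrc r.2) ∧
    (∀ a ∈ auSrc, a < 21504 ∧ inCx a = true) ∧ (∀ a ∈ auTgt, a < 21504 ∧ inCx a = true) ∧
    auSrc.take 2 = [zN, 1344] ∧ auTgt.take 2 = [1344, zN] ∧ auSrc.length = 5 ∧
    auTgt.length = 5 ∧
    (∀ p ∈ auPairs, wordN auSrc p.2 = p.1.1 ∧ wordN auTgt p.2 = p.1.2) ∧
    auPairs.map Prod.fst = gPairs ∧
    (∀ i < 5, wordN auSrc (auSq.getD i []) = auTgt.getD i 0 ∧
      wordN auTgt (auSq.getD i []) = auSrc.getD i 0) := by decide +kernel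

theorem centre_spec : allEls (fun m =>
    !(auSrc.all fun a => Nat.beq (mulN 0 m a) (mulN 0 a m)) ||
      ([0, 1344, zN, 12096].any (Nat.beq m))) = true := by decide +kernel

section

variable {G : Type u} [Group G] {z : G} (D : Cen 0 z)
include D

theorem val_inCx {m : ℕ} (hm : m < 21504) :
    inCx m = true ↔ D.val m * D.val 1344 = D.val 1344 * D.val m :=
  beq_true_iff.trans ⟨D.val_commute hm (by norm_num), D.mul_val_eq hm (by norm_num)⟩

theorem isConj_iff_tx (hP : Pattern D m24T) {m : ℕ} (hm : m < 21504) (h2 : mulN 0 m m = 0)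
    (h0 : m ≠ 0) (hx : inCx m = true) : IsConj (D.val m) z ↔ m ∈ auTX := by
  refine ⟨fun hc => ?_, fun h => ?_⟩
  · obtain ⟨m', hm', e, p, hp, hmp⟩ := D.invol_val (D.val_invol hm h2 h0) (D.val_comm m hm)
    obtain rfl := D.val_inj _ _ hm' hm e
    refine tx_cover p.1 ?_ m' hmp hx
    rcases reps_or hp with h | h
    · exact h ▸ List.mem_cons_self
    · exact List.mem_cons_of_mem _ ((hP _ h).1 ((D.cls_isConj hmp).trans hc))
  · rcases (tx_sub m h).2.2 with rfl | h'
    · rw [D.val_z]
    · obtain ⟨a, ha, hma⟩ := List.any_eq_true.1 h'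
      obtain ⟨m', hm', e⟩ := List.any_eq_true.1 hma
      rw [← beq_true_iff.1 e] at hm'
      exact (D.cls_isConj hm').symm.trans ((hP a (m24T_sub a ha)).2 ha)
where
  reps_or {p : Nat × List (Nat × Nat)} (hp : p ∈ clsL 0) : p.1 = zN ∨ p.1 ∈ reps := by
    revert p; decide +kernel
  m24T_sub : ∀ a ∈ m24T, a ∈ reps := by decide +kernel

theorem wordN_spec (env : List ℕ) (henv : ∀ a ∈ env, a < 21504 ∧ inCx a = true) (w : List ℕ) :
    wordN env w < 21504 ∧ inCx (wordN env w) = true ∧
      D.val (wordN env w) = (w.map fun i => D.val (env.getD i 0)).prod := by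
  have he : ∀ i, env.getD i 0 < 21504 ∧ inCx (env.getD i 0) = true := by
    intro i
    rcases lt_or_ge i env.length with hi | hi
    · rw [List.getD_eq_getElem _ _ hi]; exact henv _ (List.getElem_mem hi)
    · rw [List.getD_eq_default _ _ hi]
      exact ⟨by norm_num, by decide +kernel⟩
  suffices ∀ p, p < 21504 → inCx p = true →
      let r := w.foldl (fun p i => mulN 0 p (env.getD i 0)) p
      r < 21504 ∧ inCx r = true ∧
        D.val r = D.val p * (w.map fun i => D.val (env.getD i 0)).prod by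
    have h := this 0 (by norm_num) (by decide +kernel)
    simp only [D.val_zero, one_mul] at h
    exact h
  induction w with
  | nil => intro p hp hx; exact ⟨hp, hx, by simp⟩
  | cons i w ih =>
    intro p hp hx
    obtain ⟨hi, hix⟩ := he i
    have hcp := (val_inCx D hp).1 hx
    have hci := (val_inCx D hi).1 hix
    have hlt := mulN_lt hp 0 (env.getD i 0)
    have hx' : inCx (mulN 0 p (env.getD i 0)) = true := (val_inCx D hlt).2 (by
      rw [D.val_mul _ _ hp hi, mul_assoc, hci, ← mul_assoc, hcp, mul_assoc])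
    obtain ⟨a, b, c⟩ := ih _ hlt hx'
    refine ⟨a, b, ?_⟩
    rw [List.map_cons, List.prod_cons, ← mul_assoc, ← D.val_mul _ _ hp hi]
    exact c

/-- `g` carries the values of the first list to those of the second. -/
def Carries (g : G) (e e' : List ℕ) : Prop :=
  ∀ i, g * D.val (e.getD i 0) * g⁻¹ = D.val (e'.getD i 0)

theorem carries_word {g : G} {e e' : List ℕ} (h : Carries D g e e')
    (he : ∀ a ∈ e, a < 21504 ∧ inCx a = true) (he' : ∀ a ∈ e', a < 21504 ∧ inCx a = true)
    (w : List ℕ) : g * D.val (wordN e w) * g⁻¹ = D.val (wordN e' w) := by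
  rw [(wordN_spec D e he w).2.2, (wordN_spec D e' he' w).2.2]
  induction w with
  | nil => simp
  | cons i w ih =>
    simp only [List.map_cons, List.prod_cons]
    rw [← ih, ← h i]
    group

theorem carries_kind (hP : Pattern D m24T) {g : G} {e e' : List ℕ} (h : Carries D g e e')
    (he : ∀ a ∈ e, a < 21504 ∧ inCx a = true) (he' : ∀ a ∈ e', a < 21504 ∧ inCx a = true)
    (w : List ℕ) : kindN (wordN e' w) = kindN (wordN e w) := by
  obtain ⟨hm, hmx, -⟩ := wordN_spec D e he w
  obtain ⟨hn, hnx, -⟩ := wordN_spec D e' he' w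
  have hc := carries_word D h he he' w
  generalize wordN e w = m at *
  generalize wordN e' w = n at *
  have e0 : n = 0 ↔ m = 0 := by
    constructor
    · rintro rfl
      rw [D.val_zero, mul_inv_eq_one] at hc
      exact D.val_eq_one hm (mul_left_cancel (hc.trans (mul_one g).symm))
    · rintro rfl
      rw [D.val_zero, mul_one, mul_inv_cancel] at hc
      exact D.val_eq_one hn hc.symm
  by_cases h0 : m = 0
  · rw [h0, e0.2 h0]
  have e2 : mulN 0 n n = 0 ↔ mulN 0 m m = 0 := by
    have hh : D.val n * D.val n = g * (D.val m * D.val m) * g⁻¹ := by rw [← hc]; group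
    constructor <;> intro q
    · refine D.val_sq hm ?_
      rw [← D.val_mul n n hn hn, q, D.val_zero, eq_comm, mul_inv_eq_one] at hh
      exact mul_left_cancel (hh.trans (mul_one g).symm)
    · refine D.val_sq hn ?_
      rw [hh, ← D.val_mul m m hm hm, q, D.val_zero, mul_one, mul_inv_cancel]
  have hn0 : n ≠ 0 := fun q => h0 (e0.1 q)
  by_cases h2 : mulN 0 m m = 0
  · have hT : n ∈ auTX ↔ m ∈ auTX := by
      rw [← isConj_iff_tx D hP hn (e2.2 h2) hn0 hnx, ← isConj_iff_tx D hP hm h2 h0 hmx, ← hc]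
      have hcj : IsConj (D.val m) (g * D.val m * g⁻¹) := isConj_iff.2 ⟨g, rfl⟩
      exact ⟨fun q => hcj.trans q, fun q => hcj.symm.trans q⟩
    have hb : auTX.any (Nat.beq n) = auTX.any (Nat.beq m) := by
      rw [Bool.eq_iff_iff]
      simp only [List.any_eq_true, beq_true_iff, exists_eq_right']
      exact hT
    simp only [kindN, h2, e2.2 h2, hb, Bool.eq_false_iff.2 (mt beq_true_iff.1 h0),
      Bool.eq_false_iff.2 (mt beq_true_iff.1 hn0)]
  · simp only [kindN, Bool.eq_false_iff.2 (mt beq_true_iff.1 h0),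
      Bool.eq_false_iff.2 (mt beq_true_iff.1 hn0), Bool.eq_false_iff.2 (mt beq_true_iff.1 h2),
      Bool.eq_false_iff.2 (mt beq_true_iff.1 (mt e2.1 h2)), Bool.not_false, cond_true, cond_false]

omit D in
theorem sameKind_of {e' : List ℕ} {ws : List (List ℕ)}
    (h : ∀ w ∈ ws, kindN (wordN e' w) = kindN (wordN auSrc w)) : sameKind e' ws = true :=
  List.all_eq_true.2 fun w hw => beq_true_iff.2 (h w hw)

end

theorem words_short : (∀ w ∈ auW1, ∀ i ∈ w, i < 3) ∧ (∀ w ∈ auW2, ∀ i ∈ w, i < 4) ∧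
    (∀ w ∈ auW3, ∀ i ∈ w, i < 5 ∧ i ≠ 3) := by decide +kernel

theorem wordN_congr {e e' : List ℕ} {w : List ℕ} (h : ∀ i ∈ w, e.getD i 0 = e'.getD i 0) :
    wordN e w = wordN e' w := by
  suffices ∀ p, w.foldl (fun p i => mulN 0 p (e.getD i 0)) p =
      w.foldl (fun p i => mulN 0 p (e'.getD i 0)) p from this 0
  induction w with
  | nil => exact fun _ => rfl
  | cons i w ih =>
    intro p
    simp only [List.foldl_cons]
    rw [h i List.mem_cons_self]
    exact ih (fun j hj => h j (List.mem_cons_of_mem _ hj)) _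

variable {G : Type u} [Group G] {z : G} (D : Cen 0 z)

theorem carries_images {g : G} (h1 : g * z * g⁻¹ = D.val 1344) (h2 : g * D.val 1344 * g⁻¹ = z)
    {m : ℕ} (hm : m < 21504) (hx : inCx m = true) :
    ∃ m', m' < 21504 ∧ inCx m' = true ∧ g * D.val m * g⁻¹ = D.val m' := by
  have e1 := (Cen.conj_comm_iff g (D.val m) (D.val 1344)).1 ((val_inCx D hm).1 hx)
  rw [h2] at e1
  obtain ⟨m', hm', e⟩ := D.val_surj _ e1
  refine ⟨m', hm', (val_inCx D hm').2 ?_, e.symm⟩
  have e2 := (Cen.conj_comm_iff g (D.val m) z).1 (D.val_comm m hm)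
  rw [h1] at e2
  rw [e]
  exact e2

/-- A conjugate by an element of the model fixing `z` and `val 1344`. -/
theorem adjust {g : G} {u : ℕ} (hu : u < 21504) (hux : inCx u = true)
    (h1 : g * z * g⁻¹ = D.val 1344) (h2 : g * D.val 1344 * g⁻¹ = z) :
    ((D.val u)⁻¹ * g) * z * ((D.val u)⁻¹ * g)⁻¹ = D.val 1344 ∧
      ((D.val u)⁻¹ * g) * D.val 1344 * ((D.val u)⁻¹ * g)⁻¹ = z := by
  constructor
  · rw [show (D.val u)⁻¹ * g * z * ((D.val u)⁻¹ * g)⁻¹ =
      (D.val u)⁻¹ * (g * z * g⁻¹) * D.val u by group, h1, mul_assoc, ← (val_inCx D hu).1 hux,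
      inv_mul_cancel_left]
  · rw [show (D.val u)⁻¹ * g * D.val 1344 * ((D.val u)⁻¹ * g)⁻¹ =
      (D.val u)⁻¹ * (g * D.val 1344 * g⁻¹) * D.val u by group, h2, mul_assoc, ← D.val_comm u hu,
      inv_mul_cancel_left]

theorem adjust_img {g : G} {u a b m : ℕ} (hu : u < 21504) (hb : b < 21504)
    (hc : cjN 0 u b = m) (h : g * D.val a * g⁻¹ = D.val m) :
    ((D.val u)⁻¹ * g) * D.val a * ((D.val u)⁻¹ * g)⁻¹ = D.val b := by
  rw [show (D.val u)⁻¹ * g * D.val a * ((D.val u)⁻¹ * g)⁻¹ =
    (D.val u)⁻¹ * (g * D.val a * g⁻¹) * D.val u by group, h, ← hc, D.val_cj hu hb]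
  group

/-- The element with the given action. -/
theorem exists_g_carries (hP : Pattern D m24T) : ∃ g : G, Carries D g auSrc auTgt := by
  obtain ⟨hrel, hsrc, htgt, -⟩ := data_spec
  obtain ⟨g0, ha1, ha2⟩ := exists_swap_x D hP
  obtain ⟨A, B, C', TA, TB, TC, eS, eT⟩ : ∃ A B C' TA TB TC, auSrc = [zN, 1344, A, B, C'] ∧
      auTgt = [1344, zN, TA, TB, TC] := ⟨_, _, _, _, _, _, rfl, rfl⟩
  have hS : ∀ a ∈ [A, B, C'], a < 21504 ∧ inCx a = true := fun a ha =>
    hsrc a (by rw [eS]; simp only [List.mem_cons, List.not_mem_nil, or_false] at ha ⊢; tauto)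
  have hT : ∀ a ∈ [TA, TB, TC], a < 21504 ∧ inCx a = true := fun a ha =>
    htgt a (by rw [eT]; simp only [List.mem_cons, List.not_mem_nil, or_false] at ha ⊢; tauto)
  have htA : tgA = TA := by rw [tgA, eT]; rfl
  have hz : zN < 21504 := Cen.zN_lt
  have hzx : inCx zN = true ∧ inCx 1344 = true ∧ inCx 0 = true := by decide +kernel
  -- the values of the five generators under an exchanging element
  have mk : ∀ g : G, g * z * g⁻¹ = D.val 1344 → g * D.val 1344 * g⁻¹ = z → ∃ a b c,
      Carries D g auSrc [1344, zN, a, b, c] ∧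
        ∀ x ∈ [1344, zN, a, b, c], x < 21504 ∧ inCx x = true := by
    intro g h1 h2
    obtain ⟨a, ha, hax, ea⟩ := carries_images D h1 h2 (hS A (by simp)).1 (hS A (by simp)).2
    obtain ⟨b, hb, hbx, eb⟩ := carries_images D h1 h2 (hS B (by simp)).1 (hS B (by simp)).2
    obtain ⟨c, hc, hcx, ec⟩ := carries_images D h1 h2 (hS C' (by simp)).1 (hS C' (by simp)).2
    refine ⟨a, b, c, fun i => ?_, ?_⟩
    · rw [eS]
      match i with
      | 0 => simpa [D.val_z] using h1
      | 1 => simpa [D.val_z] using h2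
      | 2 => exact ea
      | 3 => exact eb
      | 4 => exact ec
      | _ + 5 => simp [D.val_zero]
    · intro x hx
      simp only [List.mem_cons, List.not_mem_nil, or_false] at hx
      rcases hx with rfl | rfl | rfl | rfl | rfl
      exacts [⟨by norm_num, hzx.2.1⟩, ⟨hz, hzx.1⟩, ⟨ha, hax⟩, ⟨hb, hbx⟩, ⟨hc, hcx⟩]
  obtain ⟨a, b, c, hcar, hm⟩ := mk g0 ha1 ha2
  have hk := carries_kind D hP hcar hsrc hm
  have hka : sameKind [1344, zN, a] auW1 = true := sameKind_of fun w hw => by
    rw [wordN_congr (e' := [1344, zN, a, b, c]) fun i hi => ?_, hk w]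
    have := words_short.1 w hw i hi
    interval_cases i <;> rfl
  obtain ⟨ha, hax⟩ := hm a (by simp)
  obtain ⟨p, hp, hpa⟩ : ∃ p ∈ auL1, p.1 = a := by
    have h := allEls_spec l1_spec a ha
    rw [hax, hka] at h
    simpa [List.any_eq_true, beq_true_iff] using h
  obtain ⟨hu, hux, hcu⟩ := l1_wit p hp
  rw [htA] at hcu
  obtain ⟨h1', h2'⟩ := adjust D hu hux ha1 ha2
  have hA' : ((D.val p.2)⁻¹ * g0) * D.val A * ((D.val p.2)⁻¹ * g0)⁻¹ = D.val TA :=
    adjust_img D hu (hT TA (by simp)).1 hcu (hpa ▸ by simpa [eS] using hcar 2)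
  clear hcar hm hk hka
  obtain ⟨a', b', c', hcar, hm⟩ := mk _ h1' h2'
  have haTA : a' = TA := by
    refine D.val_inj _ _ (hm a' (by simp)).1 (hT TA (by simp)).1 ?_
    rw [← hA']
    simpa [eS] using (hcar 2).symm
  subst a'
  have hk := carries_kind D hP hcar hsrc hm
  obtain ⟨hb, hbx⟩ := hm b' (by simp)
  obtain ⟨hc, hcx⟩ := hm c' (by simp)
  have hkb : sameKind [1344, zN, tgA, b'] auW2 = true := sameKind_of fun w hw => by
    rw [wordN_congr (e' := [1344, zN, TA, b', c']) fun i hi => ?_, hk w]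
    have := words_short.2.1 w hw i hi
    rw [htA]
    interval_cases i <;> rfl
  have hkc : sameKind [1344, zN, tgA, 0, c'] auW3 = true := sameKind_of fun w hw => by
    rw [wordN_congr (e' := [1344, zN, TA, b', c']) fun i hi => ?_, hk w]
    obtain ⟨h5, h3⟩ := words_short.2.2 w hw i hi
    rw [htA]
    interval_cases i <;> first | rfl | exact absurd rfl h3
  have hr : sameRel [1344, zN, tgA, b', c'] = true := by
    simp only [sameRel, Bool.and_eq_true, List.all_eq_true, beq_true_iff, htA]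
    refine ⟨fun r hr => ?_, sameKind_of fun w _ => hk w⟩
    refine D.val_inj _ _ (wordN_spec D _ hm r.1).1 (wordN_spec D _ hm r.2).1 ?_
    rw [← carries_word D hcar hsrc hm, ← carries_word D hcar hsrc hm, hrel r hr]
  have hb2 : b' ∈ auL2 := by
    have h := allEls_spec l2_spec b' hb
    rw [hbx, hkb] at h
    simpa [List.any_eq_true, beq_true_iff] using h
  have hc3 : c' ∈ auL3 := by
    have h := allEls_spec l3_spec c' hc
    rw [hcx, hkc] at h
    simpa [List.any_eq_true, beq_true_iff] using h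
  obtain ⟨q, hq, hqb, hqc⟩ : ∃ q ∈ auGood, q.1 = b' ∧ q.2.1 = c' := by
    have h := List.all_eq_true.1 (List.all_eq_true.1 pair_spec b' hb2) c' hc3
    rw [hr] at h
    simpa [List.any_eq_true, beq_true_iff] using h
  obtain ⟨hv, hvx, hva, hvb, hvc⟩ := good_wit q hq
  rw [htA] at hva
  rw [show auTgt.getD 3 0 = TB by rw [eT]; rfl, hqb] at hvb
  rw [show auTgt.getD 4 0 = TC by rw [eT]; rfl, hqc] at hvc
  obtain ⟨h1'', h2''⟩ := adjust D hv hvx h1' h2'
  refine ⟨(D.val q.2.2)⁻¹ * ((D.val p.2)⁻¹ * g0), fun i => ?_⟩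
  rw [eS, eT]
  match i with
  | 0 => simpa [D.val_z] using h1''
  | 1 => simpa [D.val_z] using h2''
  | 2 => exact adjust_img D hv (hT TA (by simp)).1 hva (by simpa [eS] using hcar 2)
  | 3 => exact adjust_img D hv (hT TB (by simp)).1 hvb (by simpa [eS] using hcar 3)
  | 4 => exact adjust_img D hv (hT TC (by simp)).1 hvc (by simpa [eS] using hcar 4)
  | _ + 5 => simp [D.val_zero]; group

theorem g_pairs {g : G} (h : Carries D g auSrc auTgt) :
    ∀ p ∈ gPairs, g * D.val p.1 = D.val p.2 * g := by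
  obtain ⟨-, hsrc, htgt, -, -, -, -, hpairs, hmap, -⟩ := data_spec
  intro p hp
  rw [← hmap] at hp
  obtain ⟨q, hq, rfl⟩ := List.mem_map.1 hp
  rw [← (hpairs q hq).1, ← (hpairs q hq).2, ← carries_word D h hsrc htgt]
  group

/-- The element with the given action and square one. -/
theorem exists_g (hP : Pattern D m24T) : ∃ g : G, g * g = 1 ∧ g * z * g⁻¹ = D.val 1344 ∧
    g * D.val 1344 * g⁻¹ = z ∧ Carries D g auSrc auTgt := by
  obtain ⟨g, hg⟩ := exists_g_carries D hP
  obtain ⟨-, hsrc, htgt, -, -, -, -, -, -, hsq⟩ := data_spec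
  have h1 : g * z * g⁻¹ = D.val 1344 := by
    simpa [auSrc, auTgt, show D.val 10752 = z from D.val_z] using hg 0
  have h2 : g * D.val 1344 * g⁻¹ = z := by
    have := hg 1
    simp only [auSrc, auTgt] at this
    simpa [show D.val 10752 = z from D.val_z] using this
  have hgg : ∀ i < 5, g * g * D.val (auSrc.getD i 0) * (g * g)⁻¹ = D.val (auSrc.getD i 0) := by
    intro i hi
    have e : g * D.val (auTgt.getD i 0) * g⁻¹ = D.val (auSrc.getD i 0) := by
      rw [← (hsq i hi).1, carries_word D hg hsrc htgt, (hsq i hi).2]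
    rw [show g * g * D.val (auSrc.getD i 0) * (g * g)⁻¹ =
      g * (g * D.val (auSrc.getD i 0) * g⁻¹) * g⁻¹ by group, hg i, e]
  obtain ⟨m, hm, em⟩ := D.val_surj (g * g) (by
    have := hgg 0 (by norm_num)
    rw [show auSrc.getD 0 0 = zN by rfl, D.val_z] at this
    exact mul_inv_eq_iff_eq_mul.1 this)
  have hlen : auSrc.length = 5 := rfl
  have hmc : m ∈ [0, 1344, zN, 12096] := by
    have h := allEls_spec centre_spec m hm
    have hall : (auSrc.all fun a => Nat.beq (mulN 0 m a) (mulN 0 a m)) = true := by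
      refine List.all_eq_true.2 fun a ha => beq_true_iff.2 ?_
      obtain ⟨i, hi, rfl⟩ := List.getElem_of_mem ha
      refine D.mul_val_eq hm (hsrc _ (List.getElem_mem hi)).1 ?_
      have := hgg i (hlen ▸ hi)
      rw [List.getD_eq_getElem _ _ hi] at this
      rw [em]
      exact mul_inv_eq_iff_eq_mul.1 this
    rw [hall] at h
    simpa [List.any_eq_true, beq_true_iff] using h
  have hfix : g * D.val m * g⁻¹ = D.val m := by rw [em]; group
  simp only [List.mem_cons, List.not_mem_nil, or_false] at hmc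
  have hz0 : (1344 : ℕ) ≠ zN := by norm_num [zN]
  rcases hmc with rfl | rfl | rfl | rfl
  · exact ⟨g, by rw [← em, D.val_zero], h1, h2, hg⟩
  · rw [h2] at hfix
    exact absurd (D.val_inj _ _ Cen.zN_lt (by norm_num) (D.val_z.trans hfix)).symm hz0
  · rw [D.val_z, h1] at hfix
    exact absurd (D.val_inj _ _ (by norm_num) Cen.zN_lt (hfix.trans D.val_z.symm)) hz0
  · have hprod : D.val 12096 = z * D.val 1344 := by
      have h := D.val_mul zN 1344 Cen.zN_lt (by norm_num)
      rw [show mulN 0 zN 1344 = 12096 by decide +kernel, D.val_z] at h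
      exact h
    refine ⟨g * z, ?_, ?_, ?_, fun i => ?_⟩
    · calc g * z * (g * z) = (g * z * g⁻¹) * (g * g) * z := by group
        _ = 1 := by
          rw [h1, ← em, hprod, ← mul_assoc, D.val_comm 1344 (by norm_num),
            mul_assoc z, ← D.val_mul 1344 1344 (by norm_num) (by norm_num),
            show mulN 0 1344 1344 = 0 by decide +kernel, D.val_zero, mul_one, D.zz]
    · rw [← h1]; group
    · rw [show g * z * D.val 1344 * (g * z)⁻¹ = g * (z * D.val 1344 * z⁻¹) * g⁻¹ by group,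
        ← D.val_comm 1344 (by norm_num), mul_inv_cancel_right, h2]
    · have hlt : auSrc.getD i 0 < 21504 := by
        rcases lt_or_ge i auSrc.length with hi | hi
        · rw [List.getD_eq_getElem _ _ hi]; exact (hsrc _ (List.getElem_mem hi)).1
        · rw [List.getD_eq_default _ _ hi]; norm_num
      rw [show g * z * D.val (auSrc.getD i 0) * (g * z)⁻¹ =
          g * (z * D.val (auSrc.getD i 0) * z⁻¹) * g⁻¹ by group, ← D.val_comm _ hlt,
        mul_inv_cancel_right, hg i]

end CfsgLib.Spor.HeTri.MTF
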