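import Cfsg.Agent.Lib.Spor.HeTri.M24CardData

/-!
Checks of the derivations, of the small table and of the words for the model.
-/

set_option autoImplicit false

namespace CfsgLib.Spor.HeTri.MTF.Card

open CfsgLib.Spor.HeRecog

/-- the five generators of the model -/
def five : List ℕ := [1, 3, 21, 168, 1344]

/-- the initial facts, small level -/
def initC : List Fa :=
  five.map (fun m => ⟨0, m, 2, 0, 0⟩) ++ [⟨0, 0, 1, 1, 0⟩] ++
    nPairs.map (fun p => ⟨1, p.1, 2, 0, 0⟩)

/-- the initial facts, large level -/
def initK : List Fa :=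
  five.map (fun m => ⟨0, m, 2, 0, 0⟩) ++
    [⟨0, 0, 1, 0, 0⟩, ⟨0, 0, 0, 1, 0⟩, ⟨1, 2, 0, 2, 0⟩, ⟨1, 2, 1, 3, 0⟩, ⟨2, 0, 1, 4, 0⟩,
      ⟨2, 3, 0, 5, 0⟩]

/-- all facts, small level -/
def factC : List Fa := initC ++ derC.map (fun D => D.1)

/-- all facts, large level -/
def factK : List Fa := initK ++ derK.map (fun D => D.1)

theorem dersC_check : okDers initC derC = true := by decide +kernel

theorem dersK_check : okDers initK derK = true := by decide +kernel

theorem tableC_check :
    (List.range tabC.length).all (okTable factC tabC [1]) = true := by decide +kernel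

theorem qWords_check :
    (allN 128 fun q => Nat.beq (wev five 16 (qWords.getD q 0)) (Nat.mul 168 q)) = true := by
  decide +kernel

theorem kWords_check :
    (allN 168 fun q => Nat.beq (wev five 16 (kWords.getD q 0)) q) = true := by decide +kernel

theorem split_check :
    (allEls fun m => Nat.beq (mulN 0 (Nat.mul 168 (m / 168)) (m % 168)) m) = true := by
  decide +kernel

/-- the check of one row of the large table -/
def okRowK (j r : ℕ) : Bool :=
  Nat.blt (rep r) 21504 && okModel (stabs factK j) (tabK.getD j []) r &&
    okLetters factK tabK [0, 1] j r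

end CfsgLib.Spor.HeTri.MTF.Card
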