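import Cfsg.Agent.Lib.Spor.HeTri.M24CardCheck

/-!
Checks of the rows of the large table, first part.
-/

set_option autoImplicit false

namespace CfsgLib.Spor.HeTri.MTF.Card

open CfsgLib.Spor.HeRecog

theorem rowK0_0_check : rowK0_0.all (okRowK 0) = true := by decide +kernel

theorem rowK1_0_check : rowK1_0.all (okRowK 1) = true := by decide +kernel

theorem rowK2_0_check : rowK2_0.all (okRowK 2) = true := by decide +kernel

theorem rowK3_0_check : rowK3_0.all (okRowK 3) = true := by decide +kernel

theorem rowK4_0_check : rowK4_0.all (okRowK 4) = true := by decide +kernel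

theorem rowK4_1_check : rowK4_1.all (okRowK 4) = true := by decide +kernel

theorem rowK4_2_check : rowK4_2.all (okRowK 4) = true := by decide +kernel

theorem rowK4_3_check : rowK4_3.all (okRowK 4) = true := by decide +kernel

theorem rowK5_0_check : rowK5_0.all (okRowK 5) = true := by decide +kernel

theorem rowK5_1_check : rowK5_1.all (okRowK 5) = true := by decide +kernel

theorem rowK5_2_check : rowK5_2.all (okRowK 5) = true := by decide +kernel

theorem rowK5_3_check : rowK5_3.all (okRowK 5) = true := by decide +kernel

end CfsgLib.Spor.HeTri.MTF.Card
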