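import Cfsg.Agent.Lib.Spor.HeTri.M24Rels

/-!
# Coset certificates over the model of the centraliser

A point `(j, c)` stands for the right coset `K * W j * v c`.  A fact is either an element `c` with
`W a * v c * (W a)⁻¹ ∈ K` (`d = 2`) or an edge from `(a, c)` to `(b, e)` by the letter `d`.
Facts are derived from earlier ones by reading relations, and a table of representatives closed
under the generators bounds the order of the generated subgroup.
-/

set_option autoImplicit false

namespace CfsgLib.Spor.HeTri.MTF.Card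

open CfsgLib.Spor.HeRecog

universe u

/-- a fact -/
structure Fa where
  /-- first index -/
  a : ℕ
  /-- first element -/
  c : ℕ
  /-- kind -/
  d : ℕ
  /-- second index -/
  b : ℕ
  /-- second element -/
  e : ℕ

/-- evaluation of a word with hexadecimal digits -/
def wev (gs : List ℕ) : ℕ → ℕ → ℕ
  | 0, _ => 0
  | k + 1, w => cond (Nat.beq w 0) 0 (mulN 0 (wev gs k (w / 16)) (gs.getD (w % 16 - 1) 0))

/-- the letters of a word act on the model by these pairs -/
def pairs (d : ℕ) : List (ℕ × ℕ) := cond (Nat.beq d 0) gPairs nPairs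

/-- the first components -/
def srcs (d : ℕ) : List ℕ := (pairs d).map Prod.fst

/-- the second components -/
def imgs (d : ℕ) : List ℕ := (pairs d).map Prod.snd

/-- known elements of the stabiliser of the coset `j` -/
def stabs (fs : List Fa) (j : ℕ) : List ℕ :=
  fs.filterMap fun f => cond (Nat.beq f.d 2 && Nat.beq f.a j) (some f.c) none

/-- the product `s * c * u` -/
def tri (gs : List ℕ) (sw c : ℕ) (d uw : ℕ) : ℕ :=
  mulN 0 (mulN 0 (wev gs 16 sw) c) (wev (srcs d) 16 uw)

/-- use of an edge: the witness is the edge with its direction and the two words -/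
def stepP (fs : List Fa) (P : ℕ × ℕ) (d : ℕ) (t : ℕ × ℕ × ℕ) : Option (ℕ × ℕ) :=
  let f := fs.getD (t.1 / 2) ⟨0, 0, 3, 0, 0⟩
  cond (Nat.beq f.d d && Nat.ble d 1)
    (cond (Nat.beq (t.1 % 2) 0)
      (cond (Nat.beq f.a P.1 && Nat.beq P.2 (tri (stabs fs P.1) t.2.2 f.c d t.2.1))
        (some (f.b, mulN 0 f.e (wev (imgs d) 16 t.2.1))) none)
      (cond (Nat.beq f.b P.1 && Nat.beq P.2 (tri (stabs fs P.1) t.2.2 f.e d t.2.1))
        (some (f.a, mulN 0 f.c (wev (imgs d) 16 t.2.1))) none))
    none

/-- reading a word from a point; letters are `0`, `1` and `m + 2` for model elements -/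
def walk (fs : List Fa) : List ℕ → List (ℕ × ℕ × ℕ) → ℕ × ℕ → Option (ℕ × ℕ)
  | [], _, P => some P
  | x :: w, ts, P =>
    cond (Nat.ble x 1)
      (match ts with
        | [] => none
        | t :: ts' =>
          match stepP fs P x t with
          | none => none
          | some Q => walk fs w ts' Q)
      (cond (Nat.blt (x - 2) 21504) (walk fs w ts (P.1, mulN 0 P.2 (x - 2))) none)

/-- the relations, as words -/
def relW : List (List ℕ) :=
  [[0, 0], [1, 1], [0, 1, 0, 1], [0, 9, 0, 9, 0, 9, 0, 9, 6726, 1, 16813],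
    [0, 170, 0, 170, 0, 170], [1, 3, 1, 10777, 1, 4], [1, 2690, 1, 3362, 1, 2690]]

/-- a derivation: new fact, relation, rotation, start and witnesses -/
abbrev Der : Type := Fa × ℕ × ℕ × (ℕ × ℕ) × List (ℕ × ℕ × ℕ)

/-- a check of one derivation -/
def okDer (fs : List Fa) (D : Der) : Bool :=
  let r := relW.getD D.2.1 []
  let w := r.drop D.2.2.1 ++ r.take D.2.2.1
  cond (Nat.beq D.1.d 2)
    (match walk fs w D.2.2.2.2 D.2.2.2.1 with
      | none => false
      | some Q => Nat.beq D.1.a D.2.2.2.1.1 && Nat.beq Q.1 D.1.a &&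
          Nat.blt D.1.c 21504 && Nat.blt D.2.2.2.1.2 21504 &&
          Nat.beq Q.2 (mulN 0 D.1.c D.2.2.2.1.2))
    (match w with
      | [] => false
      | x :: w' =>
        match walk fs w' D.2.2.2.2 D.2.2.2.1 with
        | none => false
        | some Q => Nat.beq x D.1.d && Nat.ble x 1 && Nat.beq D.2.2.2.1.1 D.1.b &&
            Nat.beq D.2.2.2.1.2 D.1.e && Nat.blt D.1.e 21504 && Nat.beq Q.1 D.1.a &&
            Nat.beq Q.2 D.1.c)

/-- a check of all derivations -/
def okDers : List Fa → List Der → Bool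
  | _, [] => true
  | fs, D :: l => okDer fs D && okDers (fs ++ [D.1]) l

/-- a field of a row -/
def fld (r i : ℕ) : ℕ := (r / 2 ^ (64 * i)) % 2 ^ 64

/-- the representative of a row -/
def rep (r : ℕ) : ℕ := fld r 0

/-- a row is closed under the five generators of the model -/
def okModel (gs rows : List ℕ) (r : ℕ) : Bool :=
  ([(1, 1), (2, 3), (3, 21), (4, 168), (5, 1344)] : List (ℕ × ℕ)).all fun im =>
    let x := fld r im.1
    Nat.blt (x % 2 ^ 16) rows.length &&
      Nat.beq (mulN 0 (rep r) im.2)
        (mulN 0 (wev gs 16 (x / 2 ^ 16)) (rep (rows.getD (x % 2 ^ 16) 0)))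

/-- a row is closed under the letters -/
def okLetters (fs : List Fa) (T : List (List ℕ)) (ls : List ℕ) (j r : ℕ) : Bool :=
  (List.range ls.length).all fun l =>
    let x := fld r (6 + 3 * l)
    let y := fld r (8 + 3 * l)
    match stepP fs (j, rep r) (ls.getD l 0) (x % 2 ^ 8, x / 2 ^ 8, fld r (7 + 3 * l)) with
    | none => false
    | some Q =>
      Nat.blt (y % 2 ^ 16) (T.getD Q.1 []).length &&
        Nat.beq Q.2 (mulN 0 (wev (stabs fs Q.1) 16 (y / 2 ^ 16))
          (rep ((T.getD Q.1 []).getD (y % 2 ^ 16) 0)))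

/-- the table of rows with index `j` is closed -/
def okTable (fs : List Fa) (T : List (List ℕ)) (ls : List ℕ) (j : ℕ) : Bool :=
  let gs := stabs fs j
  let rows := T.getD j []
  rows.all fun r => Nat.blt (rep r) 21504 && okModel gs rows r && okLetters fs T ls j r

section Sound

variable {P : Type u} [Group P] (v : ℕ → P) (g n : P)

/-- the value of a letter -/
def letV (d : ℕ) : P := cond (Nat.beq d 0) g n

/-- the value of a word -/
def wordV (w : List ℕ) : P :=
  (w.map fun x => cond (Nat.ble x 1) (letV g n x) (v (x - 2))).prod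

/-- What is needed of the group. -/
structure Sem : Prop where
  mul : ∀ a < 21504, ∀ b < 21504, v (mulN 0 a b) = v a * v b
  invol : ∀ d, letV g n d * letV g n d = 1
  pair : ∀ d, ∀ p ∈ pairs d, letV g n d * v p.1 = v p.2 * letV g n d
  rel : ∀ r ∈ relW, wordV v g n r = 1

variable {v g n}

theorem sem_of_rels (h : Rels v g n) : Sem v g n where
  mul := h.mul
  invol d := by cases hd : Nat.beq d 0 <;> simp [letV, hd, h.gg, h.nn]
  pair d := by
    cases hd : Nat.beq d 0 <;> simp only [pairs, letV, hd, cond_true, cond_false]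
    exacts [h.n_x, h.g_x]
  rel r hr := by
    have e := h.line
    have e6 := h.six
    have e1 := h.ncn
    have e2 := h.ncn'
    simp only [mul_assoc] at e e6 e1 e2
    simp only [relW, List.mem_cons, List.not_mem_nil, or_false] at hr
    rcases hr with rfl | rfl | rfl | rfl | rfl | rfl | rfl
    · show g * (g * 1) = 1
      rw [mul_one, h.gg]
    · show n * (n * 1) = 1
      rw [mul_one, h.nn]
    · show g * (n * (g * (n * 1))) = 1
      calc g * (n * (g * (n * 1))) = g * (n * g) * n := by group
        _ = g * (g * n) * n := by rw [h.gn]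
        _ = g * g * (n * n) := by group
        _ = 1 := by rw [h.gg, h.nn, one_mul]
    · show g * (v 7 * (g * (v 7 * (g * (v 7 * (g * (v 7 * (v 6724 * (n * (v 16811 * 1)))))))))) = 1
      rw [mul_one]; exact e6
    · show g * (v 168 * (g * (v 168 * (g * (v 168 * 1))))) = 1
      rw [mul_one]; exact e
    · show n * (v 1 * (n * (v 10775 * (n * (v 2 * 1))))) = 1
      rw [mul_one]; exact e1
    · show n * (v 2688 * (n * (v 3360 * (n * (v 2688 * 1))))) = 1
      rw [mul_one]; exact e2

theorem pairs_lt : ∀ d, ∀ p ∈ pairs d, p.1 < 21504 ∧ p.2 < 21504 := by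
  intro d
  cases hd : Nat.beq d 0 <;> simp only [pairs, hd, cond_true, cond_false] <;> decide

variable (S : Sem v g n)
include S

theorem v_zero : v 0 = 1 := by
  have h := S.mul 0 (by norm_num) 0 (by norm_num)
  rw [(model_spec (k := 0) (m := 0) (by norm_num) (by norm_num)).2.1] at h
  exact left_eq_mul.mp h

theorem wev_spec {gs : List ℕ} {Q : ℕ → Prop} (h0 : Q 0) (hg : ∀ a ∈ gs, a < 21504 ∧ Q a)
    (hm : ∀ a b, a < 21504 → b < 21504 → Q a → Q b → Q (mulN 0 a b)) :
    ∀ k w, wev gs k w < 21504 ∧ Q (wev gs k w)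
  | 0, w => ⟨by norm_num [wev], h0⟩
  | k + 1, w => by
    obtain ⟨h1, h2⟩ := wev_spec h0 hg hm k (w / 16)
    have hd : gs.getD (w % 16 - 1) 0 < 21504 ∧ Q (gs.getD (w % 16 - 1) 0) := by
      rw [List.getD_eq_getElem?_getD]
      cases hi : gs[w % 16 - 1]? with
      | none => exact ⟨by norm_num, h0⟩
      | some a => exact hg a (List.mem_of_getElem? hi)
    cases hw : Nat.beq w 0 with
    | true => simp [wev, hw, h0]
    | false =>
      simp only [wev, hw, cond_false]
      exact ⟨mulN_lt h1 _ _, hm _ _ h1 hd.1 h2 hd.2⟩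

theorem wev_pairs (d w : ℕ) : ∀ k, wev (srcs d) k w < 21504 ∧ wev (imgs d) k w < 21504 ∧
    v (wev (srcs d) k w) * letV g n d = letV g n d * v (wev (imgs d) k w) := by
  intro k
  induction k generalizing w with
  | zero => exact ⟨by norm_num [wev], by norm_num [wev], by simp [wev, v_zero S]⟩
  | succ k ih =>
    obtain ⟨h1, h2, h3⟩ := ih (w / 16)
    have hd : (srcs d).getD (w % 16 - 1) 0 < 21504 ∧ (imgs d).getD (w % 16 - 1) 0 < 21504 ∧
        v ((srcs d).getD (w % 16 - 1) 0) * letV g n d =
          letV g n d * v ((imgs d).getD (w % 16 - 1) 0) := by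
      simp only [srcs, imgs, List.getD_eq_getElem?_getD, List.getElem?_map]
      cases hi : (pairs d)[w % 16 - 1]? with
      | none => simp [v_zero S]
      | some p =>
        have hp := List.mem_of_getElem? hi
        refine ⟨(pairs_lt d p hp).1, (pairs_lt d p hp).2, ?_⟩
        show v p.1 * letV g n d = letV g n d * v p.2
        have h := congrArg (fun x => letV g n d * x * letV g n d) (S.pair d p hp)
        simp only [← mul_assoc, S.invol, one_mul] at h
        rw [h, mul_assoc, S.invol, mul_one]
    cases hw : Nat.beq w 0 with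
    | true => simp [wev, hw, v_zero S]
    | false =>
      simp only [wev, hw, cond_false]
      refine ⟨mulN_lt h1 _ _, mulN_lt h2 _ _, ?_⟩
      rw [S.mul _ h1 _ hd.1, S.mul _ h2 _ hd.2.1, mul_assoc, hd.2.2, ← mul_assoc, h3, mul_assoc]

variable (K : Subgroup P) (W : ℕ → P)

omit S in
/-- equality of right cosets of `K` -/
def Cg (a b : P) : Prop := a * b⁻¹ ∈ K

omit S in
theorem cg_refl (a : P) : Cg K a a := by simp [Cg]

omit S in
theorem cg_trans {a b c : P} (h : Cg K a b) (h' : Cg K b c) : Cg K a c := by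
  have := K.mul_mem h h'
  simpa [Cg, mul_assoc] using this

omit S in
theorem cg_symm {a b : P} (h : Cg K a b) : Cg K b a := by
  have := K.inv_mem h
  simpa [Cg] using this

omit S in
theorem cg_mul {a b : P} (h : Cg K a b) (c : P) : Cg K (a * c) (b * c) := by
  simpa [Cg, mul_assoc] using h

omit S in
theorem cg_left {a b k : P} (h : Cg K a b) (hk : k ∈ K) : Cg K (k * a) b := by
  have := K.mul_mem hk h
  simpa [Cg, mul_assoc] using this

variable (v) in
omit S in
/-- the value of a point -/
def ptV (Q : ℕ × ℕ) : P := W Q.1 * v Q.2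

variable (v g n) in
omit S in
/-- the meaning of a fact -/
def Holds (f : Fa) : Prop :=
  (f.d = 2 → f.c < 21504 ∧ W f.a * v f.c * (W f.a)⁻¹ ∈ K) ∧
    (f.d ≤ 1 → f.c < 21504 ∧ f.e < 21504 ∧
      Cg K (ptV v W (f.a, f.c) * letV g n f.d) (ptV v W (f.b, f.e)))

theorem stab_spec {fs : List Fa} (hf : ∀ f ∈ fs, Holds v g n K W f) (j k w : ℕ) :
    wev (stabs fs j) k w < 21504 ∧ W j * v (wev (stabs fs j) k w) * (W j)⁻¹ ∈ K := by
  refine wev_spec S (Q := fun a => W j * v a * (W j)⁻¹ ∈ K) (by simp [v_zero S]) ?_ ?_ k w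
  · intro a ha
    simp only [stabs, List.mem_filterMap] at ha
    obtain ⟨f, hfm, he⟩ := ha
    cases hc : (Nat.beq f.d 2 && Nat.beq f.a j) with
    | false => simp [hc] at he
    | true =>
      simp only [hc, cond_true, Option.some.injEq] at he
      simp only [Bool.and_eq_true, Nat.beq_eq] at hc
      subst he
      rw [← hc.2]
      exact (hf f hfm).1 hc.1
  · intro a b ha hb h1 h2
    have := K.mul_mem h1 h2
    rw [S.mul a ha b hb]
    simpa [mul_assoc] using this

theorem cross {fs : List Fa} (hf : ∀ f ∈ fs, Holds v g n K W f) {j j' d c c' : ℕ} (hc : c < 21504)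
    (hc' : c' < 21504) (h : Cg K (ptV v W (j, c) * letV g n d) (ptV v W (j', c'))) (sw uw : ℕ) :
    mulN 0 c' (wev (imgs d) 16 uw) < 21504 ∧
      Cg K (ptV v W (j, tri (stabs fs j) sw c d uw) * letV g n d)
        (ptV v W (j', mulN 0 c' (wev (imgs d) 16 uw))) := by
  obtain ⟨h1, h2⟩ := stab_spec S K W hf j 16 sw
  obtain ⟨u1, u2, u3⟩ := wev_pairs S d uw 16
  refine ⟨mulN_lt hc' _ _, ?_⟩
  rw [tri, ptV, ptV, S.mul _ (mulN_lt h1 _ _) _ u1, S.mul _ h1 _ hc, S.mul _ hc' _ u2]
  have h3 := cg_left K (cg_mul K h (v (wev (imgs d) 16 uw))) h2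
  simp only [ptV, mul_assoc, inv_mul_cancel_left] at h3 ⊢
  rwa [u3]

theorem step_sound {fs : List Fa} (hf : ∀ f ∈ fs, Holds v g n K W f) {Q R : ℕ × ℕ} {d : ℕ}
    {t : ℕ × ℕ × ℕ} (h : stepP fs Q d t = some R) :
    R.2 < 21504 ∧ Cg K (ptV v W Q * letV g n d) (ptV v W R) := by
  simp only [stepP] at h
  generalize hfe : fs.getD (t.1 / 2) ⟨0, 0, 3, 0, 0⟩ = f at h
  cases hc : (Nat.beq f.d d && Nat.ble d 1) with
  | false => simp [hc] at h
  | true =>
    simp only [hc, cond_true] at h
    simp only [Bool.and_eq_true, Nat.beq_eq, Nat.ble_eq] at hc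
    obtain ⟨rfl, hd⟩ := hc
    have hfm : Holds v g n K W f := by
      rw [List.getD_eq_getElem?_getD] at hfe
      cases hi : fs[t.1 / 2]? with
      | none => simp [hi] at hfe; simp [← hfe] at hd
      | some a =>
        simp only [hi, Option.getD_some] at hfe
        subst hfe
        exact hf a (List.mem_of_getElem? hi)
    obtain ⟨hc1, hc2, he⟩ := hfm.2 hd
    cases hdir : Nat.beq (t.1 % 2) 0 with
    | true =>
      simp only [hdir, cond_true] at h
      cases hck : (Nat.beq f.a Q.1 &&
          Nat.beq Q.2 (tri (stabs fs Q.1) t.2.2 f.c f.d t.2.1)) with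
      | false => simp [hck] at h
      | true =>
        simp only [hck, cond_true, Option.some.injEq] at h
        simp only [Bool.and_eq_true, Nat.beq_eq] at hck
        subst h
        rw [hck.1] at he
        have := cross S K W hf hc1 hc2 he t.2.2 t.2.1
        rwa [← hck.2] at this
    | false =>
      simp only [hdir, cond_false] at h
      cases hck : (Nat.beq f.b Q.1 &&
          Nat.beq Q.2 (tri (stabs fs Q.1) t.2.2 f.e f.d t.2.1)) with
      | false => simp [hck] at h
      | true =>
        simp only [hck, cond_true, Option.some.injEq] at h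
        simp only [Bool.and_eq_true, Nat.beq_eq] at hck
        subst h
        have he' : Cg K (ptV v W (f.b, f.e) * letV g n f.d) (ptV v W (f.a, f.c)) := by
          have := cg_symm K (cg_mul K he (letV g n f.d))
          rwa [mul_assoc (ptV v W (f.a, f.c)), S.invol, mul_one] at this
        rw [hck.1] at he'
        have := cross S K W hf hc2 hc1 he' t.2.2 t.2.1
        rwa [← hck.2] at this

theorem walk_sound {fs : List Fa} (hf : ∀ f ∈ fs, Holds v g n K W f) :
    ∀ (w : List ℕ) (ts : List (ℕ × ℕ × ℕ)) (Q R : ℕ × ℕ), Q.2 < 21504 →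
      walk fs w ts Q = some R → R.2 < 21504 ∧ Cg K (ptV v W Q * wordV v g n w) (ptV v W R) := by
  intro w
  induction w with
  | nil =>
    intro ts Q R hQ h
    simp only [walk, Option.some.injEq] at h
    subst h
    simpa [wordV] using ⟨hQ, cg_refl K _⟩
  | cons x w ih =>
    intro ts Q R hQ h
    simp only [walk] at h
    have hcons : wordV v g n (x :: w) =
        cond (Nat.ble x 1) (letV g n x) (v (x - 2)) * wordV v g n w := by simp [wordV]
    rw [hcons, ← mul_assoc]
    cases hx : Nat.ble x 1 with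
    | true =>
      simp only [hx, cond_true] at h ⊢
      cases ts with
      | nil => simp at h
      | cons t ts =>
        simp only at h
        cases hs : stepP fs Q x t with
        | none => simp [hs] at h
        | some Q' =>
          simp only [hs] at h
          obtain ⟨h1, h2⟩ := step_sound S K W hf hs
          obtain ⟨h3, h4⟩ := ih ts Q' R h1 h
          exact ⟨h3, cg_trans K (cg_mul K h2 _) h4⟩
    | false =>
      simp only [hx, cond_false] at h ⊢
      cases hb : Nat.blt (x - 2) 21504 with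
      | false => simp [hb] at h
      | true =>
        simp only [hb, cond_true] at h
        obtain ⟨h3, h4⟩ := ih ts _ R (mulN_lt hQ _ _) h
        refine ⟨h3, ?_⟩
        rw [show ptV v W Q * v (x - 2) = ptV v W (Q.1, mulN 0 Q.2 (x - 2)) from by
          rw [ptV, ptV, S.mul _ hQ _ (Nat.blt_eq.mp hb), mul_assoc]]
        exact h4

theorem rot_eq_one (i k : ℕ) :
    wordV v g n ((relW.getD i []).drop k ++ (relW.getD i []).take k) = 1 := by
  have h : wordV v g n (relW.getD i []) = 1 := by
    rw [List.getD_eq_getElem?_getD]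
    cases hi : relW[i]? with
    | none => simp [wordV]
    | some r => exact S.rel r (List.mem_of_getElem? hi)
  generalize relW.getD i [] = r at h
  rw [← List.take_append_drop k r] at h
  simp only [wordV, List.map_append, List.prod_append] at h ⊢
  exact mul_eq_one_comm.mp h

theorem der_sound {fs : List Fa} (hf : ∀ f ∈ fs, Holds v g n K W f) {D : Der}
    (h : okDer fs D = true) : Holds v g n K W D.1 := by
  obtain ⟨f, i, k, Q, ts⟩ := D
  simp only [okDer] at h
  have hr := rot_eq_one S i k
  generalize (relW.getD i []).drop k ++ (relW.getD i []).take k = w at h hr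
  cases hd : Nat.beq f.d 2 with
  | true =>
    simp only [hd, cond_true] at h
    cases hw : walk fs w ts Q with
    | none => simp [hw] at h
    | some R =>
      simp only [hw, Bool.and_eq_true, Nat.beq_eq, Nat.blt_eq] at h
      obtain ⟨⟨⟨⟨e1, e2⟩, hc⟩, hQ⟩, e3⟩ := h
      obtain ⟨-, hcg⟩ := walk_sound S K W hf w ts Q R hQ hw
      refine ⟨fun _ => ⟨hc, ?_⟩, fun h => by simp [Nat.eq_of_beq_eq_true hd] at h⟩
      have := cg_symm K hcg
      rw [hr, mul_one, Cg, ptV, ptV, e2, e3, ← e1, S.mul _ hc _ hQ] at this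
      simp only [mul_assoc, mul_inv_rev, mul_inv_cancel_left] at this ⊢
      exact this
  | false =>
    simp only [hd, cond_false] at h
    cases w with
    | nil => simp at h
    | cons x w =>
      simp only at h
      cases hw : walk fs w ts Q with
      | none => simp [hw] at h
      | some R =>
        simp only [hw, Bool.and_eq_true, Nat.beq_eq, Nat.ble_eq, Nat.blt_eq] at h
        obtain ⟨⟨⟨⟨⟨⟨rfl, hx⟩, e1⟩, e2⟩, he⟩, e3⟩, e4⟩ := h
        obtain ⟨hR, hcg⟩ := walk_sound S K W hf w ts Q R (e2 ▸ he) hw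
        refine ⟨fun h => by change f.d = 2 at h; omega, fun _ => ⟨e4 ▸ hR, he, ?_⟩⟩
        have hx' : Nat.ble f.d 1 = true := Nat.ble_eq.mpr hx
        simp only [wordV, List.map_cons, List.prod_cons, hx', cond_true] at hr
        have hwv : wordV v g n w = letV g n f.d := by
          rw [← mul_right_inj (letV g n f.d), S.invol]
          exact hr
        rw [hwv] at hcg
        have h2 := cg_symm K (cg_mul K hcg (letV g n f.d))
        rw [mul_assoc, S.invol, mul_one] at h2
        rw [← e3, ← e4, ← e1, ← e2]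
        exact h2

theorem ders_sound : ∀ (fs : List Fa) (l : List Der), (∀ f ∈ fs, Holds v g n K W f) →
    okDers fs l = true → ∀ f ∈ fs ++ l.map (fun D => D.1), Holds v g n K W f := by
  intro fs l
  induction l generalizing fs with
  | nil => exact fun hf _ f hm => hf f (by simpa using hm)
  | cons D l ih =>
    intro hf h
    simp only [okDers, Bool.and_eq_true] at h
    have hD := der_sound S K W hf h.1
    have := ih (fs ++ [D.1]) (fun f hm => by
      rcases List.mem_append.mp hm with hm | hm
      · exact hf f hm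
      · rw [List.mem_singleton.mp hm]; exact hD) h.2
    simpa [List.append_assoc] using this

omit S in
/-- a set closed under right multiplication by generators bounds the generated subgroup -/
theorem card_closure_le [Finite P] {ι : Type*} [Finite ι] (φ : ι → P) (gs : Set P)
    (h1 : ∃ i, φ i = 1) (h : ∀ i, ∀ y ∈ gs, ∃ i', φ i' = φ i * y) :
    Nat.card (Subgroup.closure gs) ≤ Nat.card ι := by
  have key : ∀ x ∈ Subgroup.closure gs, ∀ i, ∃ i', φ i' = φ i * x := by
    intro x hx
    induction hx using Subgroup.closure_induction with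
    | mem y hy => exact fun i => h i y hy
    | one => exact fun i => ⟨i, (mul_one _).symm⟩
    | mul x y _ _ hx hy =>
      intro i
      obtain ⟨a, ha⟩ := hx i
      obtain ⟨b, hb⟩ := hy a
      exact ⟨b, by rw [hb, ha, mul_assoc]⟩
    | inv x _ hx =>
      have : ∀ m : ℕ, ∀ i, ∃ i', φ i' = φ i * x ^ m := by
        intro m
        induction m with
        | zero => exact fun i => ⟨i, by simp⟩
        | succ m ihm =>
          intro i
          obtain ⟨a, ha⟩ := ihm i
          obtain ⟨b, hb⟩ := hx a
          exact ⟨b, by rw [hb, ha, pow_succ, mul_assoc]⟩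
      intro i
      obtain ⟨m, hm⟩ : ∃ m : ℕ, x⁻¹ = x ^ m := ⟨orderOf x - 1, by
        rw [eq_comm, ← mul_eq_one_iff_eq_inv, ← pow_succ, Nat.sub_add_cancel (orderOf_pos x),
          pow_orderOf_eq_one]⟩
      rw [hm]; exact this m i
  obtain ⟨i₁, hi₁⟩ := h1
  choose f hf using fun x : Subgroup.closure gs => key x x.2 i₁
  exact Nat.card_le_card_of_injective f fun a b e => Subtype.ext (by
    have ha := hf a
    rw [e, hf b, hi₁, one_mul, one_mul] at ha
    exact ha.symm)

/-- the order bound given by a checked table -/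
theorem table_bound [Finite P] {fs : List Fa} (hf : ∀ f ∈ fs, Holds v g n K W f) (T : List (List ℕ))
    (ls : List ℕ) (hok : (List.range T.length).all (okTable fs T ls) = true)
    (h00 : ∃ r ∈ T.getD 0 [], rep r = 0) (hW : W 0 = 1) :
    Nat.card (Subgroup.closure (v '' {m | m ∈ [1, 3, 21, 168, 1344]} ∪ {x | ∃ d ∈ ls, letV g n d = x}))
      ≤ Nat.card K * (T.map List.length).sum := by
  haveI : Finite (Σ j : Fin T.length, Fin T[j].length) := inferInstance
  let φ : K × (Σ j : Fin T.length, Fin T[j].length) → P :=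
    fun p => p.1 * ptV v W ((p.2.1 : ℕ), rep (T[p.2.1][p.2.2]))
  have mk : ∀ (j r : ℕ) (x : P), r ∈ T.getD j [] → Cg K x (ptV v W (j, rep r)) →
      ∃ i', φ i' = x := by
    intro j r x hr hx
    have hj : j < T.length := by
      by_contra hj
      simp [List.getD_eq_getElem?_getD, List.getElem?_eq_none (Nat.not_lt.mp hj)] at hr
    rw [List.getD_eq_getElem?_getD, List.getElem?_eq_getElem hj, Option.getD_some] at hr
    obtain ⟨i, hi, rfl⟩ := List.getElem_of_mem hr
    refine ⟨(⟨x * (ptV v W (j, rep (T[j][i])))⁻¹, hx⟩, ⟨⟨j, hj⟩, ⟨i, hi⟩⟩), ?_⟩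
    show x * (ptV v W (j, rep (T[j][i])))⁻¹ * ptV v W (j, rep (T[j][i])) = x
    rw [inv_mul_cancel_right]
  have hb := card_closure_le (P := P) φ
    (v '' {m | m ∈ [1, 3, 21, 168, 1344]} ∪ {x | ∃ d ∈ ls, letV g n d = x}) ?_ ?_
  · refine hb.trans (le_of_eq ?_)
    rw [Nat.card_prod]
    congr 1
    simp only [Nat.card_eq_fintype_card, Fintype.card_sigma, Fintype.card_fin]
    exact Fin.sum_univ_fun_getElem T List.length
  · obtain ⟨r, hr, h0⟩ := h00
    refine mk 0 r 1 hr ?_
    simp [Cg, ptV, h0, hW, v_zero S]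
  rintro ⟨k, ⟨j, i⟩⟩ y hy
  have hmem : T[j][i] ∈ T.getD j [] := by
    rw [List.getD_eq_getElem?_getD, List.getElem?_eq_getElem j.2, Option.getD_some]
    exact List.getElem_mem _
  have hrow := List.all_eq_true.mp hok j (List.mem_range.mpr j.2)
  simp only [okTable, List.all_eq_true, Bool.and_eq_true, Nat.blt_eq] at hrow
  obtain ⟨⟨hrep, hmod⟩, hlet⟩ := hrow _ hmem
  have move : ∀ Q : ℕ × ℕ, Cg K (ptV v W ((j : ℕ), rep T[j][i]) * y) (ptV v W Q) →
      ∀ i' sw, i' < (T.getD Q.1 []).length →
      Q.2 = mulN 0 (wev (stabs fs Q.1) 16 sw) (rep ((T.getD Q.1 []).getD i' 0)) →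
      rep ((T.getD Q.1 []).getD i' 0) < 21504 → ∃ p, φ p = φ (k, ⟨j, i⟩) * y := by
    intro Q hQ i' sw hi' hQ2 hlt
    refine mk Q.1 ((T.getD Q.1 []).getD i' 0) _ ?_ ?_
    · rw [List.getD_eq_getElem _ _ hi']
      exact List.getElem_mem _
    · obtain ⟨hs1, hs2⟩ := stab_spec S K W hf Q.1 16 sw
      have h3 : Cg K (ptV v W Q) (ptV v W (Q.1, rep ((T.getD Q.1 []).getD i' 0))) := by
        show ptV v W Q * _ ∈ K
        simp only [ptV, hQ2, S.mul _ hs1 _ hlt, mul_inv_rev]
        simpa [mul_assoc] using hs2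
      rw [show φ (k, ⟨j, i⟩) * y = (k : P) * (ptV v W ((j : ℕ), rep T[j][i]) * y) from
        mul_assoc _ _ _]
      exact cg_left K (cg_trans K hQ h3) k.2
  have hltr : ∀ j' i', i' < (T.getD j' []).length → rep ((T.getD j' []).getD i' 0) < 21504 := by
    intro j' i' hi'
    have hj' : j' < T.length := by
      by_contra hj'
      simp [List.getD_eq_getElem?_getD, List.getElem?_eq_none (Nat.not_lt.mp hj')] at hi'
    have h' := List.all_eq_true.mp hok j' (List.mem_range.mpr hj')
    simp only [okTable, List.all_eq_true, Bool.and_eq_true, Nat.blt_eq] at h'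
    refine (h' _ ?_).1.1
    rw [List.getD_eq_getElem _ _ hi']
    exact List.getElem_mem _
  rcases hy with ⟨m, hm, rfl⟩ | ⟨d, hd, rfl⟩
  · simp only [okModel, List.all_eq_true, Bool.and_eq_true, Nat.blt_eq, Nat.beq_eq] at hmod
    obtain ⟨im, him, rfl⟩ : ∃ im ∈ ([(1, 1), (2, 3), (3, 21), (4, 168), (5, 1344)] : List (ℕ × ℕ)),
        im.2 = m := by
      simpa [eq_comm] using hm
    obtain ⟨h1, h2⟩ := hmod im him
    have hm' : im.2 < 21504 := by
      fin_cases him <;> norm_num
    refine move ((j : ℕ), mulN 0 (rep T[j][i]) im.2) ?_ _ _ h1 h2 (hltr _ _ h1)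
    rw [ptV, ptV, S.mul _ hrep _ hm', mul_assoc]
    exact cg_refl K _
  · obtain ⟨l, hl, rfl⟩ := List.getElem_of_mem hd
    simp only [okLetters, List.all_eq_true, List.mem_range] at hlet
    have h := hlet l hl
    rw [List.getD_eq_getElem _ _ hl] at h
    split at h
    · simp at h
    · rename_i Q hs
      simp only [Bool.and_eq_true, Nat.blt_eq, Nat.beq_eq] at h
      exact move Q (step_sound S K W hf hs).2 _ _ h.1 h.2 (hltr _ _ h.1)

end Sound

end CfsgLib.Spor.HeTri.MTF.Card
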