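import Mathlib.Init

/-!
Data of the derivation of the relations of `M₂₄`: values of the action of the exchanging element
and the paths of some elements under the three relators.
-/

namespace CfsgLib.Spor.HeTri.MTF

/-- a letter of a relator -/
inductive Letter
  | g
  | n
  | one
  | c (m : Nat)

/-- values of the action with words -/
def deGTab : List (Nat × Nat × List Nat) :=
  [(0, 0, []), (4, 411, [1, 2, 3, 4, 2]), (22, 13166, [4, 2, 4, 3, 4, 2, 3, 2]), (92, 747, [1, 3,
  2, 4, 3, 2, 3]), (97, 336, [1, 4, 4, 2, 3, 2, 3, 4]), (336, 97, [2, 4, 4, 3, 4, 2, 3]), (411, 4,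
  [1, 3, 2, 4, 2, 3]), (433, 433, [0, 1, 2, 3, 2, 4, 3, 4, 4]), (676, 428, [1, 3, 2, 3, 4, 3, 2,
  3]), (1344, 10752, [1]), (1406, 1406, [0, 3, 4, 2, 4, 4, 3]), (1441, 11088, [4, 4, 2, 3, 2, 3,
  4]), (1680, 10849, [1, 2, 4, 4, 3, 4, 2, 3]), (1777, 11185, [0, 2, 3, 2, 4, 3, 4, 4]), (2414,
  1366, [0, 4, 3, 2, 3, 4, 4]), (3390, 13926, [2, 4, 2, 3, 2, 3, 4, 4]), (8064, 9204, [0, 2, 4, 2,
  4]), (9204, 8064, [2, 4, 3, 2, 4, 3]), (9408, 19956, [0, 1, 2, 4, 2, 4]), (9470, 10438, [1, 3,
  2, 4, 3, 4, 2, 4, 2]), (9540, 18948, [2, 3, 4, 3, 2, 3, 4, 3]), (10752, 1344, [0]), (10849,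
  1680, [0, 1, 4, 4, 2, 3, 2, 3, 4]), (11088, 1441, [3, 4, 2, 3, 2, 4, 4]), (11185, 1777, [1, 2,
  3, 2, 4, 3, 4, 4]), (11760, 1476, [2, 3, 2, 4, 4, 3, 4]), (12096, 12096, [0, 1]), (12158, 62,
  [3, 4, 2, 4, 4, 3]), (12193, 12432, [0, 4, 4, 2, 3, 2, 3, 4]), (12432, 12193, [1, 3, 4, 2, 3, 2,
  4, 4]), (12529, 12529, [2, 3, 2, 4, 3, 4, 4]), (12548, 60, [3, 4, 4, 2, 4, 3]), (13166, 22, [4,
  3, 2, 3, 4, 4]), (13220, 26, [1, 4, 4, 3, 2, 3, 4, 3]), (15467, 2787, [1, 2, 3, 4, 2, 4, 4, 3]),
  (15853, 13545, [0, 3, 2, 4, 4, 3, 4]), (16128, 7153, [0, 1, 4, 2, 4, 2]), (17552, 7825, [1, 3,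
  4, 2, 4, 3, 2]), (19628, 8134, [1, 3, 4, 4, 2, 4, 3, 2])]

/-- the relator -/
def deGnWord : List Letter :=
  [.g, .n, .g, .n]

/-- paths -/
def deGnPath : List ((Nat × Option Nat) × List (Letter × (Nat × Option Nat))) :=
  [((10752, none), [(.n, (336, none)), (.g, (97, none)), (.n, (1344, none)), (.g, (10752,
  none))]), ((26, none), [(.n, (17552, none)), (.g, (7825, none)), (.n, (13220, none)), (.g, (26,
  none))]), ((60, none), [(.n, (16128, none)), (.g, (7153, none)), (.n, (12548, none)), (.g, (60,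
  none))])]

/-- the centraliser in the model of the paths starting in it -/
def deGnCand : List Nat :=
  [0, 97, 336, 433, 1344, 1441, 1680, 1777, 10752, 10849, 11088, 11185, 12096, 12193, 12432,
  12529]

/-- the relator -/
def deLineWord : List Letter :=
  [.g, .c 168, .g, .c 168, .g, .c 168]

/-- paths -/
def deLinePath : List ((Nat × Option Nat) × List (Letter × (Nat × Option Nat))) :=
  [((10752, none), [(.c 168, (10752, none)), (.g, (1344, none)), (.c 168, (12096, none)), (.g,
  (12096, none)), (.c 168, (1344, none)), (.g, (10752, none))]), ((4, none), [(.c 168, (676,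
  none)), (.g, (428, none)), (.c 168, (92, none)), (.g, (747, none)), (.c 168, (411, none)), (.g,
  (4, none))]), ((0, some 22), [(.c 168, (0, some 22)), (.g, (0, some 13166)), (.c 168, (0, some
  1406)), (.g, (0, some 1406)), (.c 168, (0, some 13166)), (.g, (0, some 22))])]

/-- the centraliser in the model of the paths starting in it -/
def deLineCand : List Nat :=
  [0, 4, 11, 504, 508, 515, 1344, 1348, 1355, 1848, 1852, 1859, 10752, 10756, 10763, 11256, 11260,
  11267, 12096, 12100, 12107, 12600, 12604, 12611]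

/-- the relator -/
def deSixWord : List Letter :=
  [.g, .c 7, .g, .c 7, .g, .c 7, .g, .c 7, .c 6724, .n, .c 16811]

/-- paths -/
def deSixPath : List ((Nat × Option Nat) × List (Letter × (Nat × Option Nat))) :=
  [((10752, none), [(.c 16811, (10752, none)), (.n, (336, none)), (.c 6724, (11760, none)), (.c 7,
  (11760, none)), (.g, (1476, none)), (.c 7, (9470, none)), (.g, (10438, none)), (.c 7, (9204,
  none)), (.g, (8064, none)), (.c 7, (1344, none)), (.g, (10752, none))]), ((22, none), [(.c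
  16811, (452, none)), (.n, (6720, none)), (.c 6724, (8064, none)), (.c 7, (1344, none)), (.g,
  (10752, none)), (.c 7, (10752, none)), (.g, (1344, none)), (.c 7, (9408, none)), (.g, (19956,
  none)), (.c 7, (13166, none)), (.g, (22, none))]), ((4, some 3371), [(.c 16811, (0, some 3420)),
  (.n, (2688, some 16800)), (.c 6724, (4, some 19499)), (.c 7, (4, some 19628)), (.g, (411, some
  8134)), (.c 7, (4, some 3390)), (.g, (411, some 13926)), (.c 7, (4, some 15853)), (.g, (411,
  some 13545)), (.c 7, (4, some 15467)), (.g, (411, some 2787)), (.one, (4, some 3371))]), ((62,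
  none), [(.c 16811, (396, none)), (.n, (5376, none)), (.c 6724, (9408, none)), (.c 7, (8064,
  none)), (.g, (9204, none)), (.c 7, (2414, none)), (.g, (1366, none)), (.c 7, (9540, none)), (.g,
  (18948, none)), (.c 7, (12158, none)), (.g, (62, none))])]

/-- the centraliser in the model of the paths starting in it -/
def deSixCand : List Nat :=
  [0, 22, 62, 132, 1008, 1030, 1070, 1140, 1344, 1366, 1406, 1476, 2352, 2374, 2414, 2484, 8064,
  8086, 8126, 8196, 9072, 9094, 9134, 9204, 9408, 9430, 9470, 9540, 10416, 10438, 10478, 10548,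
  10752, 10774, 10814, 10884, 11760, 11782, 11822, 11892, 12096, 12118, 12158, 12228, 13104,
  13126, 13166, 13236, 18816, 18838, 18878, 18948, 19824, 19846, 19886, 19956, 20160, 20182,
  20222, 20292, 21168, 21190, 21230, 21300]

end CfsgLib.Spor.HeTri.MTF
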