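import Cfsg.Agent.Lib.Spor.HeTri.M24Auto
import Cfsg.Agent.Lib.Spor.HeTri.M24DeriveData
import Cfsg.Agent.Lib.Spor.HeTri.Mat

/-!
# The relations of `M₂₄` in a group with the fusion pattern of `M₂₄`

The element `n` is a matrix of the vector stabiliser. The three relators containing `g` centralise
some elements of the model and their products with `n`, which determines them.
-/

set_option autoImplicit false
set_option maxRecDepth 100000
set_option maxHeartbeats 1000000
set_option Elab.async false

namespace CfsgLib.Spor.HeTri.MTF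

open CfsgLib.Spor.HeRecog Matrix

universe u

/-- the matrix of `n` -/
def nMat : M5 := decode (17 + 32 * 8 + 1024 * 4 + 32768 * 2 + 1048576 * 16)

/-- the matrix of a term -/
def matT : Nat × Option Nat → M5
  | (p, none) => mat p
  | (p, some q) => mat p * nMat * mat q

/-- the components of a term lie in the centraliser of `1344` -/
def inT : Nat × Option Nat → Bool
  | (p, none) => Nat.blt p 21504
  | (p, some q) => Nat.blt p 21504 && Nat.blt q 21504

/-- the value of the action by the table -/
def gImg (p : Nat) : Option Nat :=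
  (deGTab.find? fun e => Nat.beq e.1 p).map fun e => e.2.1

/-- one step of a path -/
def stepOK : Letter → Nat × Option Nat → Nat × Option Nat → Bool
  | .g, (p, none), (p', none) => gImg p == some p'
  | .g, (p, some q), (p', some q') => gImg p == some p' && gImg q == some q'
  | .g, _, _ => false
  | .n, s, t => inT s && inT t && decide (nMat * matT s = matT t * nMat)
  | .one, s, t => inT s && inT t && decide (matT s = matT t)
  | .c m, s, t =>
      inT s && inT t && Nat.blt m 21504 && decide (mat m * matT s = matT t * mat m)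

/-- a path -/
def pathOK : Nat × Option Nat → List (Letter × (Nat × Option Nat)) → Bool
  | _, [] => true
  | s, (x, t) :: r => stepOK x s t && pathOK t r

/-- the letters of a path in reading order, without the empty one -/
def lettersOf (p : List (Letter × (Nat × Option Nat))) : List Letter :=
  (p.map Prod.fst).reverse

/-- the word is the relator up to the empty letter -/
def sameWord : List Letter → List Letter → Bool
  | .one :: a, b => sameWord a b
  | .g :: a, .g :: b => sameWord a b
  | .n :: a, .n :: b => sameWord a b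
  | .c m :: a, .c k :: b => Nat.beq m k && sameWord a b
  | [], [] => true
  | _, _ => false

/-- the paths return and read the relator -/
def pathsOK (w : List Letter)
    (ps : List ((Nat × Option Nat) × List (Letter × (Nat × Option Nat)))) : Bool :=
  ps.all fun e => pathOK e.1 e.2 && sameWord (lettersOf e.2) w &&
    decide ((e.2.map Prod.snd).getLastD e.1 = e.1)

theorem gTab_spec : ∀ e ∈ deGTab, e.1 < 21504 ∧ wordN auSrc e.2.2 = e.1 ∧
    wordN auTgt e.2.2 = e.2.1 := by decide +kernel

theorem gn_paths : pathsOK deGnWord deGnPath = true := by decide +kernel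

theorem line_paths : pathsOK deLineWord deLinePath = true := by decide +kernel

theorem six_paths : pathsOK deSixWord deSixPath = true := by decide +kernel

/-- commuting with the plain starting points -/
def commPlain (ps : List ((Nat × Option Nat) × List (Letter × (Nat × Option Nat)))) (m : Nat) :
    Bool :=
  ps.all fun e => match e.1 with
    | (u, none) => Nat.beq (mulN 0 m u) (mulN 0 u m)
    | _ => true

theorem gn_cand : allEls (fun m => !(commPlain deGnPath m) || deGnCand.any (Nat.beq m)) = true := by
  decide +kernel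

theorem line_cand :
    allEls (fun m => !(commPlain deLinePath m) || deLineCand.any (Nat.beq m)) = true := by
  decide +kernel

theorem six_cand : allEls (fun m => !(commPlain deSixPath m) || deSixCand.any (Nat.beq m)) = true := by
  decide +kernel

theorem line_fin : ∀ m ∈ deLineCand,
    (∀ e ∈ deLinePath, mat m * matT e.1 = matT e.1 * mat m) → m = 0 := by decide +kernel

theorem six_fin : ∀ m ∈ deSixCand,
    (∀ e ∈ deSixPath, mat m * matT e.1 = matT e.1 * mat m) → m = 0 := by decide +kernel

theorem gn_fin : ∀ m ∈ deGnCand, gImg m = some (invN 0 m) →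
    nMat * mat m * nMat = mat (invN 0 m) → m = 0 ∨ m = 12529 := by decide +kernel

theorem gn_cand_tab : ∀ m ∈ deGnCand, (gImg m).isSome = true := by decide +kernel

theorem n_spec : nMat.det = 1 ∧ nMat.mulVec e0 = e0 ∧ nMat * nMat = 1 ∧
    (∀ p ∈ nPairs, p.1 < 21504 ∧ p.2 < 21504 ∧ nMat * mat p.1 = mat p.2 * nMat) ∧
    nMat * mat 1 * nMat * mat 10775 * nMat * mat 2 = 1 ∧
    nMat * mat 2688 * nMat * mat 3360 * nMat * mat 2688 = 1 ∧
    gImg 433 = some 433 ∧ nMat * mat 12096 = mat 433 * nMat ∧
    mat 12529 * nMat * mat 433 * mat 12096 * nMat = 1 ∧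
    (auSrc.all fun a => Nat.beq (mulN 0 12096 a) (mulN 0 a 12096)) = true ∧
    mulN 0 12096 12096 = 0 ∧ wordN auSrc (auSq.getD 0 []) = 1344 ∧ mat 0 = 1 := by
  decide +kernel

theorem head_z : (10752, none) ∈ deGnPath.map Prod.fst ∧ (10752, none) ∈ deLinePath.map Prod.fst ∧
    (10752, none) ∈ deSixPath.map Prod.fst := by decide +kernel

section

variable {G : Type u} [Group G] {z : G} {D : Cen 0 z} (N : NormalA D)
include N

/-- the image of a matrix under the embedding -/
def Img (M : M5) (x : G) : Prop := ∃ a : ↥Aff, ((a : SL5) : M5) = M ∧ N.ψ a = x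

theorem Img.mul {M M' : M5} {x y : G} (h : Img N M x) (h' : Img N M' y) :
    Img N (M * M') (x * y) := by
  obtain ⟨a, ea, rfl⟩ := h
  obtain ⟨b, eb, rfl⟩ := h'
  exact ⟨a * b, by rw [← ea, ← eb]; rfl, map_mul _ _ _⟩

theorem Img.unique {M : M5} {x y : G} (h : Img N M x) (h' : Img N M y) : x = y := by
  obtain ⟨a, ea, rfl⟩ := h
  obtain ⟨b, eb, rfl⟩ := h'
  rw [show a = b from Subtype.ext (Subtype.ext (ea.trans eb.symm))]

theorem img_val {m : ℕ} (hm : m < 21504) : Img N (mat m) (D.val m) := by
  obtain ⟨hd, he, -⟩ := mat_spec.1 m hm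
  obtain ⟨a, ha⟩ : ∃ a : SL5, (a : M5) = mat m := ⟨⟨mat m, hd⟩, rfl⟩
  have hA : a ∈ Aff := show (a : M5) *ᵥ e0 = e0 by rw [ha]; exact he
  exact ⟨⟨a, hA⟩, ha, N.val_eq ⟨a, hA⟩ m hm ha⟩

theorem img_one {x : G} (h : Img N 1 x) : x = 1 := by
  refine h.unique N ⟨1, rfl, map_one _⟩

theorem img_eq {M : M5} {x : G} (h : Img N M x) (e : M = 1) : x = 1 := img_one N (e ▸ h)

theorem exists_n : ∃ n : G, Img N nMat n := by
  obtain ⟨a, ha⟩ : ∃ a : SL5, (a : M5) = nMat := ⟨⟨nMat, n_spec.1⟩, rfl⟩
  have hA : a ∈ Aff := show (a : M5) *ᵥ e0 = e0 by rw [ha]; exact n_spec.2.1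
  exact ⟨N.ψ ⟨a, hA⟩, ⟨a, hA⟩, ha, rfl⟩

end

section

variable {G : Type u} [Group G] {z : G} {D : Cen 0 z} (N : NormalA D) {g n : G}

/-- the value of a term -/
def den (D : Cen 0 z) (n : G) : Nat × Option Nat → G
  | (p, none) => D.val p
  | (p, some q) => D.val p * n * D.val q

/-- the value of a letter -/
def lval (D : Cen 0 z) (g n : G) : Letter → G
  | .g => g
  | .n => n
  | .one => 1
  | .c m => D.val m

/-- the value of a word -/
def wval (D : Cen 0 z) (g n : G) (w : List Letter) : G := (w.map (lval D g n)).prod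

theorem gImg_spec (hc : Carries D g auSrc auTgt) {p p' : ℕ} (h : gImg p = some p') :
    g * D.val p = D.val p' * g := by
  obtain ⟨-, hsrc, htgt, -⟩ := data_spec
  simp only [gImg, Option.map_eq_some_iff] at h
  obtain ⟨e, he, rfl⟩ := h
  have hp : e.1 = p := beq_true_iff.1 (List.find?_some (p := fun e : Nat × Nat × List Nat => Nat.beq e.1 p) he)
  obtain ⟨-, h1, h2⟩ := gTab_spec e (List.mem_of_find?_eq_some he)
  rw [← hp, ← h1, ← h2, ← carries_word D hc hsrc htgt]
  group

theorem img_den (hn : Img N nMat n) {t : Nat × Option Nat} (h : inT t = true) :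
    Img N (matT t) (den D n t) := by
  obtain ⟨p, q⟩ := t
  cases q with
  | none => exact img_val N (by simpa [inT] using h)
  | some q =>
    simp only [inT, Bool.and_eq_true, Nat.blt_eq] at h
    exact ((img_val N h.1).mul N hn).mul N (img_val N h.2)

/-- One step. The relation of `g` and `n` is only needed for terms with `n`. -/
theorem step_spec (hc : Carries D g auSrc auTgt) (hn : Img N nMat n) {x : Letter}
    {s t : Nat × Option Nat} (hgn : s.2 = none ∨ g * n = n * g) (h : stepOK x s t = true) :
    lval D g n x * den D n s = den D n t * lval D g n x := by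
  cases x with
  | g =>
    obtain ⟨p, _ | q⟩ := s <;> obtain ⟨p', _ | q'⟩ := t
    · exact gImg_spec hc (by simpa [stepOK] using h)
    · simp [stepOK] at h
    · simp [stepOK] at h
    · simp only [stepOK, Bool.and_eq_true, beq_iff_eq] at h
      have hgn' : g * n = n * g := hgn.resolve_left (by simp)
      show g * (D.val p * n * D.val q) = D.val p' * n * D.val q' * g
      rw [← mul_assoc, ← mul_assoc, gImg_spec hc h.1, mul_assoc (D.val p'), hgn', ← mul_assoc,
        mul_assoc (D.val p' * n), gImg_spec hc h.2, ← mul_assoc]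
  | n =>
    simp only [stepOK, Bool.and_eq_true, decide_eq_true_eq] at h
    have h1 := hn.mul N (img_den N hn h.1.1)
    rw [h.2] at h1
    exact h1.unique N ((img_den N hn h.1.2).mul N hn)
  | one =>
    simp only [stepOK, Bool.and_eq_true, decide_eq_true_eq] at h
    have h1 := img_den N hn h.1.1
    rw [h.2] at h1
    simp only [lval, one_mul, mul_one]
    exact h1.unique N (img_den N hn h.1.2)
  | c m =>
    simp only [stepOK, Bool.and_eq_true, decide_eq_true_eq, Nat.blt_eq] at h
    obtain ⟨⟨⟨hs, ht⟩, hm⟩, e⟩ := h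
    have h1 := (img_val N hm).mul N (img_den N hn hs)
    rw [e] at h1
    exact h1.unique N ((img_den N hn ht).mul N (img_val N hm))

/-- A path. -/
theorem path_spec (hc : Carries D g auSrc auTgt) (hn : Img N nMat n) :
    ∀ (r : List (Letter × (Nat × Option Nat))) (s : Nat × Option Nat),
      (g * n = n * g ∨ (s.2 = none ∧ ∀ e ∈ r, e.2.2 = none)) → pathOK s r = true →
      wval D g n (lettersOf r) * den D n s =
        den D n ((r.map Prod.snd).getLastD s) * wval D g n (lettersOf r)
  | [], s, _, _ => by simp [wval, lettersOf]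
  | (x, t) :: r, s, hgn, h => by
    simp only [pathOK, Bool.and_eq_true] at h
    have hs : lval D g n x * den D n s = den D n t * lval D g n x :=
      step_spec N hc hn (hgn.symm.imp And.left id) h.1
    have ht := path_spec hc hn r t (hgn.imp id fun q =>
      ⟨q.2 _ List.mem_cons_self, fun e he => q.2 e (List.mem_cons_of_mem _ he)⟩) h.2
    simp only [List.map_cons, List.getLastD_cons]
    rw [show wval D g n (lettersOf ((x, t) :: r)) = wval D g n (lettersOf r) * lval D g n x by
      simp [wval, lettersOf], mul_assoc, hs, ← mul_assoc, ht, mul_assoc]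

theorem wval_same : ∀ {a b : List Letter}, sameWord a b = true → wval D g n a = wval D g n b
  | .one :: a, b, h => by
    rw [show wval D g n (.one :: a) = wval D g n a by simp [wval, lval]]
    exact wval_same (by simpa [sameWord] using h)
  | .g :: a, .g :: b, h => by
    simp only [wval, List.map_cons, List.prod_cons]
    exact congrArg _ (wval_same (by simpa [sameWord] using h))
  | .n :: a, .n :: b, h => by
    simp only [wval, List.map_cons, List.prod_cons]
    exact congrArg _ (wval_same (by simpa [sameWord] using h))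
  | .c m :: a, .c k :: b, h => by
    simp only [sameWord, Bool.and_eq_true, beq_true_iff] at h
    simp only [wval, List.map_cons, List.prod_cons, h.1]
    exact congrArg _ (wval_same h.2)
  | [], [], _ => rfl
  | .g :: _, [], h | .g :: _, .n :: _, h | .g :: _, .one :: _, h | .g :: _, .c _ :: _, h
  | .n :: _, [], h | .n :: _, .g :: _, h | .n :: _, .one :: _, h | .n :: _, .c _ :: _, h
  | .c _ :: _, [], h | .c _ :: _, .g :: _, h | .c _ :: _, .n :: _, h | .c _ :: _, .one :: _, h
  | [], _ :: _, h => by simp [sameWord] at h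

/-- The relator lies in the model, centralises the starting points of the paths. -/
theorem relator_mem (hc : Carries D g auSrc auTgt) (hn : Img N nMat n) {w : List Letter}
    {ps : List ((Nat × Option Nat) × List (Letter × (Nat × Option Nat)))}
    (hps : pathsOK w ps = true) (hz : (10752, none) ∈ ps.map Prod.fst)
    (hgn : g * n = n * g ∨ ∀ e ∈ ps, e.1.2 = none ∧ ∀ f ∈ e.2, f.2.2 = none) :
    ∃ m < 21504, D.val m = wval D g n w ∧
      ∀ e ∈ ps, D.val m * den D n e.1 = den D n e.1 * D.val m := by
  have key : ∀ e ∈ ps, wval D g n w * den D n e.1 = den D n e.1 * wval D g n w := by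
    intro e he
    have h := List.all_eq_true.1 hps e he
    simp only [Bool.and_eq_true, decide_eq_true_eq] at h
    have := path_spec N hc hn e.2 e.1 (hgn.imp id fun q => q e he) h.1.1
    rw [h.2, wval_same h.1.2] at this
    exact this
  obtain ⟨e, he, e1⟩ := List.mem_map.1 hz
  have hzc := key e he
  rw [e1] at hzc
  simp only [den] at hzc
  rw [show D.val 10752 = z from D.val_z] at hzc
  obtain ⟨m, hm, hmv⟩ := D.val_surj _ hzc
  exact ⟨m, hm, hmv, fun e he => by rw [hmv]; exact key e he⟩

theorem cand_mem {ps : List ((Nat × Option Nat) × List (Letter × (Nat × Option Nat)))}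
    {L : List Nat} (hL : allEls (fun m => !(commPlain ps m) || L.any (Nat.beq m)) = true)
    (hps : ∀ e ∈ ps, inT e.1 = true) {m : ℕ} (hm : m < 21504)
    (h : ∀ e ∈ ps, D.val m * den D n e.1 = den D n e.1 * D.val m) : m ∈ L := by
  have h' := allEls_spec hL m hm
  have hc : commPlain ps m = true := by
    refine List.all_eq_true.2 fun e he => ?_
    obtain ⟨⟨u, _ | q⟩, r⟩ := e
    · exact beq_true_iff.2 (D.mul_val_eq hm (by simpa [inT] using hps _ he) (h _ he))
    · rfl
  rw [hc] at h'
  simpa [List.any_eq_true, beq_true_iff] using h'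

theorem mats_comm (hn : Img N nMat n) {m : ℕ} (hm : m < 21504) {t : Nat × Option Nat}
    (ht : inT t = true) (h : D.val m * den D n t = den D n t * D.val m) :
    mat m * matT t = matT t * mat m := by
  obtain ⟨a, ea, ax⟩ := (img_val N hm).mul N (img_den N hn ht)
  obtain ⟨b, eb, bx⟩ := (img_den N hn ht).mul N (img_val N hm)
  rw [← ea, ← eb, N.inj (ax.trans (h.trans bx.symm))]

end

theorem starts_ok : (∀ e ∈ deGnPath, inT e.1 = true ∧ e.1.2 = none ∧
      ∀ f ∈ e.2, f.2.2 = none) ∧
    (∀ e ∈ deLinePath, inT e.1 = true) ∧ (∀ e ∈ deSixPath, inT e.1 = true) := by decide +kernel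

variable {G : Type u} [Group G] {z : G}

/-- The relations. -/
theorem exists_rels (D : Cen 0 z) (hP : Pattern D m24T) (N : NormalA D) :
    ∃ g n : G, Rels D.val g n := by
  obtain ⟨-, -, hnn, hnp, hncn, hncn', h433, h12096, hflip, hcent, hsq, -, hone⟩ := n_spec
  obtain ⟨-, hsrc, htgt, -⟩ := data_spec
  obtain ⟨n, hn⟩ := exists_n N
  have nn : n * n = 1 := img_eq N (hn.mul N hn) hnn
  obtain ⟨g₀, hgg₀, -, -, hc₀⟩ := exists_g D hP
  have hv : (12096 : ℕ) < 21504 := by norm_num
  -- the commutation of `g` and `n`
  obtain ⟨g, hgg, hc, hgn⟩ : ∃ g : G, g * g = 1 ∧ Carries D g auSrc auTgt ∧ g * n = n * g := by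
    obtain ⟨m, hm, hmv, hcomm⟩ := relator_mem N hc₀ hn gn_paths head_z.1
      (Or.inr fun e he => (starts_ok.1 e he).2)
    have hmL := cand_mem gn_cand (fun e he => (starts_ok.1 e he).1) hm hcomm
    simp only [deGnWord, wval, List.map_cons, List.map_nil, List.prod_cons, List.prod_nil,
      lval, mul_one] at hmv
    have hinv : D.val (invN 0 m) = n * (g₀ * (n * g₀)) := by
      rw [D.val_inv hm, hmv, _root_.mul_inv_rev, _root_.mul_inv_rev, _root_.mul_inv_rev,
        inv_eq_of_mul_eq_one_right hgg₀, inv_eq_of_mul_eq_one_right nn]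
      simp only [mul_assoc]
    obtain ⟨a, ha⟩ := Option.isSome_iff_exists.1 (gn_cand_tab m hmL)
    have ea : a = invN 0 m := by
      refine D.val_inj _ _ ?_ (invN_lt 0 m) ?_
      · simp only [gImg, Option.map_eq_some_iff] at ha
        obtain ⟨e, he, rfl⟩ := ha
        rw [← (gTab_spec e (List.mem_of_find?_eq_some he)).2.2]
        exact (wordN_spec D auTgt htgt _).1
      · have := gImg_spec hc₀ ha
        rw [hmv, ← mul_assoc g₀ g₀, hgg₀, one_mul] at this
        rw [hinv, show n * (g₀ * (n * g₀)) = n * (g₀ * n) * g₀ by simp only [mul_assoc], this,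
          mul_assoc, hgg₀, mul_one]
    have em : nMat * mat m * nMat = mat (invN 0 m) := by
      obtain ⟨a', ea', ax⟩ := (hn.mul N (img_val N hm)).mul N hn
      obtain ⟨b', eb', bx⟩ := img_val N (invN_lt 0 m)
      rw [← ea', ← eb', N.inj (ax.trans ?_)]
      rw [bx, hinv, hmv]
      simp only [mul_assoc]
      rw [nn, mul_one]
    rcases gn_fin m hmL (ha.trans (congrArg some ea)) em with rfl | rfl
    · refine ⟨g₀, hgg₀, hc₀, ?_⟩
      rw [D.val_zero] at hmv
      calc g₀ * n = g₀ * n * (g₀ * g₀) * (n * n) := by rw [hgg₀, nn, mul_one, mul_one]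
        _ = g₀ * (n * (g₀ * n)) * (n⁻¹ * g₀ * n) * n := by group
        _ = n⁻¹ * g₀ * n * n := by rw [← hmv, one_mul]
        _ = n * g₀ := by rw [inv_eq_of_mul_eq_one_right nn, mul_assoc _ n n, nn, mul_one]
    · have hcv : ∀ i, D.val 12096 * D.val (auSrc.getD i 0) =
          D.val (auSrc.getD i 0) * D.val 12096 := by
        intro i
        rcases lt_or_ge i auSrc.length with hi | hi
        · rw [List.getD_eq_getElem _ _ hi]
          exact D.val_commute hv (hsrc _ (List.getElem_mem hi)).1
            (beq_true_iff.1 (List.all_eq_true.1 hcent _ (List.getElem_mem hi)))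
        · rw [List.getD_eq_default _ _ hi, D.val_zero, mul_one, one_mul]
      have hvv : D.val 12096 * D.val 12096 = 1 := by
        rw [← D.val_mul _ _ hv hv, hsq, D.val_zero]
      have hgv : g₀ * D.val 12096 = D.val 12096 * g₀ := by
        have h1 : g₀ * D.val 1344 = z * g₀ := by
          have := hc₀ 1
          simp only [auSrc, auTgt] at this
          rw [← mul_inv_eq_iff_eq_mul]
          simpa [show D.val 10752 = z from D.val_z] using this
        have h2 : g₀ * z = D.val 1344 * g₀ := by
          rw [← mul_inv_eq_iff_eq_mul]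
          simpa [auSrc, auTgt, show D.val 10752 = z from D.val_z] using hc₀ 0
        have e : D.val 12096 = z * D.val 1344 := by
          have h := D.val_mul zN 1344 Cen.zN_lt (by norm_num)
          rw [show mulN 0 zN 1344 = 12096 by decide +kernel, D.val_z] at h
          exact h
        rw [e, ← mul_assoc, h2, mul_assoc, h1, ← mul_assoc, D.val_comm 1344 (by norm_num)]
      refine ⟨g₀ * D.val 12096, ?_, fun i => ?_, ?_⟩
      · calc g₀ * D.val 12096 * (g₀ * D.val 12096) = (g₀ * D.val 12096) * g₀ * D.val 12096 := by
              simp only [mul_assoc]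
          _ = D.val 12096 * g₀ * g₀ * D.val 12096 := by rw [hgv]
          _ = 1 := by rw [mul_assoc (D.val 12096), hgg₀, mul_one, hvv]
      · rw [show g₀ * D.val 12096 * D.val (auSrc.getD i 0) * (g₀ * D.val 12096)⁻¹ =
            g₀ * (D.val 12096 * D.val (auSrc.getD i 0) * (D.val 12096)⁻¹) * g₀⁻¹ by group,
          hcv i, mul_inv_cancel_right, hc₀ i]
      · have hk : n * D.val 12096 = D.val 433 * n := by
          have h1 := hn.mul N (img_val N hv)
          rw [h12096] at h1
          exact h1.unique N ((img_val N (by norm_num)).mul N hn)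
        have hgk := gImg_spec hc₀ h433
        have h1 : D.val 12529 * n * D.val 433 * D.val 12096 * n = 1 :=
          img_eq N (((((img_val N (by norm_num)).mul N hn).mul N (img_val N (by norm_num))).mul N
            (img_val N hv)).mul N hn) hflip
        have h2 : (g₀ * D.val 12096 * n) * (g₀ * D.val 12096 * n) = 1 := by
          have hvn : D.val 12096 * n = n * D.val 433 := by
            calc D.val 12096 * n = n * n * (D.val 12096 * n) := by rw [nn, one_mul]
              _ = n * (n * D.val 12096) * n := by simp only [mul_assoc]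
              _ = n * D.val 433 := by rw [hk, ← mul_assoc, mul_assoc _ n n, nn, mul_one]
          calc g₀ * D.val 12096 * n * (g₀ * D.val 12096 * n)
              = g₀ * (D.val 12096 * n) * (g₀ * D.val 12096 * n) := by simp only [mul_assoc]
            _ = g₀ * n * (D.val 433 * g₀) * D.val 12096 * n := by
                rw [hvn]; simp only [mul_assoc]
            _ = (g₀ * (n * (g₀ * n))) * n⁻¹ * D.val 433 * D.val 12096 * n := by
                rw [← hgk]; group
            _ = 1 := by rw [← hmv, inv_eq_of_mul_eq_one_right nn, h1]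
        calc g₀ * D.val 12096 * n
            = g₀ * D.val 12096 * n * (g₀ * D.val 12096 * n) * (g₀ * D.val 12096 * n)⁻¹ := by
              rw [mul_inv_cancel_right]
          _ = (g₀ * D.val 12096 * n)⁻¹ := by rw [h2, one_mul]
          _ = n * (g₀ * D.val 12096) := by
              rw [_root_.mul_inv_rev, inv_eq_of_mul_eq_one_right nn, _root_.mul_inv_rev,
                inv_eq_of_mul_eq_one_right hvv, inv_eq_of_mul_eq_one_right hgg₀, hgv]
  -- the two other relators
  obtain ⟨m, hm, hmv, hcomm⟩ := relator_mem N hc hn line_paths head_z.2.1 (Or.inl hgn)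
  obtain rfl : m = 0 := line_fin m (cand_mem line_cand starts_ok.2.1 hm hcomm)
    fun e he => mats_comm N hn hm (starts_ok.2.1 e he) (hcomm e he)
  simp only [deLineWord, wval, List.map_cons, List.map_nil, List.prod_cons, List.prod_nil,
    lval, mul_one, D.val_zero, ← mul_assoc] at hmv
  obtain ⟨m', hm', hmv', hcomm'⟩ := relator_mem N hc hn six_paths head_z.2.2 (Or.inl hgn)
  obtain rfl : m' = 0 := six_fin m' (cand_mem six_cand starts_ok.2.2 hm' hcomm')
    fun e he => mats_comm N hn hm' (starts_ok.2.2 e he) (hcomm' e he)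
  simp only [deSixWord, wval, List.map_cons, List.map_nil, List.prod_cons, List.prod_nil,
    lval, mul_one, D.val_zero, ← mul_assoc] at hmv'
  refine ⟨g, n, ⟨fun a ha b hb => D.val_mul a b ha hb, hgg, nn, hgn, g_pairs D hc, ?_, hmv.symm,
    ?_, ?_, ?_⟩⟩
  · intro p hp
    obtain ⟨h1, h2, e⟩ := hnp p hp
    have h := hn.mul N (img_val N h1)
    rw [e] at h
    exact h.unique N ((img_val N h2).mul N hn)
  · simp only [← mul_assoc]
    exact hmv'.symm
  · exact img_eq N (((((hn.mul N (img_val N (by norm_num))).mul N hn).mul N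
      (img_val N (by norm_num))).mul N hn).mul N (img_val N (by norm_num))) hncn
  · exact img_eq N (((((hn.mul N (img_val N (by norm_num))).mul N hn).mul N
      (img_val N (by norm_num))).mul N hn).mul N (img_val N (by norm_num))) hncn'

end CfsgLib.Spor.HeTri.MTF
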