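import Cfsg.Agent.Lib.Spor.HeTri.Split

/-!
# The element exchanging `z` and `val 1344` in the pattern of `M₂₄`
-/

set_option autoImplicit false
set_option maxRecDepth 100000

namespace CfsgLib.Spor.HeTri.MTF

open CfsgLib.Spor.HeRecog

universe u

theorem partner_check : ∀ rx ∈ splitTab, rx.1 = 1344 → ∀ ry ∈ splitTab, ry.1 ∈ m24T →
    ry.1 = 1344 ∨ differ m24T rx ry = true := by decide +kernel

theorem reps5_reps : ∀ a ∈ reps5, a ∈ reps := by decide +kernel

theorem row_1344 : ∃ rx ∈ splitTab, rx.1 = 1344 := by decide +kernel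

variable {G : Type u} [Group G] {z : G} (D : Cen 0 z)

theorem fusedList_eq (hP : Pattern D m24T) : fusedList D = m24T := by
  classical
  rw [fusedList, show m24T = reps5.filter (fun a => decide (a ∈ m24T)) by decide +kernel]
  refine List.filter_congr fun a ha => ?_
  have h := hP a (reps5_reps a ha)
  exact decide_eq_decide.2 h

/-- The swap. -/
theorem exists_swap_x (hP : Pattern D m24T) :
    ∃ g : G, g * z * g⁻¹ = D.val 1344 ∧ g * D.val 1344 * g⁻¹ = z := by
  classical
  obtain ⟨rx, hrx, ex⟩ := row_1344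
  have hxT : IsConj (D.val 1344) z := (hP 1344 (by decide)).2 (by decide)
  have hxlt : (1344 : ℕ) < 21504 := by norm_num
  have hfl := fusedList_eq D hP
  obtain ⟨y, hy, hyz, hyT, ⟨g, hg1, hg2⟩, -, h1, h2, -⟩ :=
    D.exists_swap hxlt hxT (by norm_num [zN])
  have ho : orderOf (D.val y) = 2 := by
    obtain ⟨c, hc⟩ := isConj_iff.1 hyT
    have h3 := (MulAut.conj c).orderOf_eq (D.val y)
    rw [MulAut.conj_apply, hc] at h3
    exact h3.symm.trans D.ord
  obtain ⟨m, hm, e', q, hq, hmq⟩ := D.invol_val ho (D.val_comm y hy)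
  obtain rfl := D.val_inj m y hm hy e'
  obtain ⟨n, hn, hc, hq', -⟩ := D.cls_conj hmq
  have hqT : IsConj (D.val q.1) z := (D.cls_isConj hmq).trans hyT
  have hn' : D.val n * z * (D.val n)⁻¹ = z := by
    rw [D.val_comm n hn, mul_inv_cancel_right]
  have hq5 : q.1 ∈ reps5 := by
    rcases class_reps q hq with h | h | h | h
    · exact absurd (clsOf_zN_mem (h ▸ hmq)) hyz
    · exact h
    · exact absurd hqT (D.fusion_u (h ▸ Or.inl rfl))
    · exact absurd hqT (D.fusion_u (h ▸ Or.inr rfl))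
  have hqM : q.1 ∈ m24T := hfl ▸ (mem_fused D).2 ⟨hq5, hqT⟩
  obtain ⟨ry, hry, ery⟩ := List.mem_map.1 (splitTab_reps ▸ hq5)
  rcases partner_check rx hrx ex ry hry (ery ▸ hqM) with hq1 | hd
  · rw [ery] at hq1
    rw [hq1] at hc
    refine ⟨(D.val n)⁻¹ * g, ?_, ?_⟩
    · rw [show (D.val n)⁻¹ * g * z * ((D.val n)⁻¹ * g)⁻¹ =
          (D.val n)⁻¹ * (g * z * g⁻¹) * D.val n by group, hg2, ← hc, D.val_cj hn hxlt]
      group
    · rw [show (D.val n)⁻¹ * g * D.val 1344 * ((D.val n)⁻¹ * g)⁻¹ =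
          (D.val n)⁻¹ * (g * D.val 1344 * g⁻¹) * D.val n by group, hg1, mul_assoc,
        ← D.val_comm n hn, inv_mul_cancel_left]
  · exfalso
    rw [← hfl] at hd
    simp only [differ, Bool.or_eq_true] at hd
    rcases hd with hd | hd
    · simp only [rootDiffer, List.any_eq_true, Bool.and_eq_true, beq_true_iff,
        Bool.not_eq_true', Bool.eq_false_iff] at hd
      obtain ⟨a, ha, ea, b, hb, eb, hne⟩ := hd
      have hsa := List.all_eq_true.1 sigZero_spec a ha
      have hsb := List.all_eq_true.1 sigZero_spec b hb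
      simp only [Bool.and_eq_true, beq_true_iff] at hsa hsb
      rw [ea, ex] at hsa
      rw [eb, ery] at hsb
      have hz' : rootsN 0 (cjN 0 n q.1) zN = rootsN 0 q.1 zN := by
        conv_lhs => rw [← D.cjN_zN hn]
        exact D.rootsN_cj hn hq' Cen.zN_lt
      rw [← hc, D.rootsN_cj hn hq' hq', hsb.2, hsa.1] at h1
      rw [← hc, hz', hsb.1, hsa.2] at h2
      simp only [Ne, Bool.and_eq_true, beq_true_iff] at hne
      exact hne ⟨h1, h2⟩
    · simp only [List.any_eq_true, Bool.not_eq_true', Bool.eq_false_iff] at hd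
      obtain ⟨b1, -, b2, -, b3, -, hne⟩ := hd
      refine hne (beq_true_iff.2 ?_)
      rw [← card_pair_row D hrx, ← card_pair_row D hry, ery, ex,
        card_pair_conj g z (D.val 1344) b1 b2 b3, hg2, hg1,
        card_pair_conj (D.val n) z (D.val q.1) b2 b1 b3, hn', ← D.val_cj hn hq', hc]
      exact card_pair_symm (D.val_comm _ hm) b1 b2 b3

end CfsgLib.Spor.HeTri.MTF
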