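import Cfsg.Agent.Lib.Spor.HeTri.Interface
import Cfsg.Agent.Lib.Spor.HeTri.ModelIso
import Cfsg.Agent.Lib.Involutions.ZStar.Main
import Cfsg.Agent.S0365
import Cfsg.Agent.S1695
import Cfsg.Agent.Lib.Spor.M24Order
import Cfsg.Prelude.Def_Sporadic
import Cfsg.Prelude.Def_Sporadic_a
import Cfsg.Prelude.Def_SporadicB

/-!
# The assembly: the groups with the centraliser of a transvection of SL(5, 2)

The three theorems take the pieces as hypotheses.
-/

set_option autoImplicit false
set_option linter.unusedSectionVars false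
set_option linter.style.haveILetI false

namespace CfsgLib.Spor.HeTri

open CfsgLib.Spor.HeRecog

universe u v

/-- The pieces. -/
structure Pieces : Prop where
  split : StmtSplit.{u}
  normalA : StmtNormalA.{u}
  vec : StmtVec.{u}
  l5 : StmtL5.{u}
  m24 : StmtM24.{u}
  he : StmtHe.{u}

namespace Pieces

variable (P : Pieces.{u}) {G : Type u} [Group G] [Finite G]
include P

/-- The five possibilities. -/
theorem five (z : G) (C : Cen 0 z) :
    Isolated z ∨ Nonempty (G ≃* ↥Aff) ∨ Nonempty (G ≃* SL5) ∨ Nonempty (G ≃* Cfsg.M24) ∨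
      Cfsg.Spor.IsoHe G := by
  rcases P.split z C with h | ⟨D, h | h | h | h⟩
  · exact Or.inl h
  · obtain ⟨N⟩ := P.normalA D vecT (by simp) h
    exact Or.inr (Or.inl (P.vec D h N))
  · obtain ⟨N⟩ := P.normalA D l5T (by simp) h
    exact Or.inr (Or.inr (Or.inl (P.l5 D h N)))
  · obtain ⟨N⟩ := P.normalA D m24T (by simp) h
    exact Or.inr (Or.inr (Or.inr (Or.inl (P.m24 D h N))))
  · exact Or.inr (Or.inr (Or.inr (Or.inr (P.he D h))))

end Pieces

theorem e0_ne_zero : e0 ≠ 0 := fun h => by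
  have := congrFun h 0
  simp [e0] at this

theorem transvection_facts :
    (Matrix.transvection 1 2 1 : M5).det = 1 ∧
    (Matrix.transvection 1 2 1 : M5).mulVec e0 = e0 ∧
    (Matrix.transvection 1 2 1 : M5).mulVec (Pi.single 2 1) = Pi.single 1 1 + Pi.single 2 1 ∧
    (Matrix.transvection 0 1 1 : M5).det = 1 ∧
    (Matrix.transvection 0 1 1 : M5).mulVec e0 = e0 ∧
    (Matrix.transvection 0 1 1 : M5) ≠ 1 ∧
    ∀ w : Fin 5 → ZMod 2, ∃ c : ZMod 2,
      (Matrix.transvection 0 1 1 : M5).mulVec w = w + c • e0 := by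
  decide +kernel

/-- The vector stabiliser is not simple. -/
theorem not_simple_Aff : ¬ IsSimpleGroup ↥Aff := by
  intro hs
  let N : Subgroup ↥Aff :=
    { carrier := {a | ∀ w : Fin 5 → ZMod 2, ∃ c : ZMod 2, ((a : SL5) : M5).mulVec w = w + c • e0}
      one_mem' := fun w => ⟨0, by simp⟩
      mul_mem' := by
        intro a b ha hb w
        obtain ⟨c, hc⟩ := hb w
        obtain ⟨d, hd⟩ := ha w
        refine ⟨c + d, ?_⟩
        have ha0 : ((a : SL5) : M5).mulVec e0 = e0 := a.2
        show ((a : SL5) * (b : SL5) : SL5).1.mulVec w = _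
        rw [Matrix.SpecialLinearGroup.coe_mul, ← Matrix.mulVec_mulVec, hc, Matrix.mulVec_add, hd,
          Matrix.mulVec_smul, ha0, add_smul, add_assoc, add_comm (d • e0)]
      inv_mem' := by
        intro a ha w
        obtain ⟨c, hc⟩ := ha (((a⁻¹ : ↥Aff) : SL5).1.mulVec w)
        refine ⟨-c, ?_⟩
        rw [Matrix.mulVec_mulVec, ← Matrix.SpecialLinearGroup.coe_mul, ← Subgroup.coe_mul,
          mul_inv_cancel, OneMemClass.coe_one, Matrix.SpecialLinearGroup.coe_one,
          Matrix.one_mulVec] at hc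
        rw [neg_smul, ← sub_eq_add_neg]
        exact eq_sub_of_add_eq hc.symm }
  haveI hN : N.Normal := ⟨fun a ha g w => by
    obtain ⟨c, hc⟩ := ha (((g⁻¹ : ↥Aff) : SL5).1.mulVec w)
    refine ⟨c, ?_⟩
    have hg0 : ((g : SL5) : M5).mulVec e0 = e0 := g.2
    show ((g : SL5) * (a : SL5) * ((g⁻¹ : ↥Aff) : SL5) : SL5).1.mulVec w = _
    rw [Matrix.SpecialLinearGroup.coe_mul, Matrix.SpecialLinearGroup.coe_mul,
      ← Matrix.mulVec_mulVec, ← Matrix.mulVec_mulVec, hc, Matrix.mulVec_add, Matrix.mulVec_smul,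
      hg0, Matrix.mulVec_mulVec, ← Matrix.SpecialLinearGroup.coe_mul, ← Subgroup.coe_mul,
      mul_inv_cancel, OneMemClass.coe_one, Matrix.SpecialLinearGroup.coe_one, Matrix.one_mulVec]⟩
  obtain ⟨h1, h2, h3, h4, h5, h6, h7⟩ := transvection_facts
  rcases hs.eq_bot_or_eq_top_of_normal N hN with h | h
  · have hm : (⟨⟨Matrix.transvection 0 1 1, h4⟩, h5⟩ : ↥Aff) ∈ N := h7
    rw [h, Subgroup.mem_bot] at hm
    exact h6 (congrArg (fun a : ↥Aff => ((a : SL5) : M5)) hm)
  · have hm : (⟨⟨Matrix.transvection 1 2 1, h1⟩, h2⟩ : ↥Aff) ∈ N := h ▸ Subgroup.mem_top _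
    obtain ⟨c, hc⟩ := hm (Pi.single 2 1)
    have := congrFun (h3.symm.trans hc) 1
    simp [e0] at this

theorem not_isolated {G : Type u} [Group G] [Finite G] [IsSimpleGroup G] {z : G} (C : Cen 0 z) :
    ¬ Isolated z := by
  intro hiso
  have hz : Cfsg.IsIsolatedInvolution z := ⟨C.ord, fun g hc => hiso g hc.symm.eq⟩
  have hz1 : z ≠ 1 := fun e => by simpa [e] using C.ord
  have hcore : Cfsg.oddCore G = ⊥ := by
    refine ((inferInstance : (Cfsg.oddCore G).Normal).eq_bot_or_eq_top).resolve_right fun e => ?_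
    have h := CfsgLib.Base.odd_card_oddCore G
    rw [e, Subgroup.card_top] at h
    have h2 : 2 ∣ Nat.card G := C.ord ▸ _root_.orderOf_dvd_natCard z
    exact (Nat.not_even_iff_odd.2 h) (even_iff_two_dvd.2 h2)
  have hcent := CfsgLib.Involutions.ZStar.mem_center_of_oddCore_eq_bot hz hcore
  have htop : Subgroup.center G = ⊤ :=
    (Subgroup.Normal.eq_bot_or_eq_top inferInstance).resolve_left fun e =>
      hz1 (Subgroup.mem_bot.1 (e ▸ hcent))
  let inst : CommGroup G :=
    { ‹Group G› with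
      mul_comm := fun a b => (Subgroup.mem_center_iff.1 (htop ▸ Subgroup.mem_top b) a) }
  have hp : (Nat.card G).Prime := IsSimpleGroup.prime_card
  have h2 : Nat.card G = 2 :=
    ((Nat.prime_dvd_prime_iff_eq Nat.prime_two hp).1 (C.ord ▸ _root_.orderOf_dvd_natCard z)).symm
  have h3 : 3 ≤ Nat.card G := by
    refine le_trans (by simp) (Nat.card_le_card_of_injective (fun i : Fin 3 => C.val i.1) ?_)
    intro a b e
    exact Fin.ext (C.val_inj _ _ (by omega) (by omega) e)
  omega

/-- The recognition from the centraliser and a second central involution. -/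
theorem trichotomy_of_pieces (P : Pieces.{u}) {G : Type u} [Group G] [Finite G]
    (s : SL5) (hs : (s : M5) = Matrix.transvection 0 1 1) (z : G) (hz : orderOf z = 2)
    (e : (Subgroup.centralizer ({z} : Set G)) ≃* Subgroup.centralizer ({s} : Set SL5))
    (hnwc : ∃ g : G, g * z * g⁻¹ ∈ Subgroup.centralizer ({z} : Set G) ∧ g * z * g⁻¹ ≠ z) :
    (∃ v : Fin 5 → ZMod 2, v ≠ 0 ∧ Nonempty (G ≃* MulAction.stabilizer SL5 v)) ∨
      Nonempty (G ≃* SL5) ∨ Nonempty (G ≃* Cfsg.M24) ∨ Cfsg.Spor.IsoHe G := by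
  obtain ⟨C⟩ := cen_of_transvection s hs z hz e
  obtain ⟨g, hg, hne⟩ := hnwc
  rcases P.five z C with h | h | h
  · exact absurd (h g (Subgroup.mem_centralizer_singleton_iff.1 hg)) hne
  · exact Or.inl ⟨e0, e0_ne_zero, h⟩
  · exact Or.inr h

/-- The simple groups with this centraliser. -/
theorem simple_of_pieces (P : Pieces.{u}) {G : Type u} [Group G] [Finite G] [IsSimpleGroup G]
    (s : SL5) (hs : (s : M5) = Matrix.transvection 0 1 1) (j : G) (hj : orderOf j = 2)
    (e : (Subgroup.centralizer ({j} : Set G)) ≃* Subgroup.centralizer ({s} : Set SL5)) :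
    Nonempty (G ≃* SL5) ∨ Nonempty (G ≃* Cfsg.M24) ∨ Cfsg.Spor.IsoHe G := by
  obtain ⟨C⟩ := cen_of_transvection s hs j hj e
  rcases P.five j C with h | ⟨⟨f⟩⟩ | h
  · exact absurd h (not_isolated C)
  · exact absurd f.symm.isSimpleGroup not_simple_Aff
  · exact h

theorem card_M24 {G : Type u} [Group G] (h : Nonempty (G ≃* Cfsg.M24)) :
    Nat.card G = 244823040 := by
  obtain ⟨f⟩ := h
  rw [Nat.card_congr f.toEquiv, CfsgLib.Spor.natCard_M24]

theorem card_He {G : Type u} [Group G] (h : Cfsg.Spor.IsoHe G) : Nat.card G = 4030387200 := by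
  obtain ⟨f⟩ := h
  rw [Nat.card_congr f.toEquiv, Cfsg.Agent.S1695.result.2]

theorem card_SL5 {G : Type u} [Group G] (h : Nonempty (G ≃* SL5)) :
    Nat.card G ≤ 33554432 := by
  obtain ⟨f⟩ := h
  rw [Nat.card_congr f.toEquiv]
  refine le_trans (Nat.card_le_card_of_injective (fun a : SL5 => (a : Fin 5 → Fin 5 → ZMod 2))
    fun a b h => Subtype.ext h) ?_
  show Nat.card (Fin 5 → Fin 5 → ZMod 2) ≤ _
  rw [Nat.card_fun, Nat.card_fun, Nat.card_fin, Nat.card_zmod]
  norm_num

/-- The names of the simple groups. -/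
theorem simple_names_of_pieces (P : Pieces.{u}) {G : Type u} [Group G] [Finite G] [IsSimpleGroup G]
    (s : SL5) (hs : (s : M5) = Matrix.transvection 0 1 1) (j : G) (hj : orderOf j = 2)
    (e : (Subgroup.centralizer ({j} : Set G)) ≃* Subgroup.centralizer ({s} : Set SL5)) :
    Nonempty (G ≃* SL5) ∨ Cfsg.IsM24 G ∨ Cfsg.IsHe G :=
  (simple_of_pieces P s hs j hj e).imp_right fun h =>
    h.imp (fun h => ⟨inferInstance, card_M24 h⟩) fun h => ⟨inferInstance, card_He h⟩

/-- The simple groups of the same order are isomorphic. -/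
theorem unique_of_pieces (P : Pieces.{u}) (P' : Pieces.{v}) {G : Type u} {H : Type v} [Group G]
    [Finite G] [IsSimpleGroup G] [Group H] [Finite H] [IsSimpleGroup H] (s : SL5)
    (hs : (s : M5) = Matrix.transvection 0 1 1) (j : G) (k : H) (hj : orderOf j = 2)
    (hk : orderOf k = 2)
    (e : (Subgroup.centralizer ({j} : Set G)) ≃* Subgroup.centralizer ({s} : Set SL5))
    (f : (Subgroup.centralizer ({k} : Set H)) ≃* Subgroup.centralizer ({s} : Set SL5))
    (hcard : Nat.card G = Nat.card H) : Nonempty (G ≃* H) := by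
  rcases simple_of_pieces P s hs j hj e with hG | hG | hG <;>
    rcases simple_of_pieces P' s hs k hk f with hH | hH | hH
  · exact ⟨hG.some.trans hH.some.symm⟩
  · have := card_SL5 hG; have := card_M24 hH; omega
  · have := card_SL5 hG; have := card_He hH; omega
  · have := card_M24 hG; have := card_SL5 hH; omega
  · exact ⟨hG.some.trans hH.some.symm⟩
  · have := card_M24 hG; have := card_He hH; omega
  · have := card_He hG; have := card_SL5 hH; omega
  · have := card_He hG; have := card_M24 hH; omega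
  · obtain ⟨a⟩ := hG
    obtain ⟨b⟩ := hH
    exact ⟨a.trans b.symm⟩

end CfsgLib.Spor.HeTri
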