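import Cfsg.Prelude.Def_MonsterType
import Cfsg.Prelude.Def_Transfer

/-!
# Held type, with meets of extraspecial groups that are not fused
-/

set_option autoImplicit false

namespace CfsgLib.Spor.HeTri

universe u

/-- For every conjugate `g z g⁻¹ ≠ z` of `z` in `R`, the point `z` lies in the conjugate of `R`
and the meet of the two contains an element not conjugate to `z`. -/
def Meet {X : Type u} [Group X] (z : X) (R : Subgroup X) : Prop :=
  ∀ g : X, g * z * g⁻¹ ∈ R → g * z * g⁻¹ ≠ z →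
    g⁻¹ * z * g ∈ R ∧ ∃ y ∈ R, g⁻¹ * y * g ∈ R ∧ y ≠ 1 ∧ ¬ IsConj y z

/-- The centraliser of `z` is of Held type and the meets are not fused. -/
def MeetType {X : Type u} [Group X] (z : X) : Prop :=
  ∃ (R : Subgroup (Subgroup.centralizer ({z} : Set X))) (_ : R.Normal),
    Cfsg.IsExtraspecialCentralizerSetting z R 3 ∧
    Nonempty (↥(Subgroup.centralizer ({z} : Set X)) ⧸ R ≃*
      Matrix.SpecialLinearGroup (Fin 3) (ZMod 2)) ∧
    (∃ E : Subgroup R, Cfsg.IsElementaryAbelian 2 E ∧ Nat.card E = 2 ^ 4) ∧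
    Set.ncard {x : Subgroup.centralizer ({z} : Set X) | x ∈ R ∧ IsConj z (x : X)} = 29 ∧
    Meet z (R.map (Subgroup.subtype _))

end CfsgLib.Spor.HeTri
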