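import Cfsg.Agent.Lib.Spor.HeTri.NormalABasic

/-!
# The vector stabiliser seen from the elementary abelian group

An element `x` of the stabiliser of `e0` acts on the vectors `r` with `r 0 = 0` by `r ᵥ* x⁻¹`;
`fv x` is the crossed map to these vectors.
-/

set_option autoImplicit false
set_option linter.unusedSectionVars false
set_option maxRecDepth 100000

namespace CfsgLib.Spor.HeTri

open CfsgLib.Spor.HeRecog Matrix

universe u

/-- the vector with a given code -/
def tv (v : ℕ) : Fin 5 → ZMod 2 :=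
  fun j => if (j : ℕ) = 0 then 0 else ((v / 2 ^ ((j : ℕ) - 1) % 2 : ℕ) : ZMod 2)

theorem tv_surj : ∀ r : Fin 5 → ZMod 2, r 0 = 0 → ∃ v ∈ List.range 16, tv v = r := by
  decide +kernel

theorem tv_check : ∀ v ∈ List.range 16, ∀ w ∈ List.range 16,
    tv (Nat.xor v w) = tv v + tv w ∧ (tv v = tv w → v = w) := by
  decide +kernel

theorem tv_add {v w : ℕ} (hv : v < 16) (hw : w < 16) : tv (v ^^^ w) = tv v + tv w :=
  (tv_check v (List.mem_range.2 hv) w (List.mem_range.2 hw)).1

theorem tv_inj {v w : ℕ} (hv : v < 16) (hw : w < 16) (h : tv v = tv w) : v = w :=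
  (tv_check v (List.mem_range.2 hv) w (List.mem_range.2 hw)).2 h

theorem exists_tv {r : Fin 5 → ZMod 2} (h : r 0 = 0) : ∃ v < 16, tv v = r := by
  obtain ⟨v, hv, e⟩ := tv_surj r h
  exact ⟨v, List.mem_range.1 hv, e⟩

theorem tv_at_zero (v : ℕ) : tv v 0 = 0 := rfl

theorem mat_aN : ∀ v ∈ List.range 16, mat (aN v) = 1 + vecMulVec e0 (tv v) := by decide +kernel

theorem mat_gens : ∀ g ∈ gL, e0 ᵥ* mat g = e0 := by decide +kernel

theorem add_self_vec (r : Fin 5 → ZMod 2) : r + r = 0 :=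
  funext fun i => CharTwo.add_self_eq_zero (r i)

theorem eq_of_add_eq_zero_vec {r s : Fin 5 → ZMod 2} (h : r + s = 0) : r = s := by
  have h' := congrArg (· + s) h
  simp only [add_assoc, add_self_vec, add_zero, zero_add] at h'
  exact h'

theorem e0_vec_mat {v : ℕ} (hv : v < 16) : e0 ᵥ* mat (aN v) = e0 + tv v := by
  rw [mat_aN v (List.mem_range.2 hv), vecMul_add, vecMul_one, vecMul_vecMulVec]
  simp [e0]

/-- the matrix of the inverse of an element of the stabiliser -/
def invM (x : ↥Aff) : M5 := (((x⁻¹ : ↥Aff) : SL5) : M5)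

theorem aff_fix (x : ↥Aff) : ((x : SL5) : M5) *ᵥ e0 = e0 :=
  MulAction.mem_stabilizer_iff.1 x.2

theorem invM_fix (x : ↥Aff) : invM x *ᵥ e0 = e0 := aff_fix x⁻¹

theorem invM_mul (x y : ↥Aff) : invM (x * y) = invM y * invM x := by
  rw [invM, invM, invM, _root_.mul_inv_rev, Subgroup.coe_mul, Matrix.SpecialLinearGroup.coe_mul]

theorem invM_one : invM 1 = 1 := by
  rw [invM, inv_one, Subgroup.coe_one, Matrix.SpecialLinearGroup.coe_one]

theorem mul_invM (x : ↥Aff) : ((x : SL5) : M5) * invM x = 1 := by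
  rw [invM, ← Matrix.SpecialLinearGroup.coe_mul, ← Subgroup.coe_mul, mul_inv_cancel,
    Subgroup.coe_one, Matrix.SpecialLinearGroup.coe_one]

theorem invM_mul_self (x : ↥Aff) : invM x * ((x : SL5) : M5) = 1 := by
  rw [invM, ← Matrix.SpecialLinearGroup.coe_mul, ← Subgroup.coe_mul, inv_mul_cancel,
    Subgroup.coe_one, Matrix.SpecialLinearGroup.coe_one]

theorem vec_invM_zero (x : ↥Aff) (r : Fin 5 → ZMod 2) : (r ᵥ* invM x) 0 = r 0 := by
  have h : r ⬝ᵥ (invM x *ᵥ e0) = (r ᵥ* invM x) ⬝ᵥ e0 := dotProduct_mulVec _ _ _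
  rw [invM_fix] at h
  simpa [e0] using h.symm

theorem exists_act (x : ↥Aff) (v : ℕ) : ∃ w < 16, tv w = tv v ᵥ* invM x :=
  exists_tv (by rw [vec_invM_zero, tv_at_zero])

/-- the crossed map of the stabiliser to the vectors -/
def fv (x : ↥Aff) : Fin 5 → ZMod 2 := e0 ᵥ* invM x + e0

theorem fv_mul (x y : ↥Aff) : fv (x * y) = fv x + fv y ᵥ* invM x := by
  rw [fv, fv, fv, invM_mul, add_vecMul, vecMul_vecMul]
  generalize e0 ᵥ* (invM y * invM x) = a
  generalize e0 ᵥ* invM x = b
  calc a + e0 = a + e0 + (b + b) := by rw [add_self_vec, add_zero]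
    _ = b + e0 + (a + b) := by abel

theorem fv_one : fv 1 = 0 := by rw [fv, invM_one, vecMul_one, add_self_vec]

theorem exists_fv (x : ↥Aff) : ∃ w < 16, tv w = fv x := by
  refine exists_tv ?_
  rw [fv, Pi.add_apply, vec_invM_zero]
  exact CharTwo.add_self_eq_zero _

/-- An element fixing all vectors with trivial crossed value is trivial. -/
theorem aff_eq_one {x : ↥Aff} (hact : ∀ v < 16, tv v ᵥ* invM x = tv v) (hf : fv x = 0) :
    x = 1 := by
  have he : e0 ᵥ* invM x = e0 := eq_of_add_eq_zero_vec hf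
  have hr : ∀ r : Fin 5 → ZMod 2, r ᵥ* invM x = r := by
    intro r
    obtain ⟨v, hv, e⟩ := exists_tv (r := r + r 0 • e0) (by
      simp [e0, CharTwo.add_self_eq_zero])
    have hr : r = tv v + r 0 • e0 := by rw [e, add_assoc, add_self_vec, add_zero]
    rw [hr, add_vecMul, smul_vecMul, hact v hv, he]
  have hone : invM x = 1 := by
    ext i j
    have h := congrFun (hr (Pi.single i 1)) j
    rw [single_one_vecMul] at h
    simpa [Matrix.one_apply, Pi.single_apply, eq_comm] using h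
  refine Subtype.ext (Subtype.ext ?_)
  have h := mul_invM x
  rw [hone, mul_one] at h
  rw [h, Subgroup.coe_one, Matrix.SpecialLinearGroup.coe_one]

/-- the permutation of the second and the third coordinate -/
def swapSL : SL5 :=
  ⟨transvection 1 2 1 * transvection 2 1 1 * transvection 1 2 1, by
    rw [det_mul, det_mul, det_transvection_of_ne 1 2 (by decide),
      det_transvection_of_ne 2 1 (by decide), one_mul, one_mul]⟩

theorem swap_facts : (swapSL : M5) * (swapSL : M5) = 1 ∧ (swapSL : M5) *ᵥ e0 = e0 ∧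
    tv 1 ᵥ* (swapSL : M5) = tv 2 := by
  decide +kernel

/-- the permutation as an element of the stabiliser -/
def swapA : ↥Aff := ⟨swapSL, MulAction.mem_stabilizer_iff.2 swap_facts.2.1⟩

theorem swapA_act : tv 1 ᵥ* invM swapA = tv 2 := by
  have h : swapA⁻¹ = swapA := inv_eq_of_mul_eq_one_right (Subtype.ext (Subtype.ext (by
    rw [Subgroup.coe_mul, Matrix.SpecialLinearGroup.coe_mul, Subgroup.coe_one,
      Matrix.SpecialLinearGroup.coe_one]
    exact swap_facts.1)))
  rw [invM, h]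
  exact swap_facts.2.2

section Model

variable (hm : StmtMat)

/-- an element of the model in the stabiliser -/
def xm (m : ℕ) (hml : m < 21504) : ↥Aff :=
  ⟨⟨mat m, (hm.1 m hml).1⟩, MulAction.mem_stabilizer_iff.2 (hm.1 m hml).2.1⟩

theorem xm_mul {m n : ℕ} (h1 : m < 21504) (h2 : n < 21504) :
    xm hm (mulN 0 m n) (mulN_lt h1 0 n) = xm hm m h1 * xm hm n h2 := by
  refine Subtype.ext (Subtype.ext ?_)
  rw [Subgroup.coe_mul, Matrix.SpecialLinearGroup.coe_mul]
  exact hm.2.1 m h1 n h2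

/-- The action of the model on the vectors. -/
theorem xm_act {G : Type u} [Group G] {z : G} (D : Cen 0 z) {m v : ℕ} (hml : m < 21504)
    (hv : v < 16) : tv v ᵥ* invM (xm hm m hml) = tv (actN m v) := by
  obtain ⟨hw, e⟩ := actN_spec D hml hv
  have e' : mulN 0 m (aN v) = mulN 0 (aN (actN m v)) m := by
    refine D.val_inj _ _ (mulN_lt hml _ _) (mulN_lt (aN_lt hw) _ _) ?_
    rw [D.val_mul _ _ hml (aN_lt hv), D.val_mul _ _ (aN_lt hw) hml]
    show D.val m * aG D v = aG D (actN m v) * D.val m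
    rw [← e, inv_mul_cancel_right]
  have h := congrArg mat e'
  rw [hm.2.1 m hml _ (aN_lt hv), hm.2.1 _ (aN_lt hw) m hml, mat_aN v (List.mem_range.2 hv),
    mat_aN _ (List.mem_range.2 hw), mul_add, mul_one, add_mul, one_mul, add_right_inj,
    mul_vecMulVec, vecMulVec_mul] at h
  rw [(hm.1 m hml).2.1] at h
  have h0 : tv v = tv (actN m v) ᵥ* mat m := funext fun j => by
    simpa [vecMulVec_apply, e0] using congrFun (congrFun h 0) j
  rw [h0, vecMul_vecMul]
  show tv (actN m v) ᵥ* (((xm hm m hml : SL5) : M5) * invM (xm hm m hml)) = _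
  rw [mul_invM, vecMul_one]

theorem fv_xm_gen {g : ℕ} (hg : g ∈ gL) (hgl : g < 21504) : fv (xm hm g hgl) = 0 := by
  have h : e0 ᵥ* ((xm hm g hgl : SL5) : M5) = e0 := mat_gens g hg
  have h' : e0 ᵥ* invM (xm hm g hgl) = e0 := by
    conv_lhs => rw [← h]
    rw [vecMul_vecMul, mul_invM, vecMul_one]
  rw [fv, h', add_self_vec]

theorem fv_xm_aN {v : ℕ} (hv : v < 16) : fv (xm hm (aN v) (aN_lt hv)) = tv v := by
  have hself : (xm hm (aN v) (aN_lt hv))⁻¹ = xm hm (aN v) (aN_lt hv) := by
    refine inv_eq_of_mul_eq_one_right ?_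
    rw [← xm_mul]
    refine Subtype.ext (Subtype.ext ?_)
    rw [Subgroup.coe_one, Matrix.SpecialLinearGroup.coe_one]
    show mat (mulN 0 (aN v) (aN v)) = 1
    rw [(aN_mul v (List.mem_range.2 hv) v (List.mem_range.2 hv)).2,
      show Nat.xor v v = 0 from Nat.xor_self v, mat_aN 0 (by simp),
      show tv 0 = 0 from funext fun j => by simp [tv], vecMulVec_zero, add_zero]
  rw [fv, invM, hself]
  show e0 ᵥ* mat (aN v) + e0 = tv v
  rw [e0_vec_mat hv, add_comm, ← add_assoc, add_self_vec, zero_add]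

end Model

end CfsgLib.Spor.HeTri
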