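import Cfsg.Agent.Lib.Spor.HeTri.VecFacts

/-!
# The pattern of the vector stabiliser: the computations in the model
-/

set_option autoImplicit false
set_option maxRecDepth 100000
set_option maxHeartbeats 2000000

namespace CfsgLib.Spor.HeTri.Vec

open CfsgLib.Spor.HeRecog

/-- commuting in the model -/
def cmN (m n : Nat) : Bool := Nat.beq (mulN 0 m n) (mulN 0 n m)

/-- membership in a list of numbers -/
def inN (l : List Nat) (m : Nat) : Bool := l.any (Nat.beq m)

theorem cmN_iff {m n : Nat} : cmN m n = true ↔ mulN 0 m n = mulN 0 n m :=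
  Iff.of_eq Nat.beq_eq

theorem inN_iff {l : List Nat} {m : Nat} : inN l m = true ↔ m ∈ l := by
  simp [inN, List.any_eq_true]

theorem eqb {m n : Nat} : Nat.beq m n = true ↔ m = n := Iff.of_eq Nat.beq_eq

/-- the elements of the model, in blocks -/
def elsList : List Nat :=
  (List.range 128).flatMap fun q => (List.range 168).map fun j => Nat.add (Nat.mul 168 q) j

theorem elsList_mem {m : Nat} : m ∈ elsList ↔ m < 21504 := by
  simp only [elsList, List.mem_flatMap, List.mem_map, List.mem_range]
  constructor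
  · rintro ⟨q, hq, j, hj, rfl⟩
    show 168 * q + j < 21504
    omega
  · intro h
    exact ⟨m / 168, by omega, m % 168, by omega, Nat.div_add_mod m 168⟩

theorem elsList_nodup : elsList.Nodup := by
  refine List.nodup_flatMap.2 ⟨fun q _ => List.nodup_range.map fun a b h => Nat.add_left_cancel h,
    List.nodup_range.imp fun {a b} hab => ?_⟩
  intro x hxa hxb
  obtain ⟨i, hi, rfl⟩ := List.mem_map.1 hxa
  obtain ⟨j, hj, e⟩ := List.mem_map.1 hxb
  rw [List.mem_range] at hi hj
  change 168 * b + j = 168 * a + i at e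
  omega

/-- the centraliser in the model -/
def centL (u : Nat) : List Nat := elsList.filter fun g => cmN g u

/-- the elements of `A` commuting with an element -/
def caL (u : Nat) : List Nat := vecList.filter fun a => cmN a u

/-- the common centraliser in the model -/
def cent2L (u t : Nat) : List Nat := (centL u).filter fun g => cmN g t

/-- the square roots of `u` commuting with `t` -/
def rootL (u t : Nat) : List Nat := (cent2L u t).filter fun g => Nat.beq (mulN 0 g g) u

/-- the invariant of a pair -/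
def inv3 (u t : Nat) : Nat × Nat × Nat :=
  ((caL u).length, (cent2L u t).length, (rootL u t).length)

/-- pairs of classes which are not fused -/
def okPair : List (Nat × Nat) := [(1344, 1777), (1344, 190), (1344, 1366), (1680, 21), (1680, 1366)]

/-- the invariant at `z` of the targets -/
def invTgt : List (Nat × Nat × Nat × Nat) :=
  [(21, 8, 256, 16), (190, 8, 128, 8), (1366, 4, 128, 8), (1777, 8, 256, 0)]

/-- the invariants of the two sources -/
def invSrc : List (Nat × List (Nat × Nat × Nat)) :=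
  [(1344, [(8, 256, 16), (8, 1536, 48)]), (1680, [(8, 128, 8), (8, 256, 0), (8, 512, 16)])]

theorem invTgt_spec : (invTgt.all fun p => decide (inv3 p.1 zN = p.2)) = true := by decide +kernel

theorem invSrc_spec : (invSrc.all fun p =>
    (caL p.1).all fun t => Nat.beq t 0 || decide (inv3 p.1 t ∈ p.2)) = true := by decide +kernel

theorem okPair_spec : ∀ p ∈ okPair, (p.1 = 1344 ∨ p.1 = 1680) ∧ p.2 < 21504 ∧
    ∃ s ∈ invSrc, s.1 = p.1 ∧ ∃ t ∈ invTgt, t.1 = p.2 ∧ t.2 ∉ s.2 := by decide +kernel

/-- representative, commutator, an element moved, two fixed elements -/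
def goodTbl : List (Nat × Nat × Nat × Nat × Nat) :=
  [(21, 840, 168, 336, 840), (190, 1008, 336, 168, 1008), (1344, 10752, 168, 336, 672),
   (1680, 10752, 168, 336, 672), (1777, 11088, 168, 336, 672)]

theorem goodTbl_spec : ∀ p ∈ goodTbl, p.1 < 21504 ∧ mulN 0 p.1 p.1 = 0 ∧
    p.2.1 ∈ vecList ∧ p.2.1 ≠ 0 ∧ cmN p.2.1 p.1 = true ∧
    (∀ a ∈ vecList, mulN 0 (cjN 0 p.1 a) a = 0 ∨ mulN 0 (cjN 0 p.1 a) a = p.2.1) ∧
    p.2.2.1 ∈ vecList ∧ mulN 0 (cjN 0 p.1 p.2.2.1) p.2.2.1 = p.2.1 ∧
    p.2.2.2.1 ∈ vecList ∧ p.2.2.2.2 ∈ vecList ∧ p.2.2.2.1 ≠ 0 ∧ p.2.2.2.2 ≠ 0 ∧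
    p.2.2.2.1 ≠ p.2.2.2.2 ∧ cmN p.2.2.2.1 p.1 = true ∧ cmN p.2.2.2.2 p.1 = true := by
  decide +kernel

theorem goodTbl_z : (1344, 10752, 168, 336, 672) ∈ goodTbl ∧
    (1680, 10752, 168, 336, 672) ∈ goodTbl := by decide +kernel

/-- the classes whose centralisers lie in the normaliser of `A` -/
def easyL : List Nat :=
  clsOf 0 21 ++ clsOf 0 190 ++ clsOf 0 1344 ++ clsOf 0 1680 ++ clsOf 0 1777 ++
    (zN :: clsOf 0 168)

/-- the check of a step for the four-group or pair `J`, the element `v` and the cases left -/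
def stepOK (J : List Nat) (v r : Nat) (hard : List (List Nat)) : Bool :=
  J.all (fun j => Nat.ble (Nat.add j 1) 21504 && cmN v j &&
    J.all (fun l => inN J (mulN 0 j l) && cmN j l) && !inN vecList (mulN 0 v j) &&
      (Nat.beq j 0 || !Nat.beq (mulN 0 (mulN 0 j v) (mulN 0 j v)) 0 ||
        okPair.any fun p => Nat.beq p.1 r && inN (clsOf 0 p.2) (mulN 0 j v))) &&
  inN J 0 && !inN J v && inN (clsOf 0 r) v && inN [1344, 1680] r &&
  allEls fun m => !(cmN m v && J.all (fun j => cmN m j) && inN J (mulN 0 m m)) || inN J m ||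
    J.any (fun j => inN easyL (mulN 0 m j)) ||
    hard.any fun K => K.all fun x => inN J x || J.any fun j => Nat.beq (mulN 0 m j) x

/-- the four-groups left by the first step -/
def hardJ : List (List Nat) :=
  [[0, 1366, 9134, 10548], [0, 1366, 8126, 9540], [0, 1366, 18878, 20292],
   [0, 1366, 19886, 21300]]

theorem step_first : stepOK [0, 1366] 9072 1680 hardJ = true := by decide +kernel

theorem step_hard : (stepOK [0, 1366, 9134, 10548] 2352 1680 [] &&
    stepOK [0, 1366, 8126, 9540] 12096 1344 [] &&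
    stepOK [0, 1366, 18878, 20292] 2352 1680 [] &&
    stepOK [0, 1366, 19886, 21300] 12096 1344 []) = true := by decide +kernel

theorem bad_facts : mulN 0 1366 1366 = 0 ∧ 1366 ∈ reps ∧ 1008 ∈ vecList ∧
    cmN 1008 1366 = true ∧ 1366 ∉ vecList ∧ clsOf 0 zN = [zN] := by decide +kernel

end CfsgLib.Spor.HeTri.Vec
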