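import Cfsg.Agent.Lib.Spor.HeTri.Interface

/-!
# The pattern of the vector stabiliser: the conjugates of `z` in the normaliser of `A`

For this pattern the conjugates of `z` commuting with a given one form, together with the identity,
a conjugate of the elementary group `A`.
-/

set_option autoImplicit false
set_option maxRecDepth 100000
set_option linter.unusedSectionVars false

namespace CfsgLib.Spor.HeTri

open CfsgLib.Spor.HeRecog Subgroup

universe u

/-- the elements of the elementary group -/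
def vecList : List ℕ := 0 :: zN :: clsOf 0 168

theorem vecList_facts : vecList.length = 16 ∧ vecList.Nodup ∧ zN ∈ vecList ∧
    (∀ m ∈ vecList, m < 21504) ∧
    (∀ m ∈ vecList, ∀ n ∈ vecList, mulN 0 m n ∈ vecList ∧ mulN 0 m n = mulN 0 n m) ∧
    (∀ m ∈ vecList, mulN 0 m m = 0 ∧ (m = 0 ∨ m = zN ∨ m ∈ clsOf 0 168)) ∧
    168 ∈ clsOf 0 168 ∧ clsOf 0 zN = [zN] ∧
    ∀ p ∈ clsL 0, p.1 = zN ∨ p.1 ∈ reps := by decide +kernel

theorem vec_invariant : allEls (fun n => (clsOf 0 168).any fun b => Nat.beq (cjN 0 n 168) b) = true := by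
  decide +kernel

theorem cls168_conj {n : ℕ} (hn : n < 21504) : cjN 0 n 168 ∈ clsOf 0 168 := by
  have h := allEls_spec vec_invariant n hn
  obtain ⟨b, hb, e⟩ := List.any_eq_true.1 h
  exact (Nat.eq_of_beq_eq_true e).symm ▸ hb

variable {G : Type u} [Group G] [Finite G] {z : G}

/-- the elementary group spanned by the class `168` -/
def vecA (D : Cen 0 z) : Subgroup G :=
  Subgroup.closure (D.val '' {m | m = zN ∨ m ∈ clsOf 0 168})

theorem mem_vecA {D : Cen 0 z} {g : G} : g ∈ vecA D ↔ ∃ m ∈ vecList, D.val m = g := by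
  obtain ⟨-, -, -, hlt, hmul, hsq, -⟩ := vecList_facts
  constructor
  · intro hg
    induction hg using Subgroup.closure_induction with
    | mem x hx =>
      obtain ⟨m, hm, rfl⟩ := hx
      exact ⟨m, by rcases hm with h | h <;> simp [vecList, h], rfl⟩
    | one => exact ⟨0, by simp [vecList], D.val_zero⟩
    | mul x y _ _ hx hy =>
      obtain ⟨m, hm, rfl⟩ := hx
      obtain ⟨n, hn, rfl⟩ := hy
      exact ⟨_, (hmul m hm n hn).1, D.val_mul m n (hlt m hm) (hlt n hn)⟩
    | inv x _ hx =>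
      obtain ⟨m, hm, rfl⟩ := hx
      refine ⟨m, hm, eq_inv_of_mul_eq_one_left ?_⟩
      rw [← D.val_mul m m (hlt m hm) (hlt m hm), (hsq m hm).1, D.val_zero]
  · rintro ⟨m, hm, rfl⟩
    rcases (hsq m hm).2 with rfl | h | h
    · rw [D.val_zero]; exact one_mem _
    · exact subset_closure ⟨m, Or.inl h, rfl⟩
    · exact subset_closure ⟨m, Or.inr h, rfl⟩

theorem vecA_comm {D : Cen 0 z} {a b : G} (ha : a ∈ vecA D) (hb : b ∈ vecA D) :
    a * b = b * a := by
  obtain ⟨-, -, -, hlt, hmul, -⟩ := vecList_facts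
  obtain ⟨m, hm, rfl⟩ := mem_vecA.1 ha
  obtain ⟨n, hn, rfl⟩ := mem_vecA.1 hb
  exact D.val_commute (hlt m hm) (hlt n hn) (hmul m hm n hn).2

theorem z_mem_vecA (D : Cen 0 z) : z ∈ vecA D :=
  mem_vecA.2 ⟨zN, vecList_facts.2.2.1, D.val_z⟩

theorem card_vecA (D : Cen 0 z) : Nat.card (vecA D) = 16 := by
  rw [← vecList_facts.1, ← D.card_image vecList_facts.2.2.2.1 vecList_facts.2.1]
  exact Nat.card_congr (Equiv.subtypeEquivRight fun g => mem_vecA)

theorem isConj_z_of_mem {D : Cen 0 z} (hP : Pattern D vecT) {a : G} (ha : a ∈ vecA D) (h1 : a ≠ 1) :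
    IsConj z a := by
  obtain ⟨m, hm, rfl⟩ := mem_vecA.1 ha
  rcases (vecList_facts.2.2.2.2.2.1 m hm).2 with rfl | rfl | h
  · exact absurd D.val_zero h1
  · rw [D.val_z]
  · exact ((hP 168 (by simp [reps])).2 (by simp [vecT])).symm.trans (D.cls_isConj h)

/-- The conjugates of `z` commuting with `z` lie in `A`. -/
theorem mem_of_comm_z {D : Cen 0 z} (hP : Pattern D vecT) {x : G} (hx : IsConj z x)
    (hc : x * z = z * x) : x ∈ vecA D := by
  have ho : orderOf x = 2 := by
    obtain ⟨g, rfl⟩ := isConj_iff.1 hx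
    rw [← D.ord]
    exact (MulAut.conj g).orderOf_eq z
  obtain ⟨m, hm, rfl, p, hp, hmp⟩ := D.invol_val ho hc
  obtain ⟨-, -, -, -, -, -, -, hzc, hreps⟩ := vecList_facts
  rcases hreps p hp with h | h
  · rw [h, hzc, List.mem_singleton] at hmp
    rw [hmp, D.val_z]
    exact z_mem_vecA D
  · have h2 := (hP p.1 h).1 ((D.cls_isConj hmp).trans hx.symm)
    rw [vecT, List.mem_singleton] at h2
    exact mem_vecA.2 ⟨m, by simp [vecList, ← h2, hmp], rfl⟩

theorem cent_le_normalizer (D : Cen 0 z) :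
    centralizer ({z} : Set G) ≤ normalizer (vecA D : Set G) := by
  have key : ∀ g : G, g * z = z * g → ∀ a ∈ vecA D, g * a * g⁻¹ ∈ vecA D := by
    intro g hg a ha
    obtain ⟨n, hn, rfl⟩ := D.val_surj g hg
    obtain ⟨m, hm, rfl⟩ := mem_vecA.1 ha
    obtain ⟨-, -, -, hlt, -, hsq, h168, -⟩ := vecList_facts
    rcases (hsq m hm).2 with rfl | rfl | h
    · rw [D.val_zero, mul_one, mul_inv_cancel]; exact one_mem _
    · rw [D.val_z, D.val_comm n hn, mul_inv_cancel_right]; exact z_mem_vecA D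
    · obtain ⟨k, hk, hkm, h168lt, -⟩ := D.cls_conj h
      rw [← hkm, D.val_cj hk h168lt,
        show D.val n * (D.val k * D.val 168 * (D.val k)⁻¹) * (D.val n)⁻¹ =
          D.val n * D.val k * D.val 168 * (D.val n * D.val k)⁻¹ by group,
        ← D.val_mul n k hn hk, ← D.val_cj (mulN_lt hn 0 k) h168lt]
      exact mem_vecA.2 ⟨_, by simp [vecList, cls168_conj (mulN_lt hn 0 k)], rfl⟩
  intro g hg
  have hg' := mem_centralizer_singleton_iff.1 hg
  refine mem_normalizer_iff.2 fun a => ⟨key g hg' a, fun h => ?_⟩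
  have := key g⁻¹ (Commute.inv_left (show Commute g z from hg')).eq _ h
  rwa [show g⁻¹ * (g * a * g⁻¹) * g⁻¹⁻¹ = a by group] at this

/-- The normaliser of `A` moves `z` to every element of `A`, and the conjugates of `z` commuting
with one of them lie in `A`. -/
theorem vec_clique {D : Cen 0 z} (hP : Pattern D vecT) {t : G} (ht : t ∈ vecA D) (h1 : t ≠ 1) :
    (∃ h ∈ normalizer (vecA D : Set G), h * z * h⁻¹ = t) ∧
      ∀ x, IsConj z x → x * t = t * x → x ∈ vecA D := by
  obtain ⟨h, rfl⟩ := isConj_iff.1 (isConj_z_of_mem hP ht h1)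
  have hle : (vecA D).map (MulAut.conj h⁻¹).toMonoidHom ≤ vecA D := by
    rintro _ ⟨a, ha, rfl⟩
    show h⁻¹ * a * h⁻¹⁻¹ ∈ vecA D
    rcases eq_or_ne a 1 with rfl | ha1
    · rw [mul_one, mul_inv_cancel]; exact one_mem _
    refine mem_of_comm_z hP ((isConj_z_of_mem hP ha ha1).trans (isConj_iff.2 ⟨h⁻¹, rfl⟩)) ?_
    have := vecA_comm ha ht
    calc h⁻¹ * a * h⁻¹⁻¹ * z = h⁻¹ * (a * (h * z * h⁻¹)) * h := by group
      _ = h⁻¹ * (h * z * h⁻¹ * a) * h := by rw [this]
      _ = _ := by group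
  have heq := Subgroup.eq_of_le_of_card_ge hle (by
    rw [Subgroup.card_map_of_injective (f := (MulAut.conj h⁻¹).toMonoidHom)
      (MulAut.conj h⁻¹).injective])
  have hN : h⁻¹ ∈ normalizer (vecA D : Set G) := mem_normalizer_iff.2 fun w => by
    conv_rhs => rw [← heq]
    exact (mem_map_iff_mem (f := (MulAut.conj h⁻¹).toMonoidHom) (MulAut.conj h⁻¹).injective).symm
  refine ⟨⟨h, by simpa using inv_mem hN, rfl⟩, fun x hx hc => ?_⟩
  have hy : h⁻¹ * x * h⁻¹⁻¹ ∈ vecA D := by
    refine mem_of_comm_z hP (hx.trans (isConj_iff.2 ⟨h⁻¹, rfl⟩)) ?_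
    calc h⁻¹ * x * h⁻¹⁻¹ * z = h⁻¹ * (x * (h * z * h⁻¹)) * h := by group
      _ = h⁻¹ * (h * z * h⁻¹ * x) * h := by rw [hc]
      _ = _ := by group
  exact (mem_normalizer_iff.1 hN x).2 hy

/-- The conjugates of `z` in the normaliser of `A` lie in `A`. -/
theorem mem_of_mem_normalizer {D : Cen 0 z} (hP : Pattern D vecT) {x : G}
    (hx : IsConj z x) (hN : x ∈ normalizer (vecA D : Set G)) : x ∈ vecA D := by
  have hxx : x * x = 1 := by
    obtain ⟨g, rfl⟩ := isConj_iff.1 hx
    rw [show g * z * g⁻¹ * (g * z * g⁻¹) = g * (z * z) * g⁻¹ by group, D.zz, mul_one,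
      mul_inv_cancel]
  have hxi : x⁻¹ = x := inv_eq_of_mul_eq_one_right hxx
  have hz : z ≠ 1 := fun h => by
    have := D.ord
    rw [h, orderOf_one] at this
    norm_num at this
  set b := x * z * x⁻¹ with hb
  have hbA : b ∈ vecA D := (mem_normalizer_iff.1 hN z).1 (z_mem_vecA D)
  by_cases h : b = z
  · exact mem_of_comm_z hP hx (mul_inv_eq_iff_eq_mul.1 h)
  · have hzb : z * b ≠ 1 := fun e => h (by
      rw [← D.zinv]; exact (inv_eq_of_mul_eq_one_right e).symm)
    refine (vec_clique hP (mul_mem (z_mem_vecA D) hbA) hzb).2 x hx ?_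
    have hcz : z * b = b * z := vecA_comm (z_mem_vecA D) hbA
    have hxb : x * b * x⁻¹ = z := by
      calc x * b * x⁻¹ = (x * x) * z * (x * x)⁻¹ := by rw [hb]; group
        _ = z := by rw [hxx, one_mul, inv_one, mul_one]
    calc x * (z * b) = x * z * x⁻¹ * (x * b * x⁻¹) * x := by group
      _ = z * b * x := by rw [← hb, hxb, hcz]

theorem vec_fusion {D : Cen 0 z} (hP : Pattern D vecT) {x : G} (hx : IsConj z x)
    (hN : x ∈ normalizer (vecA D : Set G)) :
    ∃ h ∈ normalizer (vecA D : Set G), h * z * h⁻¹ = x := by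
  refine (vec_clique hP (mem_of_mem_normalizer hP hx hN) fun e => ?_).1
  obtain ⟨g, rfl⟩ := isConj_iff.1 hx
  rw [conj_eq_one_iff] at e
  have := D.ord
  rw [e, orderOf_one] at this
  norm_num at this

/-- The elements of the vector stabiliser pattern outside `A` are not conjugate to `z`. -/
theorem vec_not_isConj {D : Cen 0 z} (hP : Pattern D vecT) {x : G}
    (hN : x ∈ normalizer (vecA D : Set G)) (hA : x ∉ vecA D) : ¬ IsConj z x :=
  fun h => hA (mem_of_mem_normalizer hP h hN)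

theorem iso_of_top {D : Cen 0 z} (N : NormalA D) (h : normalizer (vecA D : Set G) = ⊤) :
    Nonempty (G ≃* ↥Aff) :=
  ⟨(MulEquiv.ofBijective N.ψ
    ⟨N.inj, MonoidHom.range_eq_top.1 (N.normal.trans h)⟩).symm⟩

end CfsgLib.Spor.HeTri
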