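import Cfsg.Agent.Lib.Spor.HeTri.VecCheck
import Cfsg.Agent.Lib.Involutions.ZStar.Main
import Cfsg.Agent.Lib.Coprime.Action2
import Cfsg.Agent.Lib.Base.Cores

/-!
# The pattern of the vector stabiliser: the centralisers of the involutions of the normaliser
-/

set_option autoImplicit false
set_option maxRecDepth 100000
set_option linter.unusedSectionVars false
set_option linter.style.haveILetI false

namespace CfsgLib.Spor.HeTri.Vec

open CfsgLib.Spor.HeRecog Subgroup Cfsg

universe u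

variable {G : Type u} [Group G] [Finite G] {z : G}

/-- the normaliser of `A` -/
abbrev nA (D : Cen 0 z) : Subgroup G := normalizer (vecA D : Set G)

theorem val_cm {D : Cen 0 z} {m n : ℕ} (hm : m < 21504) (hn : n < 21504) :
    cmN m n = true ↔ D.val m * D.val n = D.val n * D.val m :=
  ⟨fun h => D.val_commute hm hn (cmN_iff.1 h), fun h => cmN_iff.2 (D.mul_val_eq hm hn h)⟩

theorem vec_lt {m : ℕ} (h : m ∈ vecList) : m < 21504 := vecList_facts.2.2.2.1 m h

theorem vecA_sq {D : Cen 0 z} {a : G} (ha : a ∈ vecA D) : a * a = 1 := by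
  obtain ⟨m, hm, rfl⟩ := mem_vecA.1 ha
  rw [← D.val_mul m m (vec_lt hm) (vec_lt hm), (vecList_facts.2.2.2.2.2.1 m hm).1, D.val_zero]

theorem mem_nA_of_mem {D : Cen 0 z} {a : G} (ha : a ∈ vecA D) : a ∈ nA D := le_normalizer ha

theorem val_mem_nA (D : Cen 0 z) {m : ℕ} (hm : m < 21504) : D.val m ∈ nA D :=
  cent_le_normalizer D (mem_centralizer_singleton_iff.2 (D.val_comm m hm))

variable {D : Cen 0 z} (hP : Pattern D vecT)
include hP

theorem vec_move {t g : G} (ht : t ∈ vecA D) (h1 : t ≠ 1) (h : g * t * g⁻¹ ∈ nA D) :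
    g ∈ nA D := by
  obtain ⟨⟨a, ha, ha'⟩, -⟩ := vec_clique hP ht h1
  have hx : IsConj z (g * t * g⁻¹) :=
    (isConj_z_of_mem hP ht h1).trans (isConj_iff.2 ⟨g, rfl⟩)
  obtain ⟨b, hb, hb'⟩ := vec_fusion hP hx h
  subst ha'
  have hc : b⁻¹ * g * a ∈ centralizer ({z} : Set G) := by
    rw [mem_centralizer_singleton_iff]
    calc b⁻¹ * g * a * z = b⁻¹ * (g * (a * z * a⁻¹) * g⁻¹) * g * a := by group
      _ = z * (b⁻¹ * g * a) := by rw [← hb']; group
  have := mul_mem (mul_mem hb (cent_le_normalizer D hc)) (inv_mem ha)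
  rwa [show b * (b⁻¹ * g * a) * a⁻¹ = g by group] at this

theorem cent_le_of_mem {t : G} (ht : t ∈ vecA D) (h1 : t ≠ 1) :
    centralizer ({t} : Set G) ≤ nA D := fun g hg => vec_move hP ht h1 (by
  rw [mem_centralizer_singleton_iff.1 hg, mul_inv_cancel_right]
  exact mem_nA_of_mem ht)

/-- An involution with commutator group of order two on `A` has its centraliser in the normaliser,
and the commutator is central in it. -/
theorem good_cent {u c a0 t1 t2 : G} (hcu : c * u = u * c) (hc : c ∈ vecA D) (hc1 : c ≠ 1)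
    (hcom : ∀ a ∈ vecA D, u * a * u⁻¹ * a = 1 ∨ u * a * u⁻¹ * a = c)
    (ha0 : a0 ∈ vecA D) (ha0' : u * a0 * u⁻¹ * a0 = c)
    (h1 : t1 ∈ vecA D) (h1' : t1 ≠ 1) (h1u : t1 * u = u * t1)
    (h2 : t2 ∈ vecA D) (h2' : t2 ≠ 1) (h2u : t2 * u = u * t2) (h12 : t1 ≠ t2) :
    centralizer ({u} : Set G) ≤ nA D ∧ ∀ g : G, g * u = u * g → g * c * g⁻¹ = c := by
  have hfix : ∀ g : G, g * u = u * g → g ∈ nA D → g * c * g⁻¹ = c := by
    intro g hg hN
    have e : g * c * g⁻¹ = u * (g * a0 * g⁻¹) * u⁻¹ * (g * a0 * g⁻¹) := by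
      have e1 : g * u * g⁻¹ = u := by rw [hg, mul_inv_cancel_right]
      calc g * c * g⁻¹ = g * u * g⁻¹ * (g * a0 * g⁻¹) * (g * u * g⁻¹)⁻¹ * (g * a0 * g⁻¹) := by
            rw [← ha0']; group
        _ = _ := by rw [e1]
    rcases hcom _ ((mem_normalizer_iff.1 hN a0).1 ha0) with h | h
    · exact absurd (conj_eq_one_iff.1 (e.trans h)) hc1
    · exact e.trans h
  set M := centralizer ({u} : Set G) with hM
  have hcM : c ∈ M := mem_centralizer_singleton_iff.2 hcu
  have hc2 : orderOf (⟨c, hcM⟩ : M) = 2 := by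
    refine orderOf_eq_prime ?_ fun e => hc1 (congrArg Subtype.val e)
    rw [pow_two]
    exact Subtype.ext (vecA_sq hc)
  have hiso : IsIsolatedInvolution (⟨c, hcM⟩ : M) := by
    refine ⟨hc2, fun g hg => Subtype.ext ?_⟩
    have hg' : (g : G) * c * (g : G)⁻¹ * c = c * ((g : G) * c * (g : G)⁻¹) := by
      have := congrArg Subtype.val hg.eq
      simpa using this.symm
    have hmem := (vec_clique hP hc hc1).2 _
      ((isConj_z_of_mem hP hc hc1).trans (isConj_iff.2 ⟨g, rfl⟩)) hg'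
    simpa using hfix g (mem_centralizer_singleton_iff.1 g.2)
      (vec_move hP hc hc1 (mem_nA_of_mem hmem))
  have hle : M ≤ nA D := by
    let K : Subgroup G := (oddCore M).map M.subtype
    have hKH : K ≤ nA D := by
      let B : Subgroup G := vecA D ⊓ M
      haveI : IsMulCommutative B :=
        ⟨⟨fun a b => Subtype.ext (vecA_comm a.2.1 b.2.1)⟩⟩
      have m1 : t1 ∈ B := ⟨h1, mem_centralizer_singleton_iff.2 h1u⟩
      have m2 : t2 ∈ B := ⟨h2, mem_centralizer_singleton_iff.2 h2u⟩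
      refine CfsgLib.Coprime.le_of_centralizer_le_of_not_isCyclic (A := B) ?_
        (inf_le_right.trans (CfsgLib.Base.le_normalizer_map_pPrimeCore M)) ?_ fun a ha ha1 =>
          inf_le_right.trans (cent_le_of_mem hP ha.1 ha1)
      · intro hcyc
        obtain ⟨w, hw⟩ := IsCyclic.exists_generator (α := B)
        have hw2 : (w : B) ^ 2 = 1 := Subtype.ext (by simpa [pow_two] using vecA_sq w.2.1)
        have hb : ∀ b : B, b ≠ 1 → b = w := by
          intro b hb
          obtain ⟨k, rfl⟩ := mem_zpowers_iff.1 (hw b)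
          rcases Int.even_or_odd' k with ⟨l, rfl | rfl⟩
          · exact absurd (by rw [zpow_mul, zpow_two, ← pow_two, hw2, one_zpow]) hb
          · rw [zpow_add_one, zpow_mul, zpow_two, ← pow_two, hw2, one_zpow, one_mul]
        exact h12 (congrArg Subtype.val ((hb ⟨t1, m1⟩ fun e => h1' (congrArg Subtype.val e)).trans
          (hb ⟨t2, m2⟩ fun e => h2' (congrArg Subtype.val e)).symm))
      · have hd : Nat.card B ∣ 2 ^ 4 := by
          rw [show (2 : ℕ) ^ 4 = Nat.card (vecA D) by rw [card_vecA]; norm_num]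
          exact Subgroup.card_dvd_of_le inf_le_left
        refine Nat.Coprime.coprime_dvd_left hd (Nat.Coprime.pow_left 4 (Nat.coprime_two_left.2 ?_))
        rw [Subgroup.card_map_of_injective M.subtype_injective]
        exact CfsgLib.Base.odd_card_oddCore M
    intro g hg
    obtain ⟨o, ho, d, hd, e⟩ :=
      CfsgLib.Involutions.ZStar.exists_mul_centralizer hiso (⟨g, hg⟩ : M)
    have e' : g = (o : G) * (d : G) := congrArg Subtype.val e
    rw [e']
    refine mul_mem (hKH (mem_map_of_mem _ ho)) (cent_le_of_mem hP hc hc1 ?_)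
    exact mem_centralizer_singleton_iff.2
      (congrArg Subtype.val (mem_centralizer_singleton_iff.1 hd))
  exact ⟨hle, fun g hg => hfix g hg (hle (mem_centralizer_singleton_iff.2 hg))⟩

theorem good_rep {r c a0 t1 t2 : ℕ} (h : (r, c, a0, t1, t2) ∈ goodTbl) :
    centralizer ({D.val r} : Set G) ≤ nA D ∧
      ∀ g : G, g * D.val r = D.val r * g → g * D.val c * g⁻¹ = D.val c := by
  obtain ⟨hr, -, hc, hc0, hcr, hcom, ha, hac, h1, h2, h10, h20, h12, h1r, h2r⟩ :=
    goodTbl_spec _ h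
  have hne : ∀ {m}, m ∈ vecList → m ≠ 0 → D.val m ≠ 1 := fun hm h0 e =>
    h0 (D.val_eq_one (vec_lt hm) e)
  have hca : ∀ a ∈ vecList, D.val r * D.val a * (D.val r)⁻¹ * D.val a =
      D.val (mulN 0 (cjN 0 r a) a) := fun a ha => by
    rw [D.val_mul _ _ (cjN_lt hr 0 a) (vec_lt ha), D.val_cj hr (vec_lt ha)]
  refine good_cent hP ((val_cm (vec_lt hc) hr).1 hcr) (mem_vecA.2 ⟨c, hc, rfl⟩) (hne hc hc0) ?_
    (mem_vecA.2 ⟨a0, ha, rfl⟩) (by rw [hca a0 ha, hac])
    (mem_vecA.2 ⟨t1, h1, rfl⟩) (hne h1 h10) ((val_cm (vec_lt h1) hr).1 h1r)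
    (mem_vecA.2 ⟨t2, h2, rfl⟩) (hne h2 h20) ((val_cm (vec_lt h2) hr).1 h2r)
    fun e => h12 (D.val_inj _ _ (vec_lt h1) (vec_lt h2) e)
  intro a ha
  obtain ⟨m, hm, rfl⟩ := mem_vecA.1 ha
  rw [hca m hm]
  rcases hcom m hm with e | e
  · left; rw [e, D.val_zero]
  · right; rw [e]

/-- The two classes whose centralisers centralise `z`. -/
theorem cent_z_rep {r : ℕ} (hr : r = 1344 ∨ r = 1680) {g : G}
    (hg : g * D.val r = D.val r * g) : g * z = z * g := by
  have key : ∀ {c a b d : ℕ}, c = zN → (r, c, a, b, d) ∈ goodTbl → g * z = z * g := by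
    intro c a b d hc h
    have := (good_rep hP h).2 g hg
    rw [hc, D.val_z] at this
    exact mul_inv_eq_iff_eq_mul.1 this
  rcases hr with rfl | rfl
  exacts [key rfl goodTbl_z.1, key rfl goodTbl_z.2]

theorem cent_z_cls {r v : ℕ} (hr : r = 1344 ∨ r = 1680) (hv : v ∈ clsOf 0 r) {g : G}
    (hg : g * D.val v = D.val v * g) : g * z = z * g := by
  obtain ⟨n, hn, e, hr', -⟩ := D.cls_conj hv
  have hnz := D.val_comm n hn
  have e' : D.val v = D.val n * D.val r * (D.val n)⁻¹ := by rw [← e, D.val_cj hn hr']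
  have h := cent_z_rep hP hr (g := (D.val n)⁻¹ * g * D.val n) (by
    rw [e'] at hg
    calc (D.val n)⁻¹ * g * D.val n * D.val r
        = (D.val n)⁻¹ * (g * (D.val n * D.val r * (D.val n)⁻¹)) * D.val n := by group
      _ = (D.val n)⁻¹ * (D.val n * D.val r * (D.val n)⁻¹ * g) * D.val n := by rw [hg]
      _ = _ := by group)
  calc g * z = D.val n * ((D.val n)⁻¹ * g * D.val n * ((D.val n)⁻¹ * z * D.val n)) *
        (D.val n)⁻¹ := by group
    _ = D.val n * ((D.val n)⁻¹ * g * D.val n * z) * (D.val n)⁻¹ := by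
        rw [mul_assoc (D.val n)⁻¹ z, ← hnz, inv_mul_cancel_left]
    _ = D.val n * (z * ((D.val n)⁻¹ * g * D.val n)) * (D.val n)⁻¹ := by rw [h]
    _ = (D.val n * z * (D.val n)⁻¹) * g := by group
    _ = z * g := by rw [hnz, mul_inv_cancel_right]

end CfsgLib.Spor.HeTri.Vec
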