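import Cfsg.Agent.Lib.Spor.HeTri.VecLocal

/-!
# The pattern of the vector stabiliser: classes of the model which are not fused
-/

set_option autoImplicit false
set_option maxRecDepth 100000
set_option linter.unusedSectionVars false

namespace CfsgLib.Spor.HeTri.Vec

open CfsgLib.Spor.HeRecog Subgroup

universe u

variable {G : Type u} [Group G] [Finite G] {z : G} {D : Cen 0 z}

theorem count_eq {P : G → Prop} {l : List ℕ} (hl : ∀ m ∈ l, m < 21504) (nd : l.Nodup)
    (h : ∀ x, P x ↔ ∃ m ∈ l, D.val m = x) : Nat.card {x : G // P x} = l.length := by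
  rw [← D.card_image hl nd]
  exact Nat.card_congr (Equiv.subtypeEquivRight h)

theorem centL_mem {u m : ℕ} : m ∈ centL u ↔ m < 21504 ∧ cmN m u = true := by
  rw [centL, List.mem_filter, elsList_mem]

theorem card_caL {u : ℕ} (hu : u < 21504) :
    Nat.card {x : G // x ∈ vecA D ∧ x * D.val u = D.val u * x} = (caL u).length := by
  refine count_eq (D := D) (fun m hm => vec_lt (List.mem_filter.1 hm).1)
    (vecList_facts.2.1.filter _) fun x => ?_
  constructor
  · rintro ⟨hx, hc⟩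
    obtain ⟨m, hm, rfl⟩ := mem_vecA.1 hx
    exact ⟨m, List.mem_filter.2 ⟨hm, (val_cm (vec_lt hm) hu).2 hc⟩, rfl⟩
  · rintro ⟨m, hm, rfl⟩
    obtain ⟨hm, hc⟩ := List.mem_filter.1 hm
    exact ⟨mem_vecA.2 ⟨m, hm, rfl⟩, (val_cm (vec_lt hm) hu).1 hc⟩

theorem card_cent2L {u t : ℕ} (hu : u < 21504) (ht : t < 21504) :
    Nat.card {x : G // x * z = z * x ∧ x * D.val u = D.val u * x ∧ x * D.val t = D.val t * x} =
      (cent2L u t).length := by
  refine count_eq (D := D) (fun m hm => (centL_mem.1 (List.mem_filter.1 hm).1).1)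
    ((elsList_nodup.filter _).filter _) fun x => ?_
  constructor
  · rintro ⟨hz, hc, ht'⟩
    obtain ⟨m, hm, rfl⟩ := D.val_surj x hz
    exact ⟨m, List.mem_filter.2 ⟨centL_mem.2 ⟨hm, (val_cm hm hu).2 hc⟩, (val_cm hm ht).2 ht'⟩, rfl⟩
  · rintro ⟨m, hm, rfl⟩
    obtain ⟨hm, hc⟩ := List.mem_filter.1 hm
    obtain ⟨hlt, hm⟩ := centL_mem.1 hm
    exact ⟨D.val_comm m hlt, (val_cm hlt hu).1 hm, (val_cm hlt ht).1 hc⟩

theorem card_rootL {u t : ℕ} (hu : u < 21504) (ht : t < 21504) :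
    Nat.card {x : G // (x * z = z * x ∧ x * D.val u = D.val u * x ∧ x * D.val t = D.val t * x) ∧
      x * x = D.val u} = (rootL u t).length := by
  refine count_eq (D := D)
    (fun m hm => (centL_mem.1 (List.mem_filter.1 (List.mem_filter.1 hm).1).1).1)
    (((elsList_nodup.filter _).filter _).filter _) fun x => ?_
  constructor
  · rintro ⟨⟨hz, hc, ht'⟩, hs⟩
    obtain ⟨m, hm, rfl⟩ := D.val_surj x hz
    refine ⟨m, List.mem_filter.2 ⟨List.mem_filter.2
      ⟨centL_mem.2 ⟨hm, (val_cm hm hu).2 hc⟩, (val_cm hm ht).2 ht'⟩, eqb.2 ?_⟩, rfl⟩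
    exact D.val_inj _ _ (mulN_lt hm 0 m) hu ((D.val_mul m m hm hm).trans hs)
  · rintro ⟨m, hm, rfl⟩
    obtain ⟨hm, hs⟩ := List.mem_filter.1 hm
    obtain ⟨hm, hc⟩ := List.mem_filter.1 hm
    obtain ⟨hlt, hm⟩ := centL_mem.1 hm
    exact ⟨⟨D.val_comm m hlt, (val_cm hlt hu).1 hm, (val_cm hlt ht).1 hc⟩,
      by rw [← D.val_mul m m hlt hlt, eqb.1 hs]⟩

theorem conj_comm_iff {g x y : G} :
    g * x * g⁻¹ * (g * y * g⁻¹) = g * y * g⁻¹ * (g * x * g⁻¹) ↔ x * y = y * x := by
  rw [show g * x * g⁻¹ * (g * y * g⁻¹) = g * (x * y) * g⁻¹ by group,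
    show g * y * g⁻¹ * (g * x * g⁻¹) = g * (y * x) * g⁻¹ by group]
  constructor
  · intro h; exact mul_left_cancel (mul_right_cancel h)
  · intro h; rw [h]

variable (hP : Pattern D vecT)
include hP

theorem pair_not_conj {r r' : ℕ} (h : (r, r') ∈ okPair) : ¬ IsConj (D.val r) (D.val r') := by
  intro hc
  obtain ⟨g, hg⟩ := isConj_iff.1 hc
  obtain ⟨hr, hr', s, hs, hs1, t', ht', ht1, hne⟩ := okPair_spec _ h
  change s.1 = r at hs1
  change t'.1 = r' at ht1
  change r' < 21504 at hr'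
  change r = 1344 ∨ r = 1680 at hr
  have hrlt : r < 21504 := by omega
  have hz1 : z ≠ 1 := fun e => by
    have := D.ord
    rw [e, orderOf_one] at this
    norm_num at this
  set t := g⁻¹ * z * g with ht
  have hgt : g * t * g⁻¹ = z := by rw [ht]; group
  have htr : t * D.val r = D.val r * t :=
    (conj_comm_iff (g := g)).1 (by rw [hgt, hg]; exact (D.val_comm r' hr').symm)
  have htA : t ∈ vecA D :=
    mem_of_comm_z hP (isConj_iff.2 ⟨g⁻¹, by rw [ht, inv_inv]⟩) (cent_z_rep hP hr htr)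
  have ht0 : t ≠ 1 := fun e => hz1 (by rw [← hgt, e, mul_one, mul_inv_cancel])
  have hgN : g ∈ nA D :=
    vec_move hP htA ht0 (by rw [hgt]; exact mem_nA_of_mem (z_mem_vecA D))
  obtain ⟨mt, hmt, hmt'⟩ := mem_vecA.1 htA
  have hmlt := vec_lt hmt
  have hzlt : zN < 21504 := by decide
  have e1 : (caL r).length = (caL r').length := by
    rw [← card_caL (D := D) hrlt, ← card_caL (D := D) hr']
    exact Nat.card_congr ((MulAut.conj g).toEquiv.subtypeEquiv fun x => by
      show _ ↔ g * x * g⁻¹ ∈ vecA D ∧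
        g * x * g⁻¹ * D.val r' = D.val r' * (g * x * g⁻¹)
      rw [← hg, conj_comm_iff, ← (mem_normalizer_iff.1 hgN x)])
  have key : ∀ x, (x * z = z * x ∧ x * D.val r = D.val r * x ∧ x * D.val mt = D.val mt * x) ↔
      (g * x * g⁻¹ * z = z * (g * x * g⁻¹) ∧
        g * x * g⁻¹ * D.val r' = D.val r' * (g * x * g⁻¹) ∧
        g * x * g⁻¹ * D.val zN = D.val zN * (g * x * g⁻¹)) := fun x => by
    rw [D.val_z, hmt']
    constructor
    · rintro ⟨-, a, b⟩
      have b' := (conj_comm_iff (g := g)).2 b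
      rw [hgt] at b'
      exact ⟨b', by rw [← hg]; exact conj_comm_iff.2 a, b'⟩
    · rintro ⟨b, a, -⟩
      rw [← hgt] at b
      rw [← hg] at a
      exact ⟨cent_z_rep hP hr (conj_comm_iff.1 a), conj_comm_iff.1 a, conj_comm_iff.1 b⟩
  have e2 : (cent2L r mt).length = (cent2L r' zN).length := by
    rw [← card_cent2L (D := D) hrlt hmlt, ← card_cent2L (D := D) hr' hzlt]
    exact Nat.card_congr ((MulAut.conj g).toEquiv.subtypeEquiv key)
  have e3 : (rootL r mt).length = (rootL r' zN).length := by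
    rw [← card_rootL (D := D) hrlt hmlt, ← card_rootL (D := D) hr' hzlt]
    refine Nat.card_congr ((MulAut.conj g).toEquiv.subtypeEquiv fun x =>
      and_congr (key x) ?_)
    show x * x = D.val r ↔ g * x * g⁻¹ * (g * x * g⁻¹) = D.val r'
    rw [← hg, show g * x * g⁻¹ * (g * x * g⁻¹) = g * (x * x) * g⁻¹ by group]
    exact ⟨fun e => by rw [e], fun e => mul_left_cancel (mul_right_cancel e)⟩
  have hmem : mt ∈ caL r := List.mem_filter.2 ⟨hmt, (val_cm hmlt hrlt).2 (by rw [hmt']; exact htr)⟩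
  have hmt0 : mt ≠ 0 := fun e => ht0 (by rw [← hmt', e, D.val_zero])
  have hS := List.all_eq_true.1 (List.all_eq_true.1 invSrc_spec s hs) mt (by rw [hs1]; exact hmem)
  rw [Bool.or_eq_true, eqb, decide_eq_true_eq, hs1] at hS
  have hT := List.all_eq_true.1 invTgt_spec t' ht'
  rw [decide_eq_true_eq, ht1] at hT
  refine hne (hT ▸ ?_)
  have : inv3 r' zN = inv3 r mt := by rw [inv3, inv3, e1, e2, e3]
  rw [this]
  exact hS.resolve_left hmt0

end CfsgLib.Spor.HeTri.Vec
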